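import Groth.Agent.S8093
import Groth.Agent.SSPerf.Main
import Groth.Agent.UniRad.Radical
import Groth.Agent.UniRad.Exists
import Groth.Agent.Chev.LargestNormal
import Groth.Agent.Chev.AntiAff
import Groth.Agent.RedCent.Reductive
import Groth.Agent.RootSys.TwoBorel
import Groth.Agent.AdjRep.ToGL
import Groth.Agent.S15607
import Groth.Agent.Chev.SAExt

/-!
# Groups with unipotent radical have no non-trivial characters
-/

set_option autoImplicit false
set_option linter.style.haveILetI false
set_option linter.unusedSectionVars false
set_option backward.isDefEq.respectTransparency false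

universe u

open CategoryTheory CategoryTheory.Limits MonoidalCategory CartesianMonoidalCategory MonObj GrpObj AlgebraicGeometry
open Groth.Agent.Chev Groth.Agent.Chev.Borel Groth.Agent.Chev.BorelFixed

noncomputable section

namespace Groth.Agent.GModLib

variable {k : Type u} [Field k] [IsAlgClosed k]

/-- A quotient by a subgroup with solvable points, of a group with solvable points, is solvable. -/
theorem isSolvable_ext {P U T : Over (Spec (CommRingCat.of k))} [GrpObj P] [GrpObj U] [GrpObj T] (l : U ⟶ P) [IsMonHom l]
    (p : P ⟶ T) [IsMonHom p] (hker : AlgGrp.IsKernel l p) [Group.IsSolvable (RP U)] [Group.IsSolvable (RP T)] :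
    Group.IsSolvable (RP P) := by
  refine Group.isSolvable_of_ker_le_range (f := rpHom l) (g := rpHom p) fun x hx => ?_
  have h1 : x ≫ p = toUnit _ ≫ η[T] := by
    refine (show x ≫ p = 1 from hx).trans ?_
    rw [Hom.one_def]
  obtain ⟨y, hy, -⟩ := hker.exists_lift x (toUnit _) h1
  exact ⟨y, hy⟩

/-- A trivial group. -/
theorem isTrivialGrp_of_id_eq_one {T : Over (Spec (CommRingCat.of k))} [GrpObj T] (h : 𝟙 T = 1) : Red.IsTrivialGrp T := by
  refine ⟨η[T].left, ?_, Over.w η[T]⟩
  have h1 := congrArg (fun f : T ⟶ T => f.left) h
  simp only [Hom.one_def, Over.comp_left, Over.id_left] at h1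
  exact h1.symm

/-- A connected group whose radical is unipotent has no non-trivial characters. -/
theorem char_eq_one_of_radical {H : Over (Spec (CommRingCat.of k))} [GrpObj H] [IsAffine H.left] [Smooth H.hom]
    [ConnectedSpace H.left]
    (hrad : ∀ (R : Over (Spec (CommRingCat.of k))) [GrpObj R] (r : R ⟶ H) [IsMonHom r], IsClosedImmersion r.left →
      Smooth R.hom → ConnectedSpace R.left → AlgGrp.IsNormalHom r → Red.IsSolvableGrp R → Red.HasNoSubtorus k R)
    {Z : Over (Spec (CommRingCat.of k))} [GrpObj Z] [IsCommMonObj Z] (hZ : Red.IsTorus Z)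
    (χ : H ⟶ Z) [IsMonHom χ] : χ = 1 := by
  obtain ⟨U, _, u, hu, hUa, hUc, hUt, -⟩ := UniRad.exists_unipotentRadical H
  obtain ⟨hum, huc, hun, hus, -⟩ := id hu
  haveI := hum; haveI := huc; haveI := hus; haveI := hUa; haveI := hUc
  obtain ⟨Q, _, q, hqm, hqf, hqs, hker, hsep, hQs, hQc, hQconn, hqp⟩ := exists_quotient_group' u hun
  haveI := hqm; haveI := hqf; haveI := hqs; haveI := hQs; haveI := hQc; haveI := hQconn; haveI := hqp; haveI := hsep
  have hQR := RootSys.isReductiveOver_of_isReductive (S8093.result k H U u hu Q q hker)
  haveI : IsAffine Q.left := hQR.1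
  haveI : IsReduced Q.left := SmoothRed.isReduced_of_smooth_scheme Q.hom
  haveI : QuasiCompact q.left := by
    haveI : IsAffineHom q.left := inferInstance
    infer_instance
  haveI : EffectiveEpi q.left := inferInstance
  have hQss : Red.IsSemisimpleOver k Q := by
    refine ⟨hQR, fun T _ t _ htc htn htT => ?_⟩
    haveI := htc
    haveI := smooth_of_isTorus htT
    haveI := connectedSpace_of_isTorus htT
    obtain ⟨P, _, iP, p, l', hPm, hPc, hPs, hPconn, hPn, hpm, hpf, hps, hlm, -, -, hlker⟩ :=
      exists_preimage_smooth u q hker t htn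
    haveI := hPm; haveI := hPc; haveI := hPs; haveI := hPconn; haveI := hpm; haveI := hpf; haveI := hps; haveI := hlm
    haveI : IsAffine P.left := isAffine_of_isAffineHom iP.left
    haveI := RedCent.isSolvable_of_noSubtorus hUt
    haveI : Group.IsSolvable (RP T) := Group.isSolvable_of_comm fun a b => by
      have h := Chev.isCommMonObj_of_isTorus htT
      haveI := h
      exact mul_comm a b
    haveI := isSolvable_ext l' p hlker
    have hPt := hrad P iP hPc hPs hPconn hPn (isSolvableGrp_of_rp P)
    have hp1 : p = 1 := UniRad.hom_torus_eq_one hPt htT p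
    refine isTrivialGrp_of_id_eq_one ?_
    haveI : IsReduced T.left := SmoothRed.isReduced_of_smooth_scheme T.hom
    haveI : Epi p := by
      haveI : IsAffine T.left := isAffine_of_isTorus htT
      haveI : QuasiCompact p.left := by
        haveI : IsAffineHom p.left := inferInstance
        infer_instance
      haveI : LocallyOfFinitePresentation p.left := by
        haveI : IsLocallyNoetherian T.left := LocallyOfFiniteType.isLocallyNoetherian T.hom
        haveI : LocallyOfFiniteType (p.left ≫ T.hom) := by rw [Over.w]; infer_instance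
        haveI : LocallyOfFiniteType p.left := locallyOfFiniteType_of_comp p.left T.hom
        infer_instance
      exact ⟨fun a b h => Over.OverMorphism.ext ((cancel_epi p.left).1 (congrArg CommaMorphism.left h))⟩
    rw [← cancel_epi p, Category.comp_id, MonObj.comp_one]
    exact hp1
  obtain ⟨d, hd⟩ := AdjRep.exists_desc u q hker χ (UniRad.hom_torus_eq_one hUt hZ (u ≫ χ))
  haveI : IsMonHom (q ≫ d) := by rw [hd]; infer_instance
  haveI := isMonHom_desc q d
  rw [← hd, SSPerf.eq_one_of_comm hQss d, MonObj.comp_one]

end Groth.Agent.GModLib
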