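import Groth.Agent.GModLib.Unip
import Groth.Agent.UniRad.Radical

/-!
# Rational points acting on algebras: minimal primes and annihilators
-/

set_option autoImplicit false
set_option linter.style.haveILetI false
set_option backward.isDefEq.respectTransparency false

universe u

open CategoryTheory CategoryTheory.Limits MonoidalCategory CartesianMonoidalCategory MonObj GrpObj AlgebraicGeometry
open TensorProduct WithConv

noncomputable section

namespace Groth.Agent.GModLib

variable {k : Type u} [Field k] {H : Over (Spec (CommRingCat.of k))} [GrpObj H]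
variable {A : Type u} [CommRing A] [Algebra k A] (ρ : VecGrp.GMod H A) (hρ : ρ.IsMult)

/-- The automorphism of an algebra given by a rational point. -/
def sig (h : VecGrp.pt k k ⟶ H) : A →+* A where
  toFun x := Algebra.TensorProduct.lid k A (ρ.ρ k h ((1 : k) ⊗ₜ[k] x))
  map_one' := by rw [← Algebra.TensorProduct.one_def, (hρ k h).2, map_one]
  map_mul' x y := by
    rw [← map_mul (Algebra.TensorProduct.lid k A), ← (hρ k h).1, Algebra.TensorProduct.tmul_mul_tmul, _root_.one_mul]
  map_zero' := by simp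
  map_add' x y := by simp [TensorProduct.tmul_add]

theorem rho_eq_sig (h : VecGrp.pt k k ⟶ H) (x : A) :
    ρ.ρ k h ((1 : k) ⊗ₜ[k] x) = (1 : k) ⊗ₜ[k] sig ρ hρ h x := by
  apply (Algebra.TensorProduct.lid k A).injective
  rw [Algebra.TensorProduct.lid_tmul, one_smul]
  rfl

variable [IsAlgClosed k] [IsAffine H.left] [Smooth H.hom] [ConnectedSpace H.left]

/-- The largest stable part of a prime ideal is prime. -/
theorem isPrime_iInf_comap {p : Ideal A} (hp : p.IsPrime) :
    (⨅ g : VecGrp.pt k k ⟶ H, p.comap (sig ρ hρ g)).IsPrime := by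
  classical
  obtain ⟨C, _, e, he⟩ := FinHopf.exists_hopf (R := CommRingCat.of k) H
  haveI := he
  haveI : IsIso e.hom.left := inferInstanceAs (IsIso ((Over.forget _).map e.hom))
  haveI : Algebra.FiniteType k C := by
    have h0 : LocallyOfFiniteType (e.hom.left ≫ H.hom) := inferInstance
    rw [Over.w e.hom] at h0
    exact RingHom.finiteType_algebraMap.1 ((HasRingHomProperty.Spec_iff (P := @LocallyOfFiniteType)).1 h0)
  haveI : IsDomain C := Chev.Borel.isDomain_of_smooth_connected e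
  let q : Ideal A := ⨅ g : VecGrp.pt k k ⟶ H, p.comap (sig ρ hρ g)
  show q.IsPrime
  have hq : ∀ y, y ∈ q ↔ ∀ g, sig ρ hρ g y ∈ p := fun y => by simp [q, Ideal.mem_iInf]
  have hqp : q ≤ p := fun y hy => by
    have := (hq y).1 hy 1
    simpa [sig] using this
  refine ⟨fun e' => hp.ne_top (top_le_iff.1 (e' ▸ hqp)), fun {a b} hab => ?_⟩
  by_contra hne
  rw [not_or, hq, hq, not_forall, not_forall] at hne
  obtain ⟨⟨g₁, h₁⟩, ⟨g₂, h₂⟩⟩ := hne
  obtain ⟨φ₁, rfl⟩ := exists_eq_pnt e g₁
  obtain ⟨φ₂, rfl⟩ := exists_eq_pnt e g₂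
  let b' := Module.Free.chooseBasis k (A ⧸ p.restrictScalars k)
  let c : A → _ → C := fun y i => TensorProduct.equivFinsuppOfBasisLeft b'
    ((p.restrictScalars k).mkQ.rTensor C (coactMap e ρ y)) i
  have hc : ∀ (φ : C →ₐ[k] k) (y : A) (i), φ (c y i) =
      b'.repr ((p.restrictScalars k).mkQ (sig ρ hρ (pnt e φ) y)) i := by
    intro φ y i
    show _ = b'.repr ((p.restrictScalars k).mkQ (Algebra.TensorProduct.lid k A (ρ.ρ k (pnt e φ) ((1 : k) ⊗ₜ[k] y)))) i
    rw [rho_pnt]
    dsimp only [c]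
    generalize coactMap e ρ y = t
    induction t using TensorProduct.induction_on with
    | zero => simp
    | add x y hx hy => simp only [map_add, Finsupp.add_apply, hx, hy]
    | tmul m c => simp [VecGrp.Wmap_tmul, mul_comm, Submodule.Quotient.mk_smul]
  have hne' : ∀ (φ : C →ₐ[k] k) (y : A), sig ρ hρ (pnt e φ) y ∉ p → ∃ i, φ (c y i) ≠ 0 := fun φ y hy => by
    by_contra hall
    rw [not_exists] at hall
    refine hy ((Submodule.Quotient.mk_eq_zero (p.restrictScalars k)).1 (b'.repr.injective ?_))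
    rw [map_zero]
    ext i
    exact ((hc φ y i).symm.trans (not_not.1 (hall i))).trans Finsupp.zero_apply.symm
  obtain ⟨i₁, hi₁⟩ := hne' φ₁ a h₁
  obtain ⟨i₂, hi₂⟩ := hne' φ₂ b h₂
  have h0 : c a i₁ * c b i₂ ≠ 0 :=
    mul_ne_zero (fun h => hi₁ (by rw [h, map_zero])) (fun h => hi₂ (by rw [h, map_zero]))
  refine h0 ((GLinChar.mem_of_forall_point k C (p := ⊥) fun φ _ => ?_))
  rw [map_mul, hc, hc]
  have h3 : sig ρ hρ (pnt e φ) a * sig ρ hρ (pnt e φ) b ∈ p := by rw [← map_mul]; exact (hq _).1 hab _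
  rcases hp.mem_or_mem h3 with h4 | h4
  · rw [Submodule.mkQ_apply, (Submodule.Quotient.mk_eq_zero (p.restrictScalars k)).2 h4, map_zero, Finsupp.zero_apply, zero_mul]
  · rw [Submodule.mkQ_apply _ (sig ρ hρ (pnt e φ) b), (Submodule.Quotient.mk_eq_zero (p.restrictScalars k)).2 h4, map_zero, Finsupp.zero_apply, mul_zero]

omit [IsAlgClosed k] [IsAffine H.left] [Smooth H.hom] [ConnectedSpace H.left] in
theorem iInf_comap_le {p : Ideal A} : (⨅ g : VecGrp.pt k k ⟶ H, p.comap (sig ρ hρ g)) ≤ p := fun y hy => by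
  have := (Ideal.mem_iInf.1 hy) (1 : VecGrp.pt k k ⟶ H)
  simpa [sig] using this

/-- A connected group stabilises every minimal prime. -/
theorem sig_mem_of_mem_minimalPrimes {p : Ideal A} (hp : p ∈ minimalPrimes A) (h : VecGrp.pt k k ⟶ H)
    {x : A} (hx : x ∈ p) : sig ρ hρ h x ∈ p :=
  Ideal.mem_iInf.1 (hp.2 ⟨isPrime_iInf_comap ρ hρ hp.1.1, bot_le⟩ (iInf_comap_le ρ hρ) hx) h

/-- In a reduced algebra the annihilator of any element is stable. -/
theorem sig_mul_eq_zero [_root_.IsReduced A] (h : VecGrp.pt k k ⟶ H) {x b : A} (hx : x * b = 0) :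
    sig ρ hρ h x * b = 0 := by
  refine (nilpotent_iff_mem_prime.2 fun P hP => ?_).eq_zero
  haveI := hP
  obtain ⟨p, hp, hpP⟩ := Ideal.exists_minimalPrimes_le (bot_le : (⊥ : Ideal A) ≤ P)
  refine hpP ?_
  rcases hp.1.1.mem_or_mem (hx ▸ p.zero_mem : x * b ∈ p) with h1 | h1
  · exact p.mul_mem_right _ (sig_mem_of_mem_minimalPrimes ρ hρ hp h h1)
  · exact p.mul_mem_left _ h1

omit [IsAffine H.left] [Smooth H.hom] [ConnectedSpace H.left] in
/-- The restriction of a multiplicative action is multiplicative. -/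
theorem isMult_res {G : Over (Spec (CommRingCat.of k))} [GrpObj G] {A : Type u} [CommRing A] [Algebra k A]
    (ρ : VecGrp.GMod G A) (hρ : ρ.IsMult) (i : H ⟶ G) [IsMonHom i] : (res ρ i).IsMult :=
  fun B _ _ h => hρ B (h ≫ i)

/-- Fixed vectors in a subspace stable under the rational points of a unipotent group. -/
theorem exists_fixed_mem (hH : Red.HasNoSubtorus k H) {M : Type u} [AddCommGroup M] [Module k M]
    {G : Over (Spec (CommRingCat.of k))} [GrpObj G] (ρ : VecGrp.GMod G M) (i : H ⟶ G) [IsMonHom i]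
    (W : Submodule k M)
    (hW : ∀ (h : VecGrp.pt k k ⟶ H), ∀ x ∈ W,
      TensorProduct.lid k M (ρ.ρ k (h ≫ i) ((1 : k) ⊗ₜ[k] x)) ∈ W)
    (hne : W ≠ ⊥) : ∃ w ∈ W, w ≠ 0 ∧ w ∈ ρ.fixedUnder i := by
  obtain ⟨x, hx, hx0⟩ := (Submodule.ne_bot_iff _).1 hne
  have h2 : ∀ t : k ⊗[k] M, TensorProduct.lid k (M ⧸ W) (W.mkQ.lTensor k t) = W.mkQ (TensorProduct.lid k M t) := by
    intro t
    induction t using TensorProduct.induction_on with
    | zero => simp
    | add x y hx hy => simp only [map_add, hx, hy]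
    | tmul c m => simp
  have hf : ∀ (h : VecGrp.pt k k ⟶ H) (y : M), W.mkQ y = 0 →
      W.mkQ.lTensor k ((res ρ i).ρ k h ((1 : k) ⊗ₜ[k] y)) = 0 := fun h y hy => by
    apply (TensorProduct.lid k (M ⧸ W)).injective
    rw [map_zero, h2]
    exact (Submodule.Quotient.mk_eq_zero W).2 (hW h y ((Submodule.Quotient.mk_eq_zero W).1 hy))
  obtain ⟨w, hw0, hw, hfix⟩ := exists_fixed_ne_zero hH (res ρ i) W.mkQ hf ⟨x, hx0, (Submodule.Quotient.mk_eq_zero W).2 hx⟩
  refine ⟨w, (Submodule.Quotient.mk_eq_zero W).1 hw, hw0, fun B _ _ h => ?_⟩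
  have h1 := hfix B h
  rw [Category.comp_id] at h1
  exact h1

omit [IsAffine H.left] [Smooth H.hom] [ConnectedSpace H.left] in
/-- The properties of the unipotent radical of a Borel subgroup used here. -/
theorem props_of_borel {G Bo : Over (Spec (CommRingCat.of k))} [GrpObj G] [GrpObj Bo] [IsAffine G.left]
    {iB : Bo ⟶ G} (hB : Red.IsBorelOver k iB) {u : H ⟶ Bo} (hU : Par.IsUnipotentRadical u) :
    IsMonHom (u ≫ iB) ∧ IsAffine H.left ∧ Smooth H.hom ∧ ConnectedSpace H.left ∧ Red.HasNoSubtorus k H := by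
  obtain ⟨hum, huc, -, hus, -, huf, -⟩ := hU
  obtain ⟨hbm, hbc, -, -, -, -⟩ := id hB
  haveI := hum; haveI := huc; haveI := hbm; haveI := hbc
  obtain ⟨hc, ht⟩ := (UniRad.geomFibre_unipotent_iff H (IsLocalRing.closedPoint k)).1 (huf _)
  haveI : IsAffine Bo.left := isAffine_of_isAffineHom iB.left
  exact ⟨inferInstance, isAffine_of_isAffineHom u.left, hus, hc, ht⟩

/-- A vector spanning a stable line is an eigenvector of a group-like element. -/
theorem exists_groupLike_of_stable_line {C : Type u} [CommRing C] [HopfAlgebra k C] [Algebra.FiniteType k C]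
    [_root_.IsReduced C] {M : Type u} [AddCommGroup M] [Module k M] (e : (Spec (CommRingCat.of C)).asOver (Spec (CommRingCat.of k)) ≅ H)
    [IsMonHom e.hom] (ρ : VecGrp.GMod H M) {v : M} (hv : v ≠ 0)
    (hst : ∀ g : VecGrp.pt k k ⟶ H, TensorProduct.lid k M (ρ.ρ k g ((1 : k) ⊗ₜ[k] v)) ∈ k ∙ v) :
    ∃ χ : C, IsGroupLikeElem k χ ∧ coactMap e ρ v = v ⊗ₜ[k] χ := by
  classical
  letI cM : HopfRep.Comod k C M := toComod e ρ
  let W : Submodule k M := k ∙ v
  have hex : Function.Exact (W.subtype.rTensor C) (W.mkQ.rTensor C) :=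
    rTensor_exact C (LinearMap.exact_subtype_mkQ W) W.mkQ_surjective
  obtain ⟨t, ht⟩ : coactMap e ρ v ∈ Set.range (W.subtype.rTensor C) := by
    refine (hex _).1 ?_
    let b := Module.Free.chooseBasis k (M ⧸ W)
    apply (TensorProduct.equivFinsuppOfBasisLeft b).injective
    rw [map_zero]
    ext i
    rw [Finsupp.zero_apply]
    refine (nilpotent_iff_mem_prime.2 fun p hp =>
      haveI := hp; GLinChar.mem_of_forall_point k C fun φ _ => ?_).eq_zero
    have key : ∀ t : M ⊗[k] C, φ (TensorProduct.equivFinsuppOfBasisLeft b (W.mkQ.rTensor C t) i) =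
        b.repr (W.mkQ (TensorProduct.lid k M (VecGrp.Wmap φ ((TensorProduct.comm k C M).symm t)))) i := by
      intro t
      induction t using TensorProduct.induction_on with
      | zero => simp
      | add x y hx hy => simp only [map_add, Finsupp.add_apply, hx, hy]
      | tmul m c => simp [VecGrp.Wmap_tmul, mul_comm, Submodule.Quotient.mk_smul]
    rw [key, ← rho_pnt, show W.mkQ _ = 0 from (Submodule.Quotient.mk_eq_zero W).2 (hst (pnt e φ)), map_zero,
      Finsupp.zero_apply]
  have hform : ∀ t : W ⊗[k] C, ∃ χ : C, W.subtype.rTensor C t = v ⊗ₜ[k] χ := by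
    intro t
    induction t using TensorProduct.induction_on with
    | zero => exact ⟨0, by simp⟩
    | add x y hx hy =>
      obtain ⟨a, ha⟩ := hx
      obtain ⟨b, hb⟩ := hy
      exact ⟨a + b, by rw [map_add, ha, hb, TensorProduct.tmul_add]⟩
    | tmul m c =>
      obtain ⟨r, hr⟩ := Submodule.mem_span_singleton.1 m.2
      exact ⟨r • c, by rw [LinearMap.rTensor_tmul, Submodule.subtype_apply, ← hr, TensorProduct.smul_tmul]⟩
  obtain ⟨χ, hχ⟩ := hform t
  rw [hχ] at ht
  obtain ⟨l, hl⟩ := (LinearMap.toSpanSingleton k M v).exists_leftInverse_of_injective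
    (LinearMap.ker_eq_bot.2 (smul_left_injective k hv))
  have hl1 : l v = 1 := by simpa using LinearMap.congr_fun hl (1 : k)
  have hcan : ∀ {N : Type u} [AddCommGroup N] [Module k N] (a b : N), v ⊗ₜ[k] a = v ⊗ₜ[k] b → a = b := by
    intro N _ _ a b h
    simpa [hl1] using congrArg (fun z => TensorProduct.lid k N (l.rTensor N z)) h
  refine ⟨χ, ⟨hcan _ _ ?_, hcan _ _ ?_⟩, ht.symm⟩
  · have h := LinearMap.congr_fun cM.counit_comp v
    rw [LinearMap.comp_apply, show cM.coact v = _ from ht.symm] at h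
    simpa using h
  · have h := LinearMap.congr_fun cM.coassoc v
    rw [LinearMap.comp_apply, LinearMap.comp_apply, LinearMap.comp_apply, show cM.coact v = _ from ht.symm,
      LinearMap.rTensor_tmul, show cM.coact v = _ from ht.symm] at h
    simpa using h.symm

end Groth.Agent.GModLib
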