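import Groth.Agent.GModLib.Inv
import Groth.Agent.Comod.LineStab

/-!
# Observable subgroups: extension of representations and the character criterion
-/

set_option autoImplicit false
set_option linter.style.haveILetI false
set_option backward.isDefEq.respectTransparency false

universe u

open CategoryTheory CategoryTheory.Limits MonoidalCategory CartesianMonoidalCategory MonObj GrpObj AlgebraicGeometry
open TensorProduct WithConv

noncomputable section

namespace Groth.Agent.GModLib

variable {k : Type u} [Field k] {C : Type u} [CommRing C] [HopfAlgebra k C] {D : Type u} [CommRing D] [HopfAlgebra k D]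

/-- Restriction of points along a homomorphism. -/
def resPt (π : C →ₐc[k] D) : WithConv (D →ₐ[k] k) →* WithConv (C →ₐ[k] k) where
  toFun ψ := toConv (ψ.ofConv.comp (π : C →ₐ[k] D))
  map_one' := by
    apply WithConv.ext
    refine AlgHom.ext fun c => ?_
    show (1 : WithConv (D →ₐ[k] k)) ((π : C →ₐ[k] D) c) = (1 : WithConv (C →ₐ[k] k)) c
    rw [AlgHom.convOne_apply, AlgHom.convOne_apply]
    congr 1
    exact CoalgHomClass.counit_comp_apply π c
  map_mul' f g := by
    apply WithConv.ext
    exact AlgHom.convMul_comp_bialgHom_distrib f g π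

/-- The rational points of a subgroup. -/
def SG (π : C →ₐc[k] D) : Subgroup (WithConv (C →ₐ[k] k)) := (resPt π).range

theorem rt_cf {V : Type u} [AddCommGroup V] [Module k V] [HopfRep.Comod k C V] [IsAlgClosed k]
    [Algebra.FiniteType k C] [_root_.IsReduced C] (l : V →ₗ[k] k) (v : V) (g : WithConv (C →ₐ[k] k)) :
    rt g (cf l v) = cf l (RedLR.ptAct V g v) :=
  ext_pt fun x => by rw [apply_rt, apply_cf, apply_cf, act_mul_apply]

section Linear

variable {V : Type u} [AddCommGroup V] [Module k V] [HopfRep.Comod k C V]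

/-- Matrix coefficients are linear in the vector. -/
def cfL (l : V →ₗ[k] k) : V →ₗ[k] C :=
  (TensorProduct.lid k C).toLinearMap ∘ₗ l.rTensor C ∘ₗ HopfRep.Comod.coact (k := k) (A := C)

theorem cfL_apply (l : V →ₗ[k] k) (v : V) : cfL l v = cf (C := C) l v := rfl

theorem cf_ne_zero {l : V →ₗ[k] k} {v : V} (h : l v ≠ 0) : cf (C := C) l v ≠ 0 := fun h0 => h (by
  have := congrArg (1 : WithConv (C →ₐ[k] k)).ofConv h0
  rwa [apply_cf, act_one_apply, map_zero] at this)

end Linear

variable [IsAlgClosed k] [Algebra.FiniteType k C] [_root_.IsReduced C] [Algebra.FiniteType k D] [_root_.IsReduced D]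

theorem apply_rt_res (π : C →ₐc[k] D) (ψ : WithConv (D →ₐ[k] k)) (c : C) :
    (π : C →ₐ[k] D) (rt (resPt π ψ) c) = rt ψ ((π : C →ₐ[k] D) c) := by
  refine ext_pt (k := k) fun x => ?_
  rw [apply_rt]
  show (resPt π x).ofConv (rt (resPt π ψ) c) = _
  rw [apply_rt, ← map_mul]
  rfl

/-- A finite dimensional space of functions covering a representation of the subgroup. -/
theorem exists_cover (π : C →ₐc[k] D) (hπ : Function.Surjective (π : C →ₐ[k] D))
    (V : Type u) [AddCommGroup V] [Module k V] [Module.Finite k V] [HopfRep.Comod k D V] :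
    ∃ (U : Type u) (_ : AddCommGroup U) (_ : Module k U) (_ : Module.Finite k U)
      (T : WithConv (C →ₐ[k] k) → U →ₗ[k] U) (col : (U →ₗ[k] k) → U →ₗ[k] C) (W : Submodule k U) (L : V →ₗ[k] U),
      (∀ g h w, T (g * h) w = T g (T h w)) ∧ (∀ w, T 1 w = w) ∧
      (∀ l w (x : WithConv (C →ₐ[k] k)), x.ofConv (col l w) = l (T x w)) ∧
      (∀ v, L v ∈ W → v = 0) ∧ (∀ h ∈ SG π, ∀ w ∈ W, T h w ∈ W) ∧
      (∀ ψ v, T (resPt π ψ) (L v) - L (RedLR.ptAct V ψ v) ∈ W) := by
  classical
  let m := Module.finrank k V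
  let b := Module.finBasis k V
  let E : V →ₗ[k] (Fin m → D) := LinearMap.pi fun j => cfL (b.coord j)
  have hE : Function.Injective E := by
    refine LinearMap.ker_eq_bot.1 ((Submodule.eq_bot_iff _).2 fun v hv => b.ext_elem fun j => ?_)
    have h1 : cf (C := D) (b.coord j) v = 0 := congrFun (LinearMap.mem_ker.1 hv) j
    have h2 := congrArg (1 : WithConv (D →ₐ[k] k)).ofConv h1
    rw [apply_cf, act_one_apply, map_zero] at h2
    rw [map_zero]
    exact h2
  choose lft hlft using hπ
  obtain ⟨S, hS, hfin⟩ := Comod.exists_finite_subcomod_finset (K := k) (C := C) (V := C)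
    (Finset.univ.image fun p : Fin m × Fin m => lft (E (b p.1) p.2))
  let S0 : Submodule k C := Comod.ofDSub S
  haveI : Module.Finite k S0 := hfin
  letI cS : HopfRep.Comod k C S0 := ComodSub.Comod.restr (inferInstance : HopfRep.Comod k C C) S0 (Comod.isSubcomod_ofDSub S)
  have hcoe : ∀ (g : WithConv (C →ₐ[k] k)) (x : S0), ((RedLR.ptAct S0 g x : S0) : C) = rt g (x : C) := by
    intro g x
    have h := LinearMap.congr_fun (ComodSub.isComodHom_subtype (inferInstance : HopfRep.Comod k C C) S0 (Comod.isSubcomod_ofDSub S)) x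
    simp only [LinearMap.comp_apply] at h
    rw [← toConv_ofConv g, RedLR.ptAct_eq_act, ← act_eq_rt]
    show S0.subtype (TensorProduct.rid k S0 (g.ofConv.toLinearMap.lTensor S0 (cS.coact x))) =
      TensorProduct.rid k C (g.ofConv.toLinearMap.lTensor C (HopfRep.Comod.coact (k := k) (A := C) x.1))
    rw [show HopfRep.Comod.coact (k := k) (A := C) x.1 = S0.subtype.rTensor C (cS.coact x) from h]
    generalize cS.coact x = t
    induction t using TensorProduct.induction_on with
    | zero => simp
    | add x y hx hy => simp only [map_add, hx, hy]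
    | tmul a d => simp
  let T : WithConv (C →ₐ[k] k) → (Fin m → S0) →ₗ[k] (Fin m → S0) := fun g =>
    LinearMap.pi fun j => (RedLR.ptAct S0 g) ∘ₗ LinearMap.proj j
  have hT_mul : ∀ g h w, T (g * h) w = T g (T h w) := fun g h w => funext fun j => act_mul_apply g h (w j)
  have hT_one : ∀ w, T 1 w = w := fun w => funext fun j => act_one_apply (w j)
  let col : ((Fin m → S0) →ₗ[k] k) → (Fin m → S0) →ₗ[k] C := fun l =>
    ∑ j, cfL (l ∘ₗ LinearMap.single k (fun _ => S0) j) ∘ₗ LinearMap.proj j
  have hcol : ∀ l w (x : WithConv (C →ₐ[k] k)), x.ofConv (col l w) = l (T x w) := by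
    intro l w x
    simp only [col, LinearMap.sum_apply, LinearMap.comp_apply, map_sum, LinearMap.proj_apply, cfL_apply, apply_cf]
    rw [← map_sum]
    congr 1
    funext j
    simp [T, Finset.sum_apply, Pi.single_apply]
  have hrtcol : ∀ l w (g : WithConv (C →ₐ[k] k)), rt g (col l w) = col l (T g w) := fun l w g =>
    ext_pt fun x => by rw [apply_rt, hcol, hcol, hT_mul]
  let R : (Fin m → S0) →ₗ[k] (Fin m → D) :=
    LinearMap.pi fun j => ((π : C →ₐ[k] D).toLinearMap ∘ₗ S0.subtype) ∘ₗ LinearMap.proj j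
  have hR : ∀ ψ w, R (T (resPt π ψ) w) = fun j => rt ψ (R w j) := fun ψ w => funext fun j => by
    show (π : C →ₐ[k] D) ((RedLR.ptAct S0 (resPt π ψ) (w j) : S0) : C) = _
    rw [hcoe, apply_rt_res]
    rfl
  let L : V →ₗ[k] (Fin m → S0) := b.constr k fun r j =>
    ⟨lft (E (b r) j), hS _ (Finset.mem_image.2 ⟨(r, j), Finset.mem_univ _, rfl⟩)⟩
  have hRL : ∀ v, R (L v) = E v := by
    intro v
    have h : R ∘ₗ L = E := b.ext fun r => by
      rw [LinearMap.comp_apply]
      simp only [L, Module.Basis.constr_basis]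
      funext j
      exact hlft _
    exact LinearMap.congr_fun h v
  have hEeq : ∀ ψ v, E (RedLR.ptAct V ψ v) = fun j => rt ψ (E v j) := fun ψ v => funext fun j =>
    (rt_cf (C := D) (b.coord j) v ψ).symm
  refine ⟨Fin m → S0, inferInstance, inferInstance, inferInstance, T, col, LinearMap.ker R, L,
    hT_mul, hT_one, hcol, fun v hv => hE ?_, ?_, fun ψ v => ?_⟩
  · rw [← hRL, LinearMap.mem_ker.1 hv, map_zero]
  · rintro _ ⟨ψ, rfl⟩ u hu
    rw [LinearMap.mem_ker, hR]
    funext j
    simp [LinearMap.mem_ker.1 hu]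
  · rw [LinearMap.mem_ker, map_sub, hR, hRL, hRL, hEeq, sub_self]

/-- Maximal minors adapted to a stable subspace. -/
theorem exists_twisted {S : Subgroup (WithConv (C →ₐ[k] k))} (hinv : HasInv S)
    {U : Type u} [AddCommGroup U] [Module k U] [Module.Finite k U]
    (T : WithConv (C →ₐ[k] k) → U →ₗ[k] U) (col : (U →ₗ[k] k) → U →ₗ[k] C)
    (hT_mul : ∀ g h w, T (g * h) w = T g (T h w)) (hT_one : ∀ w, T 1 w = w)
    (hcol : ∀ l w (x : WithConv (C →ₐ[k] k)), x.ofConv (col l w) = l (T x w))
    (W : Submodule k U) (hW : ∀ h ∈ S, ∀ w ∈ W, T h w ∈ W)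
    {V : Type u} [AddCommGroup V] [Module k V] [Module.Finite k V] (L : V →ₗ[k] U) (hL : ∀ v, L v ∈ W → v = 0) :
    ∃ (Φ : Fin (Module.finrank k V) → V →ₗ[k] C) (x : WithConv (C →ₐ[k] k)) (g : C), x.ofConv g ≠ 0 ∧
      (∀ r v, x.ofConv (Φ r v) = (Module.finBasis k V).repr v r) ∧
      (∀ h ∈ S, ∀ r v v', T h (L v) - L v' ∈ W → rt h (Φ r v * g) = Φ r v' * g) := by
  classical
  let m := Module.finrank k V
  let b := Module.finBasis k V
  have hrtcol : ∀ l w (g : WithConv (C →ₐ[k] k)), rt g (col l w) = col l (T g w) := fun l w g =>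
    ext_pt fun x => by rw [apply_rt, hcol, hcol, hT_mul]
  let d := Module.finrank k W
  let w := Module.finBasis k W
  let vec : Fin d ⊕ Fin m → U := Sum.elim (fun i => (w i : U)) fun r => L (b r)
  have hvec : LinearIndependent k vec := by
    rw [Fintype.linearIndependent_iff]
    intro c hc
    rw [Fintype.sum_sum_type] at hc
    simp only [vec, Sum.elim_inl, Sum.elim_inr] at hc
    have hmem : L (∑ r, c (Sum.inr r) • b r) ∈ W := by
      simp only [map_sum, map_smul]
      rw [eq_neg_of_add_eq_zero_right hc]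
      exact W.neg_mem (W.sum_mem fun i _ => W.smul_mem _ (w i).2)
    have h2 := Fintype.linearIndependent_iff.1 b.linearIndependent _ (hL _ hmem)
    simp only [h2, zero_smul, Finset.sum_const_zero, add_zero] at hc
    have h3 : ∑ i, c (Sum.inl i) • w i = 0 := Subtype.ext (by simpa using hc)
    rintro (i | r)
    · exact Fintype.linearIndependent_iff.1 w.linearIndependent _ h3 i
    · exact h2 r
  obtain ⟨dual, hdual⟩ : ∃ dual : U →ₗ[k] (Fin d ⊕ Fin m →₀ k), dual ∘ₗ Finsupp.linearCombination k vec = LinearMap.id :=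
    LinearMap.exists_leftInverse_of_injective _ (LinearMap.ker_eq_bot.2 hvec)
  let lD : Fin d ⊕ Fin m → U →ₗ[k] k := fun s => Finsupp.lapply s ∘ₗ dual
  have hlD : ∀ s t, lD s (vec t) = if t = s then 1 else 0 := by
    intro s t
    have h := LinearMap.congr_fun hdual (Finsupp.single t 1)
    simp only [LinearMap.comp_apply, Finsupp.linearCombination_single, one_smul, LinearMap.id_apply] at h
    show dual (vec t) s = _
    rw [h, Finsupp.single_apply]
  have hexp : ∀ u ∈ W, ∑ l, lD (Sum.inl l) u • vec (Sum.inl l) = u := by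
    intro u hu
    have hsum := congrArg W.subtype (w.sum_repr ⟨u, hu⟩)
    simp only [map_sum, map_smul, Submodule.subtype_apply] at hsum
    refine (Finset.sum_congr rfl fun l _ => ?_).trans hsum
    congr 1
    conv_lhs => rw [← hsum]
    rw [map_sum]
    refine (Finset.sum_eq_single l (fun l' _ hne => ?_) (fun h => absurd (Finset.mem_univ l) h)).trans ?_
    · rw [map_smul, show lD (Sum.inl l) (w l' : U) = _ from hlD (Sum.inl l) (Sum.inl l'),
        if_neg (fun h => hne (Sum.inl_injective h)), smul_zero]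
    · rw [map_smul, show lD (Sum.inl l) (w l : U) = _ from hlD (Sum.inl l) (Sum.inl l), if_pos rfl, smul_eq_mul, _root_.mul_one]
  let a : WithConv (C →ₐ[k] k) → k := fun h =>
    (Matrix.of fun i l : Fin d => lD (Sum.inl l) (T h (vec (Sum.inl i)))).det
  have hker : ∀ h ∈ S, ∀ i : Fin d,
      T h (vec (Sum.inl i)) = ∑ l, lD (Sum.inl l) (T h (vec (Sum.inl i))) • vec (Sum.inl l) :=
    fun h hh i => (hexp _ (hW h hh _ (w i).2)).symm
  let M0 : Matrix (Fin d) (Fin d) C := Matrix.of fun i l => col (lD (Sum.inl l)) (vec (Sum.inl i))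
  have hM0 : M0.det ≠ 0 := fun h0 => by
    have h1 := congrArg (1 : WithConv (C →ₐ[k] k)).ofConv h0
    rw [AlgHom.map_det, map_zero] at h1
    have h2 : (1 : WithConv (C →ₐ[k] k)).ofConv.mapMatrix M0 = 1 := by
      ext i l
      simp only [AlgHom.mapMatrix_apply, Matrix.map_apply, M0, Matrix.of_apply, hcol, hT_one, hlD, Sum.inl.injEq,
        Matrix.one_apply]
    rw [h2, Matrix.det_one] at h1
    exact one_ne_zero h1
  have hsemi : ∀ h ∈ S, rt h M0.det = a h • M0.det := by
    intro h hh
    rw [AlgHom.map_det, Algebra.smul_def, show algebraMap k C (a h) = _ from RingHom.map_det _ _, ← Matrix.det_mul]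
    congr 1
    ext i l
    simp only [AlgHom.mapMatrix_apply, RingHom.mapMatrix_apply, Matrix.map_apply, Matrix.mul_apply, M0, Matrix.of_apply,
      hrtcol]
    conv_lhs => rw [hker h hh i, map_sum]
    simp only [map_smul, Algebra.smul_def]
  obtain ⟨g, hg0, hg⟩ := hinv.exists_inverse a hM0 hsemi
  obtain ⟨x, hx⟩ : ∃ x : WithConv (C →ₐ[k] k), x.ofConv g ≠ 0 := by
    by_contra h
    push Not at h
    exact hg0 (ext_pt fun x => by rw [h x, map_zero])
  let lx : Fin d ⊕ Fin m → U →ₗ[k] k := fun s => lD s ∘ₗ T x⁻¹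
  let M1 : Fin m → V → Matrix (Fin d ⊕ Unit) (Fin d ⊕ Unit) C := fun r v => Matrix.of fun p q =>
    col (lx (Sum.map id (fun _ => r) q)) (Sum.elim (fun i => vec (Sum.inl i)) (fun _ => L v) p)
  have hupd : ∀ r v, M1 r v = (M1 r 0).updateRow (Sum.inr ()) fun q => col (lx (Sum.map id (fun _ => r) q)) (L v) := by
    intro r v
    ext p q
    rcases p with i | u
    · rw [Matrix.updateRow_ne (by simp)]
      rfl
    · rw [Matrix.updateRow_self]
      rfl
  let Φ : Fin m → V →ₗ[k] C := fun r =>
    { toFun := fun v => (M1 r v).det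
      map_add' := fun v v' => by
        rw [hupd, hupd r v, hupd r v', ← Matrix.det_updateRow_add]
        congr 1
        refine congrArg _ (funext fun q => ?_)
        simp [map_add]
      map_smul' := fun c v => by
        rw [hupd, hupd r v, RingHom.id_apply, Algebra.smul_def, ← Matrix.det_updateRow_smul]
        congr 1
        refine congrArg _ (funext fun q => ?_)
        simp [map_smul, Algebra.smul_def] }
  have hΦ : ∀ h ∈ S, ∀ r v v', T h (L v) - L v' ∈ W → rt h (Φ r v) = a h • Φ r v' := by
    intro h hh r v v' hmem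
    show rt h (M1 r v).det = _ • (M1 r v').det
    let c : Fin d → k := fun i => lD (Sum.inl i) (T h (L v) - L v')
    have hdec : T h (L v) = L v' + ∑ i, c i • vec (Sum.inl i) := by
      rw [hexp _ hmem]
      abel
    let Am : Matrix (Fin d) (Fin d) k := Matrix.of fun i l => lD (Sum.inl l) (T h (vec (Sum.inl i)))
    have hblk : (rt h).mapMatrix (M1 r v) =
        (Matrix.fromBlocks (Am.map (algebraMap k C)) 0 (Matrix.of fun _ i => algebraMap k C (c i)) 1) *
          M1 r v' := by
      ext p q
      simp only [AlgHom.mapMatrix_apply, Matrix.map_apply, M1, Matrix.of_apply, hrtcol, Matrix.mul_apply,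
        Fintype.sum_sum_type, Sum.elim_inl, Sum.elim_inr]
      rcases p with i | u
      · conv_lhs => rw [Sum.elim_inl, hker h hh i, map_sum]
        simp [map_smul, Algebra.smul_def, Am]
      · conv_lhs => rw [Sum.elim_inr, hdec, map_add, map_sum]
        simp [map_smul, Algebra.smul_def, add_comm]
    rw [AlgHom.map_det, hblk, Matrix.det_mul, Matrix.det_fromBlocks_zero₁₂, Matrix.det_one, _root_.mul_one, Algebra.smul_def]
    congr 1
    exact (RingHom.map_det (algebraMap k C) Am).symm
  have hat : ∀ r v, x.ofConv (Φ r v) = b.repr v r := by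
    intro r v
    have hb : Φ r v = ∑ s, b.repr v s • Φ r (b s) := by
      conv_lhs => rw [← b.sum_repr v]
      simp only [map_sum, map_smul]
    have key : ∀ s, x.ofConv (Φ r (b s)) = if s = r then 1 else 0 := by
      intro s
      show x.ofConv (M1 r (b s)).det = _
      rw [AlgHom.map_det]
      have h2 : x.ofConv.mapMatrix (M1 r (b s)) =
          Matrix.fromBlocks 1 0 0 (Matrix.of fun _ _ : Unit => if s = r then (1 : k) else 0) := by
        ext p q
        have hlx : ∀ t t', lx t (T x (vec t')) = if t' = t then 1 else 0 := fun t t' => by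
          show lD t (T x⁻¹ (T x (vec t'))) = _
          rw [← hT_mul, inv_mul_cancel, hT_one, hlD]
        simp only [AlgHom.mapMatrix_apply, Matrix.map_apply, M1, Matrix.of_apply, hcol]
        rcases p with i | u <;> rcases q with l | u'
        · exact (hlx _ (Sum.inl i)).trans (by simp [Matrix.one_apply])
        · exact (hlx _ (Sum.inl i)).trans (by simp)
        · exact (hlx _ (Sum.inr s)).trans (by simp)
        · exact (hlx _ (Sum.inr s)).trans (by simp)
      rw [h2, Matrix.det_fromBlocks_zero₁₂, Matrix.det_one, _root_.one_mul, Matrix.det_unique]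
      rfl
    rw [hb, map_sum]
    simp only [map_smul, key, smul_eq_mul, mul_ite, _root_.mul_one, mul_zero, Finset.sum_ite_eq', Finset.mem_univ, if_true]
  refine ⟨Φ, x, g, hx, hat, fun h hh r v v' hmem => ?_⟩
  rw [map_mul, hΦ h hh r v v' hmem]
  conv_rhs => rw [← hg h hh]
  simp only [Algebra.smul_def]
  ring

/-- An equivariant map into functions factors through a finite dimensional representation. -/
theorem exists_subcomod_hom (π : C →ₐc[k] D) {V : Type u} [AddCommGroup V] [Module k V] [Module.Finite k V]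
    [HopfRep.Comod k D V] {N : Type u} [AddCommGroup N] [Module k N] (φ0 : V →ₗ[k] N ⊗[k] C)
    (hinj : Function.Injective φ0)
    (heq : ∀ ψ v, φ0 (RedLR.ptAct V ψ v) = (rt (resPt π ψ)).toLinearMap.lTensor N (φ0 v)) :
    ∃ (W : Type u) (_ : AddCommGroup W) (_ : Module k W) (_ : Module.Finite k W) (_ : HopfRep.Comod k C W)
      (φ : V →ₗ[k] W), Function.Injective φ ∧
        ∀ (ψ : WithConv (D →ₐ[k] k)) (v : V), φ (RedLR.ptAct V ψ v) = RedLR.ptAct W (resPt π ψ) (φ v) := by
  classical
  letI cN : HopfRep.Comod k C (N ⊗[k] C) := freeComod N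
  have hactN : ∀ (g : WithConv (C →ₐ[k] k)) (z : N ⊗[k] C), HopfRep.Comod.act k C (N ⊗[k] C) g.ofConv z =
      (rt g).toLinearMap.lTensor N z := by
    intro g z
    rw [act_freeComod]
    congr 2
    exact LinearMap.ext fun c => by rw [act_eq_rt, toConv_ofConv]; rfl
  let b := Module.finBasis k V
  obtain ⟨S', hS', hfin'⟩ := Comod.exists_finite_subcomod_finset (K := k) (C := C) (V := N ⊗[k] C)
    (Finset.univ.image fun r => φ0 (b r))
  have hW' : HopfRep.IsSubcomod (k := k) (A := C) (Comod.ofDSub S') := Comod.isSubcomod_ofDSub S'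
  haveI : Module.Finite k (Comod.ofDSub S') := hfin'
  letI cW : HopfRep.Comod k C (Comod.ofDSub S') := ComodSub.Comod.restr cN _ hW'
  have hrange : ∀ v, φ0 v ∈ Comod.ofDSub S' := by
    intro v
    rw [← b.sum_repr v, map_sum]
    refine Submodule.sum_mem _ fun r _ => ?_
    rw [map_smul]
    exact Submodule.smul_mem _ _ (hS' _ (Finset.mem_image_of_mem _ (Finset.mem_univ r)))
  refine ⟨Comod.ofDSub S', inferInstance, inferInstance, inferInstance, cW, φ0.codRestrict _ hrange,
    fun u v h => hinj congr($(h).1), fun ψ v => Subtype.ext ?_⟩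
  refine (heq ψ v).trans ?_
  rw [← toConv_ofConv (resPt π ψ), RedLR.ptAct_eq_act, toConv_ofConv, ← hactN]
  have h := LinearMap.congr_fun (ComodSub.isComodHom_subtype cN _ hW') (φ0.codRestrict _ hrange v)
  simp only [LinearMap.comp_apply] at h
  show TensorProduct.rid k (N ⊗[k] C) ((resPt π ψ).ofConv.toLinearMap.lTensor _ (cN.coact (φ0 v))) =
    (Comod.ofDSub S').subtype (TensorProduct.rid k _ ((resPt π ψ).ofConv.toLinearMap.lTensor _ (cW.coact _)))
  rw [show cN.coact (φ0 v) = (Comod.ofDSub S').subtype.rTensor C (cW.coact (φ0.codRestrict _ hrange v)) from h]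
  generalize cW.coact (φ0.codRestrict _ hrange v) = t
  induction t using TensorProduct.induction_on with
  | zero => simp
  | add x y hx hy => simp only [map_add, hx, hy]
  | tmul a d => simp

/-- Every representation of a subgroup with enough invariants extends. -/
theorem exists_extension (π : C →ₐc[k] D) (hπ : Function.Surjective (π : C →ₐ[k] D)) (hinv : HasInv (SG π))
    (V : Type u) [AddCommGroup V] [Module k V] [Module.Finite k V] [HopfRep.Comod k D V] :
    ∃ (W : Type u) (_ : AddCommGroup W) (_ : Module k W) (_ : Module.Finite k W) (_ : HopfRep.Comod k C W)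
      (φ : V →ₗ[k] W), Function.Injective φ ∧
        ∀ (ψ : WithConv (D →ₐ[k] k)) (v : V), φ (RedLR.ptAct V ψ v) = RedLR.ptAct W (resPt π ψ) (φ v) := by
  classical
  obtain ⟨U, _, _, _, T, col, W, L, hT_mul, hT_one, hcol, hL, hW, hrel⟩ := exists_cover π hπ V
  obtain ⟨Φ, x, g, hx, hat, hΦg⟩ := exists_twisted hinv T col hT_mul hT_one hcol W hW L hL
  let b := Module.finBasis k V
  let φ0 : V →ₗ[k] (Fin (Module.finrank k V) →₀ k) ⊗[k] C :=
    ∑ r, TensorProduct.mk k (Fin (Module.finrank k V) →₀ k) C (Finsupp.single r 1) ∘ₗ LinearMap.mulRight k g ∘ₗ Φ r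
  refine exists_subcomod_hom π φ0 (fun u v huv => b.ext_elem fun r => ?_) fun ψ v => ?_
  · have h1 := congrArg (fun z => x.ofConv (TensorProduct.lid k C
      ((Finsupp.lapply r : (Fin (Module.finrank k V) →₀ k) →ₗ[k] k).rTensor C z))) huv
    simp only [φ0, LinearMap.sum_apply, map_sum, LinearMap.comp_apply, LinearMap.mulRight_apply, TensorProduct.mk_apply,
      LinearMap.rTensor_tmul, TensorProduct.lid_tmul, map_smul, map_mul, hat, Finsupp.lapply_apply, Finsupp.single_apply,
      ite_smul, zero_smul, one_smul, Finset.sum_ite_eq', Finset.mem_univ, if_true, smul_eq_mul, ite_mul,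
      _root_.one_mul, zero_mul] at h1
    exact mul_right_cancel₀ hx h1
  · simp only [φ0, LinearMap.sum_apply, map_sum, LinearMap.comp_apply, LinearMap.mulRight_apply, TensorProduct.mk_apply,
      LinearMap.lTensor_tmul]
    exact Finset.sum_congr rfl fun r _ => congrArg _ (hΦg _ ⟨ψ, rfl⟩ r v _ (hrel ψ v)).symm

end Groth.Agent.GModLib
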