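import Groth.Agent.GModLib.GLRep
import Groth.Agent.GModLib.Bridge

/-!
# Epimorphic subgroups
-/

set_option autoImplicit false
set_option linter.style.haveILetI false
set_option backward.isDefEq.respectTransparency false

universe u

open CategoryTheory CategoryTheory.Limits MonoidalCategory CartesianMonoidalCategory MonObj GrpObj AlgebraicGeometry
open TensorProduct WithConv

noncomputable section

namespace Groth.Agent.GModLib

variable {k : Type u} [Field k]

/-- Matrices of homomorphisms out of the coordinate ring of `GL_n` determine them. -/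
theorem gln_algHom_ext {n : ℕ} {B : Type u} [CommRing B] [Algebra k B] {f g : CoordGrp.GLn n k →ₐ[k] B}
    (hX : ∀ i j, f (CoordGrp.GLn.X i j) = g (CoordGrp.GLn.X i j)) : f = g := by
  refine CoordGrp.GLn.algHom_ext hX ?_
  have hdet : f CoordGrp.GLn.det = g CoordGrp.GLn.det := by
    rw [CoordGrp.GLn.det_eq, AlgHom.map_det, AlgHom.map_det]
    congr 1
    ext i j
    exact hX i j
  refine left_inv_eq_right_inv (a := f CoordGrp.GLn.det) ?_ ?_
  · rw [← map_mul, CoordGrp.GLn.Dinv_mul_det, _root_.map_one]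
  · rw [hdet, ← map_mul, CoordGrp.GLn.det_mul_Dinv, _root_.map_one]

instance smooth_glSpec (n : ℕ) : Smooth (AdjRep.GLSpec k n).hom := by
  haveI := smooth_gln (k := k) n
  exact (HasRingHomProperty.Spec_iff (P := @Smooth)).2 (RingHom.smooth_algebraMap.2 inferInstance)

variable [IsAlgClosed k]
variable {G H : Over (Spec (CommRingCat.of k))} [GrpObj G] [GrpObj H] {i : H ⟶ G} [IsMonHom i]

/-- Fixed vectors are detected on rational points. -/
theorem fixed_of_points {C : Type u} [CommRing C] [HopfAlgebra k C] [Algebra.FiniteType k C] [_root_.IsReduced C]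
    (e : (Spec (CommRingCat.of C)).asOver (Spec (CommRingCat.of k)) ≅ G) [IsMonHom e.hom]
    {M : Type u} [AddCommGroup M] [Module k M] (ρ : VecGrp.GMod G M) {v : M}
    (h : ∀ φ : C →ₐ[k] k, ρ.ρ k (pnt e φ) ((1 : k) ⊗ₜ[k] v) = (1 : k) ⊗ₜ[k] v)
    (B : Type u) [CommRing B] [Algebra k B] (g : VecGrp.pt k B ⟶ G) :
    ρ.ρ B g ((1 : B) ⊗ₜ[k] v) = (1 : B) ⊗ₜ[k] v := by
  classical
  obtain ⟨φ, rfl⟩ := exists_eq_pnt e g
  have hco : coactMap e ρ v = v ⊗ₜ[k] (1 : C) := by
    let b := Module.Free.chooseBasis k M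
    apply (TensorProduct.equivFinsuppOfBasisLeft b).injective
    ext j
    refine ext_points (k := k) fun y => ?_
    have h2 : ∀ t : M ⊗[k] C, y (TensorProduct.equivFinsuppOfBasisLeft b t j) =
        b.repr (TensorProduct.rid k M (y.toLinearMap.lTensor M t)) j := by
      intro t
      induction t using TensorProduct.induction_on with
      | zero => simp
      | add x y hx hy => simp only [map_add, Finsupp.add_apply, hx, hy]
      | tmul a d => simp [mul_comm]
    rw [h2, h2]
    congr 2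
    have h3 : TensorProduct.rid k M (y.toLinearMap.lTensor M (coactMap e ρ v)) = v := by
      letI := toComod e ρ
      have h4 := ptAct_toComod e ρ y v
      rw [h, TensorProduct.lid_tmul, one_smul, RedLR.ptAct_eq_act] at h4
      exact h4
    rw [h3]
    simp
  rw [rho_pnt, hco]
  simp [VecGrp.Wmap_tmul]

theorem mem_fixedUnder_iff {D : Type u} [CommRing D] [HopfAlgebra k D] [Algebra.FiniteType k D] [_root_.IsReduced D]
    (e' : (Spec (CommRingCat.of D)).asOver (Spec (CommRingCat.of k)) ≅ H) [IsMonHom e'.hom]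
    {M : Type u} [AddCommGroup M] [Module k M] (ρ : VecGrp.GMod G M) (v : M) :
    v ∈ ρ.fixedUnder i ↔ ∀ ψ : D →ₐ[k] k, ρ.ρ k (pnt e' ψ ≫ i) ((1 : k) ⊗ₜ[k] v) = (1 : k) ⊗ₜ[k] v :=
  ⟨fun h ψ => h k _, fun h B _ _ g => fixed_of_points e' (res ρ i) h B g⟩

omit [IsAlgClosed k] in
/-- Constant functions. -/
theorem fnC_const {C : Type u} [CommRing C] [HopfAlgebra k C]
    (e : (Spec (CommRingCat.of C)).asOver (Spec (CommRingCat.of k)) ≅ G) [IsMonHom e.hom] (r : k) :
    fnC e (G.hom.appTop ((Scheme.ΓSpecIso (CommRingCat.of k)).inv r)) = algebraMap k C r := by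
  show (Scheme.ΓSpecIso (CommRingCat.of C)).hom (e.hom.left.appTop (G.hom.appTop _)) = _
  rw [← GmPts.appTop_comp_apply, show e.hom.left ≫ G.hom = Spec.map (CommRingCat.ofHom (algebraMap k C)) from Over.w e.hom]
  exact (congr($(Scheme.ΓSpecIso_naturality (CommRingCat.ofHom (algebraMap k C))) _)).trans
    (congrArg (algebraMap k C) (congr($((Scheme.ΓSpecIso (CommRingCat.of k)).inv_hom_id) r)))

/-- Homomorphisms agreeing on an epimorphic subgroup agree. -/
theorem eq_of_const (hb : ∀ f : Γ(G.left, ⊤), ((G ◁ i) ≫ μ[G]).left.appTop f = (fst G H).left.appTop f →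
      ∃ c : k, f = G.hom.appTop ((Scheme.ΓSpecIso (CommRingCat.of k)).inv c))
    {G' : Over (Spec (CommRingCat.of k))} [GrpObj G'] [IsAffine G'.left] (r s : G ⟶ G') [IsMonHom r] [IsMonHom s]
    (hrs : i ≫ r = i ≫ s) : r = s := by
  have hq : ((G ◁ i) ≫ μ[G]) ≫ (r * s⁻¹) = fst G H ≫ (r * s⁻¹) := by
    have hq0 : (G ◁ i) ≫ μ[G] = fst G H * (snd G H ≫ i) := by
      rw [Hom.mul_def]
      congr 1
    rw [hq0, MonObj.comp_mul, MonObj.comp_mul, GrpObj.comp_inv, GrpObj.comp_inv, MonObj.mul_comp, MonObj.mul_comp,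
      Category.assoc, Category.assoc, hrs]
    rw [_root_.mul_inv_rev, _root_.mul_assoc, ← _root_.mul_assoc (snd G H ≫ i ≫ s), mul_inv_cancel, _root_.one_mul]
  have hη : η[G] ≫ (r * s⁻¹) = η[G] ≫ (1 : G ⟶ G') := by
    rw [MonObj.comp_mul, GrpObj.comp_inv, IsMonHom.one_hom, IsMonHom.one_hom, mul_inv_cancel, MonObj.comp_one]
  have hone : ((G ◁ i) ≫ μ[G]) ≫ (1 : G ⟶ G') = fst G H ≫ (1 : G ⟶ G') := by
    rw [MonObj.comp_one, MonObj.comp_one]
  have key : ∀ f : Γ(G'.left, ⊤), (r * s⁻¹).left.appTop f = (1 : G ⟶ G').left.appTop f := by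
    intro f
    have inv : ∀ q : G ⟶ G', ((G ◁ i) ≫ μ[G]) ≫ q = fst G H ≫ q →
        ((G ◁ i) ≫ μ[G]).left.appTop (q.left.appTop f) = (fst G H).left.appTop (q.left.appTop f) := fun q hq => by
      rw [← GmPts.appTop_comp_apply, ← GmPts.appTop_comp_apply, ← Over.comp_left, ← Over.comp_left, hq]
    obtain ⟨a, ha⟩ := hb _ (inv _ hq)
    obtain ⟨b, hb'⟩ := hb _ (inv _ hone)
    rw [ha, hb']
    congr 2
    have h1 := congrArg (fun q : 𝟙_ (Over (Spec (CommRingCat.of k))) ⟶ G' => q.left.appTop f) hη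
    simp only [Over.comp_left, GmPts.appTop_comp_apply, ha, hb'] at h1
    rw [← GmPts.appTop_comp_apply, ← GmPts.appTop_comp_apply, Over.w η[G]] at h1
    simp only [Over.tensorUnit_hom, Scheme.Hom.id_appTop] at h1
    exact (ConcreteCategory.bijective_of_isIso (Scheme.ΓSpecIso (CommRingCat.of k)).inv).1 h1
  refine mul_inv_eq_one.1 (Over.OverMorphism.ext (ext_of_isAffine ?_))
  ext f
  exact key f

/-- Invariant vectors of a subgroup without invariant functions are invariant. -/
theorem Coords.fixed_of_const (c : Coords G H i)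
    (hb : ∀ f ∈ Inv (SG c.π), ∃ a : k, f = algebraMap k c.C a) {V : Type u} [AddCommGroup V] [Module k V]
    [HopfRep.Comod k c.C V] {v : V} (hv : ∀ g ∈ SG c.π, RedLR.ptAct V g v = v)
    (g : WithConv (c.C →ₐ[k] k)) : RedLR.ptAct V g v = v := by
  by_contra hne
  obtain ⟨l, hl⟩ := Module.Projective.exists_dual_ne_zero k (sub_ne_zero.2 hne)
  obtain ⟨a, ha⟩ := hb _ (cf_mem_Inv hv l)
  have h1 := congrArg g.ofConv ha
  have h2 := congrArg (1 : WithConv (c.C →ₐ[k] k)).ofConv ha
  rw [apply_cf, AlgHom.commutes] at h1 h2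
  rw [act_one_apply] at h2
  exact hl (by rw [map_sub, h1, h2, sub_self])

set_option maxHeartbeats 1000000 in
/-- A vector fixed by a subgroup is fixed, if homomorphisms agreeing on the subgroup agree. -/
theorem Coords.fixed_of_hom_ext (c : Coords G H i)
    (he : ∀ (G' : Over (Spec (CommRingCat.of k))) [GrpObj G'] [IsAffine G'.left] [Smooth G'.hom]
      (r s : G ⟶ G') [IsMonHom r] [IsMonHom s], i ≫ r = i ≫ s → r = s)
    {V : Type u} [AddCommGroup V] [Module k V] [HopfRep.Comod k c.C V] {v : V}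
    (hv : ∀ g ∈ SG c.π, RedLR.ptAct V g v = v) (g : WithConv (c.C →ₐ[k] k)) : RedLR.ptAct V g v = v := by
  classical
  let W : Submodule k V := Submodule.span k (Set.range fun g : WithConv (c.C →ₐ[k] k) => RedLR.ptAct V g v)
  have hst : ∀ g : WithConv (c.C →ₐ[k] k), ∀ w ∈ W, RedLR.ptAct V g w ∈ W := by
    intro g w hw
    induction hw using Submodule.span_induction with
    | mem x hx =>
      obtain ⟨g', rfl⟩ := hx
      show RedLR.ptAct V g (RedLR.ptAct V g' v) ∈ W
      rw [← act_mul_apply]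
      exact Submodule.subset_span ⟨g * g', rfl⟩
    | zero => rw [map_zero]; exact W.zero_mem
    | add x y _ _ hx hy => rw [map_add]; exact W.add_mem hx hy
    | smul a x _ hx => rw [map_smul]; exact W.smul_mem a hx
  haveI : Module.Finite k W := by
    obtain ⟨S, hS⟩ := TensorProduct.exists_finset (HopfRep.Comod.coact (k := k) (A := c.C) v)
    refine Submodule.finiteDimensional_of_le (S₂ := Submodule.span k ((S.image Prod.fst : Finset V) : Set V)) ?_
    rw [Submodule.span_le]
    rintro _ ⟨g, rfl⟩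
    show RedLR.ptAct V g v ∈ _
    rw [← toConv_ofConv g, RedLR.ptAct_eq_act]
    show TensorProduct.rid k V (g.ofConv.toLinearMap.lTensor V (HopfRep.Comod.coact (k := k) (A := c.C) v)) ∈ _
    rw [hS]
    simp only [map_sum, LinearMap.lTensor_tmul, TensorProduct.rid_tmul]
    exact Submodule.sum_mem _ fun p hp => Submodule.smul_mem _ _
      (Submodule.subset_span (Finset.mem_coe.2 (Finset.mem_image_of_mem _ hp)))
  let b := Module.finBasis k W
  have hv0 : v ∈ W := Submodule.subset_span ⟨1, act_one_apply v⟩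
  choose L hL using fun j => LinearMap.exists_extend (b.coord j)
  have hL' : ∀ j (w : W), L j (w : V) = b.repr w j := fun j w => LinearMap.congr_fun (hL j) w
  let M : Matrix _ _ c.C := Matrix.of fun j l => cf (L j) (b l : V)
  have hM : ∀ g j l, (g : WithConv (c.C →ₐ[k] k)).ofConv (M j l) = L j (RedLR.ptAct V g (b l : V)) :=
    fun g j l => apply_cf _ _ g
  have hdec : ∀ (g : WithConv (c.C →ₐ[k] k)) l, RedLR.ptAct V g (b l : V) = ∑ j, (g.ofConv (M j l)) • (b j : V) := by
    intro g l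
    have h1 := congrArg (Subtype.val : W → V) (b.sum_repr ⟨_, hst g _ (b l).2⟩)
    simp only [Submodule.coe_sum, Submodule.coe_smul] at h1
    rw [← h1]
    exact Finset.sum_congr rfl fun j _ => by rw [hM, ← hL']
  let cv : Matrix (Fin (Module.finrank k W)) (Fin 1) k := Matrix.of fun j _ => b.repr ⟨v, hv0⟩ j
  have hfix : ∀ g : WithConv (c.C →ₐ[k] k), RedLR.ptAct V g v = v ↔ M.map g.ofConv * cv = cv := by
    intro g
    have h1 : ∀ j, (M.map g.ofConv * cv) j 0 = L j (RedLR.ptAct V g v) := by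
      intro j
      have h2 := congrArg (Subtype.val : W → V) (b.sum_repr ⟨v, hv0⟩)
      simp only [Submodule.coe_sum, Submodule.coe_smul] at h2
      conv_rhs => rw [← h2, map_sum, map_sum]
      simp only [Matrix.mul_apply, Matrix.map_apply, hM, map_smul, smul_eq_mul, cv, Matrix.of_apply]
      exact Finset.sum_congr rfl fun l _ => mul_comm _ _
    constructor
    · intro h
      ext j o
      rw [Subsingleton.elim o 0, h1, h]
      exact hL' j ⟨v, hv0⟩
    · intro h
      have h3 : (⟨RedLR.ptAct V g v, hst g v hv0⟩ : W) = ⟨v, hv0⟩ := b.ext_elem fun j => by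
        rw [← hL', ← h1 j, h]
        rfl
      exact congrArg Subtype.val h3
  let n := Module.finrank k W
  let σ : Fin (n + 1) → Fin n ⊕ Fin 1 := finSumFinEquiv.symm
  let P : Matrix (Fin n ⊕ Fin 1) (Fin n ⊕ Fin 1) k := Matrix.fromBlocks 1 cv 0 1
  let Q : Matrix (Fin n ⊕ Fin 1) (Fin n ⊕ Fin 1) k := Matrix.fromBlocks 1 (-cv) 0 1
  have hPQ : P * Q = 1 := by simp [P, Q, Matrix.fromBlocks_multiply]
  have hQP : Q * P = 1 := by simp [P, Q, Matrix.fromBlocks_multiply]
  let X : Matrix (Fin n ⊕ Fin 1) (Fin n ⊕ Fin 1) c.C := Matrix.fromBlocks M 0 0 1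
  let Y : Matrix (Fin n ⊕ Fin 1) (Fin n ⊕ Fin 1) c.C := P.map (algebraMap k c.C) * X * Q.map (algebraMap k c.C)
  have hX1 : X.map (1 : WithConv (c.C →ₐ[k] k)).ofConv = 1 := by
    have : M.map (1 : WithConv (c.C →ₐ[k] k)).ofConv = 1 := by
      ext j l
      rw [Matrix.map_apply, hM, act_one_apply, hL', b.repr_self, Finsupp.single_apply, Matrix.one_apply]
      simp [eq_comm]
    simp [X, Matrix.fromBlocks_map, this]
  have hXm : ∀ x y : WithConv (c.C →ₐ[k] k), X.map (x * y).ofConv = X.map x.ofConv * X.map y.ofConv := by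
    intro x y
    have : M.map (x * y).ofConv = M.map x.ofConv * M.map y.ofConv := by
      ext j l
      rw [Matrix.map_apply, hM, act_mul_apply, hdec y, map_sum, map_sum, Matrix.mul_apply]
      refine Finset.sum_congr rfl fun m _ => ?_
      rw [map_smul, map_smul, Matrix.map_apply, Matrix.map_apply]
      simp only [hM, smul_eq_mul]
      exact mul_comm _ _
    simp [X, Matrix.fromBlocks_map, Matrix.fromBlocks_multiply, this]
  have hYv : ∀ x : WithConv (c.C →ₐ[k] k), Y.map x.ofConv = P * X.map x.ofConv * Q := by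
    intro x
    have hsc : ∀ R : Matrix (Fin n ⊕ Fin 1) (Fin n ⊕ Fin 1) k, (R.map (algebraMap k c.C)).map x.ofConv = R := fun R => by
      ext a b; simp
    show (P.map (algebraMap k c.C) * X * Q.map (algebraMap k c.C)).map x.ofConv = _
    rw [Matrix.map_mul, Matrix.map_mul, hsc, hsc]
  have hcX : Comod.IsCorep (k := k) (X.submatrix σ σ) := isCorep_of_points _
    (by rw [← Matrix.submatrix_map, hX1]; exact Matrix.submatrix_one_equiv _)
    (fun x y => by rw [← Matrix.submatrix_map, ← Matrix.submatrix_map, ← Matrix.submatrix_map, hXm]; exact (Matrix.submatrix_mul_equiv _ _ _ _ _).symm)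
  have hcY : Comod.IsCorep (k := k) (Y.submatrix σ σ) := isCorep_of_points _
    (by rw [← Matrix.submatrix_map, hYv, hX1, _root_.mul_one, hPQ]; exact Matrix.submatrix_one_equiv _)
    (fun x y => by
      rw [← Matrix.submatrix_map, ← Matrix.submatrix_map, ← Matrix.submatrix_map, hYv, hYv, hYv, hXm]
      refine Eq.trans ?_ (Matrix.submatrix_mul_equiv _ _ _ _ _).symm
      congr 1
      calc P * (X.map x.ofConv * X.map y.ofConv) * Q = P * X.map x.ofConv * (1 * (X.map y.ofConv * Q)) := by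
            simp only [_root_.one_mul, _root_.mul_assoc]
        _ = P * X.map x.ofConv * Q * (P * X.map y.ofConv * Q) := by rw [← hQP]; simp only [_root_.mul_assoc])
  obtain ⟨φ1, hφ1⟩ := exists_bialgHom_of_corep hcX
  obtain ⟨φ2, hφ2⟩ := exists_bialgHom_of_corep hcY
  obtain ⟨u1, _, hu1⟩ := exists_hom_of_bialgHom c.e φ1
  obtain ⟨u2, _, hu2⟩ := exists_hom_of_bialgHom c.e φ2
  have hcomm : ∀ x : WithConv (c.C →ₐ[k] k), M.map x.ofConv * cv = cv ↔ X.map x.ofConv * P = P * X.map x.ofConv := by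
    intro x
    simp [X, P, Matrix.fromBlocks_map, Matrix.fromBlocks_multiply, Matrix.fromBlocks_inj]
  have hagree : i ≫ u1 = i ≫ u2 := by
    refine AdjRep.pts_ext fun B _ _ h => ?_
    obtain ⟨ψ, rfl⟩ := exists_eq_pnt c.e' h
    rw [← Category.assoc, ← Category.assoc, c.comp]
    refine Over.OverMorphism.ext ((hu1 B _).trans (Eq.trans ?_ (hu2 B _).symm))
    refine congrArg (fun t : CoordGrp.GLn (n + 1) k →ₐ[k] c.D => Spec.map (CommRingCat.ofHom (AlgHom.comp ψ t).toRingHom))
      (a₁ := (c.π : c.C →ₐ[k] c.D).comp (φ1 : CoordGrp.GLn (n + 1) k →ₐ[k] c.C))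
      (a₂ := (c.π : c.C →ₐ[k] c.D).comp (φ2 : CoordGrp.GLn (n + 1) k →ₐ[k] c.C)) ?_
    refine gln_algHom_ext fun a b' => ?_
    show (c.π : c.C →ₐ[k] c.D) (φ1 _) = (c.π : c.C →ₐ[k] c.D) (φ2 _)
    rw [hφ1, hφ2]
    refine ext_points (k := k) fun y => ?_
    have h1 : X.map (resPt c.π (toConv y)).ofConv = Y.map (resPt c.π (toConv y)).ofConv := by
      rw [hYv, ← (hcomm _).1 ((hfix _).1 (hv _ ⟨toConv y, rfl⟩)), _root_.mul_assoc, hPQ, _root_.mul_one]
    exact congrFun (congrFun h1 (σ a)) (σ b')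
  have h12 := he (AdjRep.GLSpec k (n + 1)) u1 u2 hagree
  refine (hfix g).2 ((hcomm g).2 ?_)
  have h1 : g.ofConv.comp (φ1 : CoordGrp.GLn (n + 1) k →ₐ[k] c.C) =
      g.ofConv.comp (φ2 : CoordGrp.GLn (n + 1) k →ₐ[k] c.C) := by
    have h2 := hu1 k g.ofConv
    rw [h12, hu2 k g.ofConv] at h2
    exact AlgHom.coe_ringHom_injective (congrArg CommRingCat.Hom.hom (Spec.map_injective h2)).symm
  have h3 : X.map g.ofConv = Y.map g.ofConv := by
    ext a b'
    obtain ⟨a, rfl⟩ := finSumFinEquiv.symm.surjective a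
    obtain ⟨b', rfl⟩ := finSumFinEquiv.symm.surjective b'
    have h4 := congr($h1 (CoordGrp.GLn.X a b'))
    simp only [AlgHom.comp_apply] at h4
    change g.ofConv (φ1 _) = g.ofConv (φ2 _) at h4
    rw [hφ1, hφ2] at h4
    exact h4
  rw [hYv] at h3
  conv_lhs => rw [h3]
  rw [_root_.mul_assoc, hQP, _root_.mul_one]

end Groth.Agent.GModLib
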