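import Groth.Agent.GModLib.ObsCrit
import Groth.Agent.Comod.Corep
import Groth.Agent.S16480
import Groth.Agent.AdjRep.ToGL

/-!
# Homomorphisms to general linear groups from multiplicative matrices
-/

set_option autoImplicit false
set_option linter.style.haveILetI false
set_option backward.isDefEq.respectTransparency false

universe u

open CategoryTheory CategoryTheory.Limits MonoidalCategory CartesianMonoidalCategory MonObj GrpObj AlgebraicGeometry
open TensorProduct WithConv Opposite

noncomputable section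

namespace Groth.Agent.GModLib

variable {k : Type u} [Field k]

theorem smooth_gln (n : ℕ) : Algebra.Smooth k (CoordGrp.GLn n k) := by
  haveI : Algebra.FiniteType k (CoordGrp.GLb n k) :=
    inferInstanceAs (Algebra.FiniteType k (MvPolynomial (CoordGrp.GLPoly.Idx n) k))
  haveI : Algebra.FiniteType k (CoordGrp.GLn n k) :=
    Algebra.FiniteType.of_surjective (CoordGrp.GLn.mk n k) Ideal.Quotient.mk_surjective
  haveI : Algebra.FormallySmooth k (CoordGrp.GLn n k) := by
    refine Algebra.FormallySmooth.of_comp_surjective fun B _ _ I hI f => ?_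
    choose M hM using fun i j => Ideal.Quotient.mk_surjective (f (CoordGrp.GLn.X i j))
    obtain ⟨d0, hd0⟩ := Ideal.Quotient.mk_surjective (f CoordGrp.GLn.Dinv)
    let M' : Matrix (Fin n) (Fin n) B := Matrix.of M
    have h1 : Ideal.Quotient.mk I (M'.det * d0) = 1 := by
      rw [map_mul, RingHom.map_det, hd0]
      have h2 : (Ideal.Quotient.mk I).mapMatrix M' = f.mapMatrix (CoordGrp.GLn.genMat n k) := by
        ext i j
        exact hM i j
      rw [h2, ← AlgHom.map_det, ← CoordGrp.GLn.det_eq, ← map_mul, CoordGrp.GLn.det_mul_Dinv, map_one]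
    have h3 : IsNilpotent (M'.det * d0 - 1) := ⟨2, by
      have h4 : M'.det * d0 - 1 ∈ I := Ideal.Quotient.eq.1 (h1.trans (map_one _).symm)
      have h5 := Ideal.pow_mem_pow h4 2
      rw [hI] at h5
      exact h5⟩
    obtain ⟨w, hw⟩ : IsUnit (M'.det * d0) := by
      simpa using h3.isUnit_add_one
    have h7 : M'.det * (d0 * ↑w⁻¹) = 1 := by rw [← _root_.mul_assoc, ← hw, Units.mul_inv]
    refine ⟨CoordGrp.GLn.pt n k M' (d0 * ↑w⁻¹) h7, CoordGrp.GLn.algHom_ext (fun i j => ?_) ?_⟩
    · show Ideal.Quotient.mk I (CoordGrp.GLn.pt n k M' _ h7 (CoordGrp.GLn.X i j)) = _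
      rw [CoordGrp.GLn.pt_X]
      exact hM i j
    · show Ideal.Quotient.mk I (CoordGrp.GLn.pt n k M' _ h7 CoordGrp.GLn.Dinv) = _
      rw [CoordGrp.GLn.pt_Dinv, map_mul, hd0]
      have h5 : Ideal.Quotient.mk I (↑w : B) = 1 := by rw [hw, h1]
      have h6 := congrArg (Ideal.Quotient.mk I) w.mul_inv
      rw [map_mul, h5, _root_.one_mul, map_one] at h6
      rw [h6, _root_.mul_one]
  haveI : Algebra.FinitePresentation k (CoordGrp.GLn n k) :=
    (Algebra.FinitePresentation.of_finiteType (R := k)).1 inferInstance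
  exact { }

variable {C : Type u} [CommRing C] [HopfAlgebra k C]

/-- A bialgebra map from a corepresentation. -/
theorem exists_bialgHom_of_corep {n : ℕ} {M : Matrix (Fin n) (Fin n) C} (hM : Comod.IsCorep (k := k) M) :
    ∃ φ : CoordGrp.GLn n k →ₐc[k] C, ∀ i j, φ (CoordGrp.GLn.X i j) = M i j := by
  let S := HopfAlgebra.antipodeAlgHom k C
  let d : C := (M.map S).det
  have hd : M.det * d = 1 := by rw [← Matrix.det_mul, hM.mul_antipode, Matrix.det_one]
  let φ₀ : CoordGrp.GLb n k →ₐ[k] C := CoordGrp.GLb.aeval n k M d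
  have hrel : φ₀ (CoordGrp.GLb.rel n k) = 0 := by
    rw [CoordGrp.GLb.rel, map_sub, map_mul, map_one, CoordGrp.GLb.det, AlgHom.map_det,
      CoordGrp.GLb.aeval_mapMatrix_genMat, CoordGrp.GLb.aeval_D, hd, sub_self]
  let φ : CoordGrp.GLn n k →ₐ[k] C := Ideal.Quotient.liftₐ _ φ₀ fun a ha => by
    obtain ⟨c, rfl⟩ := Ideal.mem_span_singleton'.mp ha
    rw [map_mul, hrel, mul_zero]
  have hmk : ∀ x, φ (CoordGrp.GLn.mk n k x) = φ₀ x := fun x => rfl
  have hεd : Bialgebra.counitAlgHom k C d = 1 := by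
    have h := congr_arg (Bialgebra.counitAlgHom k C) hd
    rw [map_mul, map_one, AlgHom.map_det] at h
    rw [show (Bialgebra.counitAlgHom k C).mapMatrix M = 1 from hM.map_counit, Matrix.det_one, _root_.one_mul] at h
    exact h
  have hΔd : Bialgebra.comulAlgHom k C d = d ⊗ₜ[k] d := by
    have h := congr_arg (Bialgebra.comulAlgHom k C) hd
    rw [map_mul, map_one, AlgHom.map_det] at h
    rw [show (Bialgebra.comulAlgHom k C).mapMatrix M = _ from hM.map_comul, Matrix.det_mul] at h
    refine (left_inv_eq_right_inv (a := (Bialgebra.comulAlgHom k C) M.det) ?_ ?_).symm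
    · rw [AlgHom.map_det, show (Bialgebra.comulAlgHom k C).mapMatrix M = _ from hM.map_comul, Matrix.det_mul,
        show M.map (Algebra.TensorProduct.includeLeft : C →ₐ[k] C ⊗[k] C) =
          (Algebra.TensorProduct.includeLeft : C →ₐ[k] C ⊗[k] C).mapMatrix M from rfl,
        show M.map (Algebra.TensorProduct.includeRight : C →ₐ[k] C ⊗[k] C) =
          (Algebra.TensorProduct.includeRight : C →ₐ[k] C ⊗[k] C).mapMatrix M from rfl,
        ← AlgHom.map_det, ← AlgHom.map_det]
      simp [Algebra.TensorProduct.tmul_mul_tmul, mul_comm d, hd, Algebra.TensorProduct.one_def]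
    · rw [← map_mul, hd, map_one]
  have hε : (Bialgebra.counitAlgHom k C).comp φ = Bialgebra.counitAlgHom k (CoordGrp.GLn n k) := by
    refine Ideal.Quotient.algHom_ext k (CoordGrp.GLb.algHom_ext (fun i j => ?_) ?_)
    · show Bialgebra.counitAlgHom k C (φ₀ (CoordGrp.GLb.X i j)) =
        CoalgebraStruct.counit (R := k) (CoordGrp.GLb.X i j : CoordGrp.GLb n k)
      rw [CoordGrp.GLb.aeval_X, CoordGrp.GLb.counit_X]
      exact congrFun (congrFun hM.map_counit i) j
    · show Bialgebra.counitAlgHom k C (φ₀ CoordGrp.GLb.D) =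
        CoalgebraStruct.counit (R := k) (CoordGrp.GLb.D : CoordGrp.GLb n k)
      rw [CoordGrp.GLb.aeval_D, CoordGrp.GLb.counit_D, hεd]
  have hΔ : (Algebra.TensorProduct.map φ φ).comp (Bialgebra.comulAlgHom k (CoordGrp.GLn n k)) =
      (Bialgebra.comulAlgHom k C).comp φ := by
    refine Ideal.Quotient.algHom_ext k (CoordGrp.GLb.algHom_ext (fun i j => ?_) ?_)
    · show Algebra.TensorProduct.map φ φ (TensorProduct.map (CoordGrp.GLn.mk n k).toLinearMap
        (CoordGrp.GLn.mk n k).toLinearMap (CoalgebraStruct.comul (R := k) (CoordGrp.GLb.X i j : CoordGrp.GLb n k))) =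
        Bialgebra.comulAlgHom k C (φ₀ (CoordGrp.GLb.X i j))
      rw [CoordGrp.GLb.comul_X, CoordGrp.GLb.aeval_X]
      refine Eq.trans ?_ (congrFun (congrFun hM.map_comul i) j).symm
      have hX : ∀ i j, φ (CoordGrp.GLn.X i j) = M i j := fun i j => by
        show φ (CoordGrp.GLn.mk n k (CoordGrp.GLb.X i j)) = _
        rw [hmk]; simp [φ₀]
      simp [Matrix.mul_apply, map_sum, hmk, φ₀, Algebra.TensorProduct.tmul_mul_tmul]
      simp [hX]
    · show Algebra.TensorProduct.map φ φ (TensorProduct.map (CoordGrp.GLn.mk n k).toLinearMap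
        (CoordGrp.GLn.mk n k).toLinearMap (CoalgebraStruct.comul (R := k) (CoordGrp.GLb.D : CoordGrp.GLb n k))) =
        Bialgebra.comulAlgHom k C (φ₀ CoordGrp.GLb.D)
      rw [CoordGrp.GLb.comul_D, CoordGrp.GLb.aeval_D, hΔd]
      simp [hmk, φ₀]
      have hD : φ CoordGrp.GLn.Dinv = d := by
        show φ (CoordGrp.GLn.mk n k CoordGrp.GLb.D) = _
        rw [hmk]; simp [φ₀]
      rw [hD]
  refine ⟨BialgHom.ofAlgHom φ hε hΔ, fun i j => ?_⟩
  show φ (CoordGrp.GLn.mk n k (CoordGrp.GLb.X i j)) = _
  rw [hmk]; simp [φ₀]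

variable {G : Over (Spec (CommRingCat.of k))} [GrpObj G]
variable (e : (Spec (CommRingCat.of C)).asOver (Spec (CommRingCat.of k)) ≅ G) [IsMonHom e.hom]

/-- The homomorphism of a bialgebra map. -/
theorem exists_hom_of_bialgHom {L : Type u} [CommRing L] [HopfAlgebra k L] (φ : L →ₐc[k] C) :
    ∃ u : G ⟶ (Spec (CommRingCat.of L)).asOver (Spec (CommRingCat.of k)), IsMonHom u ∧
      ∀ (B : Type u) [CommRing B] [Algebra k B] (ψ : C →ₐ[k] B),
        (pnt e ψ ≫ u).left = Spec.map (CommRingCat.ofHom (ψ.comp (φ : L →ₐ[k] C)).toRingHom) := by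
  let q := (hopfSpec (CommRingCat.of k)).map (X := op (CommHopfAlgCat.of k C)) (Y := op (CommHopfAlgCat.of k L))
    (CommHopfAlgCat.ofHom φ).op
  let w : (Spec (CommRingCat.of C)).asOver (Spec (CommRingCat.of k)) ⟶
      (Spec (CommRingCat.of L)).asOver (Spec (CommRingCat.of k)) := q.hom.hom
  haveI : IsMonHom w := inferInstanceAs (IsMonHom q.hom.hom)
  refine ⟨e.inv ≫ w, inferInstance, fun B _ _ ψ => ?_⟩
  rw [pnt, Category.assoc, e.hom_inv_id_assoc]
  show Spec.map (CommRingCat.ofHom ψ.toRingHom) ≫ Spec.map (CommRingCat.ofHom (φ : L →ₐ[k] C).toRingHom) = _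
  rw [← Spec.map_comp]
  rfl

/-- A matrix which is multiplicative on points is a corepresentation. -/
theorem isCorep_of_points [IsAlgClosed k] [Algebra.FiniteType k C] [_root_.IsReduced C] {m' : Type*} [Fintype m'] [DecidableEq m']
    (M : Matrix m' m' C) (h1 : M.map ((1 : WithConv (C →ₐ[k] k)).ofConv) = 1)
    (hm : ∀ x y : WithConv (C →ₐ[k] k), M.map (x * y).ofConv = M.map x.ofConv * M.map y.ofConv) :
    Comod.IsCorep (k := k) M := by
  classical
  refine ⟨?_, ?_⟩
  · ext i j
    let b := Module.Free.chooseBasis k C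
    apply (TensorProduct.equivFinsuppOfBasisLeft b).injective
    ext r
    refine ext_points (k := k) fun y => ?_
    have h2 : ∀ t : C ⊗[k] C, y (TensorProduct.equivFinsuppOfBasisLeft b t r) =
        b.repr (TensorProduct.rid k C (y.toLinearMap.lTensor C t)) r := by
      intro t
      induction t using TensorProduct.induction_on with
      | zero => simp
      | add x y hx hy => simp only [map_add, Finsupp.add_apply, hx, hy]
      | tmul a d => simp [mul_comm]
    rw [h2, h2]
    congr 2
    refine ext_pt (k := k) fun x => ?_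
    have h3 : TensorProduct.rid k C (y.toLinearMap.lTensor C (CoalgebraStruct.comul (R := k) (M i j))) =
        rt (toConv y) (M i j) := act_eq_rt y _
    show x.ofConv (TensorProduct.rid k C (y.toLinearMap.lTensor C (CoalgebraStruct.comul (R := k) (M i j)))) = _
    rw [h3, apply_rt]
    have h4 := congrFun (congrFun (hm x (toConv y)) i) j
    rw [Matrix.map_apply] at h4
    rw [h4, Matrix.mul_apply, Matrix.mul_apply, map_sum, map_sum, map_sum]
    refine Finset.sum_congr rfl fun l _ => ?_
    simp [mul_comm]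
  · refine Eq.trans ?_ h1
    ext i j
    rw [Matrix.map_apply, Matrix.map_apply, AlgHom.convOne_apply]
    simp

end Groth.Agent.GModLib
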