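import Groth.Agent.GModLib.Trans
import Groth.Agent.Comod.Transfer

/-!
# Finitely many invariants; comodules containing a finite family of functions
-/

set_option autoImplicit false
set_option linter.style.haveILetI false
set_option backward.isDefEq.respectTransparency false

universe u

open CategoryTheory CategoryTheory.Limits MonoidalCategory CartesianMonoidalCategory MonObj GrpObj AlgebraicGeometry
open TensorProduct WithConv

noncomputable section

namespace Groth.Agent.GModLib

variable {k : Type u} [Field k] {C : Type u} [CommRing C] [HopfAlgebra k C]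

/-- The fixing condition is already imposed by finitely many functions. -/
theorem exists_finset_fixing [Algebra.FiniteType k C] (P : Set C) :
    ∃ s : Finset C, ↑s ⊆ P ∧ ∀ φ : C →ₐ[k] k, (∀ f ∈ s, HopfRep.Comod.act k C C φ f = f) →
      ∀ f ∈ P, HopfRep.Comod.act k C C φ f = f := by
  classical
  haveI : IsNoetherianRing C := Algebra.FiniteType.isNoetherianRing k C
  let b := Module.Free.chooseBasis k C
  let cf : C → _ → C := fun f i =>
    TensorProduct.equivFinsuppOfBasisLeft b (CoalgebraStruct.comul (R := k) f - f ⊗ₜ[k] (1 : C)) i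
  have hiff : ∀ (φ : C →ₐ[k] k) (f : C), HopfRep.Comod.act k C C φ f = f ↔ ∀ i, φ (cf f i) = 0 := by
    intro φ f
    have h2 : ∀ (t : C ⊗[k] C) (i), φ (TensorProduct.equivFinsuppOfBasisLeft b t i) =
        b.repr (TensorProduct.rid k C (φ.toLinearMap.lTensor C t)) i := by
      intro t i
      induction t using TensorProduct.induction_on with
      | zero => simp
      | add x y hx hy => simp only [map_add, Finsupp.add_apply, hx, hy]
      | tmul a d => simp [mul_comm]
    have h3 : TensorProduct.rid k C (φ.toLinearMap.lTensor C (CoalgebraStruct.comul (R := k) f - f ⊗ₜ[k] (1 : C))) =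
        HopfRep.Comod.act k C C φ f - f := by
      rw [map_sub, map_sub]
      simp [HopfRep.Comod.act]
      rfl
    simp only [cf, h2, h3]
    rw [← sub_eq_zero]
    exact ⟨fun h i => by simp [h], fun h => b.repr.injective (by rw [map_zero]; ext i; exact h i)⟩
  let S : Set C := {c | ∃ f ∈ P, ∃ i, cf f i = c}
  obtain ⟨s', hs', hspan⟩ := (Submodule.fg_span_iff_fg_span_finset_subset S).1 (IsNoetherian.noetherian (Submodule.span C S))
  choose g hgP gi hgi using fun c : s' => hs' c.2
  refine ⟨Finset.univ.image g, fun x hx => ?_, fun φ hφ f hf => (hiff φ f).2 fun i => ?_⟩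
  · simp only [Finset.coe_image, Set.mem_image] at hx
    obtain ⟨c, -, rfl⟩ := hx
    exact hgP c
  · have hle : Submodule.span C (↑s' : Set C) ≤ RingHom.ker φ := by
      refine Submodule.span_le.2 fun c hc => ?_
      show φ c = 0
      refine (congrArg φ (hgi ⟨c, hc⟩).symm).trans ?_
      exact (hiff φ _).1 (hφ _ (Finset.mem_image_of_mem g (Finset.mem_univ _))) _
    exact hle (hspan ▸ Submodule.subset_span ⟨f, hf, i, rfl⟩)

/-- A free module tensor the regular comodule. -/
@[reducible]
def freeComod (N : Type u) [AddCommGroup N] [Module k N] : HopfRep.Comod k C (N ⊗[k] C) where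
  coact := (TensorProduct.assoc k N C C).symm.toLinearMap ∘ₗ (CoalgebraStruct.comul (R := k) (A := C)).lTensor N
  coassoc := by
    refine TensorProduct.ext' fun n c => ?_
    simp only [LinearMap.comp_apply, LinearEquiv.coe_coe, LinearMap.lTensor_tmul]
    let F : C ⊗[k] (C ⊗[k] C) →ₗ[k] (N ⊗[k] C) ⊗[k] (C ⊗[k] C) :=
      (TensorProduct.assoc k N C (C ⊗[k] C)).symm.toLinearMap ∘ₗ TensorProduct.mk k N (C ⊗[k] (C ⊗[k] C)) n
    have h1 : ∀ t : C ⊗[k] C, TensorProduct.assoc k (N ⊗[k] C) C C
        (((TensorProduct.assoc k N C C).symm.toLinearMap ∘ₗ (CoalgebraStruct.comul (R := k) (A := C)).lTensor N).rTensor C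
          ((TensorProduct.assoc k N C C).symm (n ⊗ₜ[k] t))) =
        F (TensorProduct.assoc k C C C ((CoalgebraStruct.comul (R := k) (A := C)).rTensor C t)) := by
      intro t
      induction t using TensorProduct.induction_on with
      | zero => simp
      | add x y hx hy => simp only [map_add, TensorProduct.tmul_add, hx, hy]
      | tmul a d =>
        simp only [TensorProduct.assoc_symm_tmul, LinearMap.rTensor_tmul, LinearMap.comp_apply, LinearEquiv.coe_coe,
          LinearMap.lTensor_tmul]
        generalize CoalgebraStruct.comul (R := k) a = s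
        induction s using TensorProduct.induction_on with
        | zero => simp
        | add x y hx hy => simp only [map_add, TensorProduct.tmul_add, TensorProduct.add_tmul, hx, hy]
        | tmul a' a'' => simp [F]
    have h2 : ∀ t : C ⊗[k] C, (CoalgebraStruct.comul (R := k) (A := C)).lTensor (N ⊗[k] C)
        ((TensorProduct.assoc k N C C).symm (n ⊗ₜ[k] t)) = F ((CoalgebraStruct.comul (R := k) (A := C)).lTensor C t) := by
      intro t
      induction t using TensorProduct.induction_on with
      | zero => simp
      | add x y hx hy => simp only [map_add, TensorProduct.tmul_add, hx, hy]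
      | tmul a d => simp [F]
    rw [h1, h2, Coalgebra.coassoc_apply]
  counit_comp := by
    refine TensorProduct.ext' fun n c => ?_
    simp only [LinearMap.comp_apply, LinearEquiv.coe_coe, LinearMap.lTensor_tmul]
    have h1 : ∀ t : C ⊗[k] C, (CoalgebraStruct.counit (R := k) (A := C)).lTensor (N ⊗[k] C)
        ((TensorProduct.assoc k N C C).symm (n ⊗ₜ[k] t)) =
        (TensorProduct.assoc k N C k).symm (n ⊗ₜ[k] (CoalgebraStruct.counit (R := k) (A := C)).lTensor C t) := by
      intro t
      induction t using TensorProduct.induction_on with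
      | zero => simp
      | add x y hx hy => simp only [map_add, TensorProduct.tmul_add, hx, hy]
      | tmul a d => simp
    rw [h1, Coalgebra.lTensor_counit_comul]
    simp

theorem act_freeComod (N : Type u) [AddCommGroup N] [Module k N] (φ : C →ₐ[k] k) (z : N ⊗[k] C) :
    letI := freeComod (k := k) (C := C) N
    HopfRep.Comod.act k C (N ⊗[k] C) φ z = (HopfRep.Comod.act k C C φ).lTensor N z := by
  letI := freeComod (k := k) (C := C) N
  induction z using TensorProduct.induction_on with
  | zero => simp
  | add x y hx hy => rw [map_add, map_add, hx, hy]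
  | tmul n c =>
    show TensorProduct.rid k (N ⊗[k] C) (φ.toLinearMap.lTensor (N ⊗[k] C)
      ((TensorProduct.assoc k N C C).symm ((CoalgebraStruct.comul (R := k) (A := C)).lTensor N (n ⊗ₜ[k] c)))) =
      n ⊗ₜ[k] TensorProduct.rid k C (φ.toLinearMap.lTensor C (CoalgebraStruct.comul (R := k) c))
    rw [LinearMap.lTensor_tmul]
    generalize CoalgebraStruct.comul (R := k) c = t
    induction t using TensorProduct.induction_on with
    | zero => simp
    | add x y hx hy => simp only [map_add, TensorProduct.tmul_add, hx, hy]
    | tmul a d => simp [TensorProduct.tmul_smul]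

/-- A vector of a free module tensor the regular comodule lies in a finite dimensional representation. -/
theorem exists_comod_vec_aux (N : Type u) [AddCommGroup N] [Module k N] (z : N ⊗[k] C) :
    ∃ (V : Type u) (_ : AddCommGroup V) (_ : Module k V) (_ : Module.Finite k V) (_ : HopfRep.Comod k C V) (v : V),
      ∀ φ : C →ₐ[k] k, HopfRep.Comod.act k C V φ v = v ↔ (HopfRep.Comod.act k C C φ).lTensor N z = z := by
  letI cN : HopfRep.Comod k C (N ⊗[k] C) := freeComod N
  obtain ⟨S, hS, hfin⟩ := Comod.exists_finite_subcomod_finset (K := k) (C := C) ({z} : Finset (N ⊗[k] C))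
  have hW : HopfRep.IsSubcomod (k := k) (A := C) (Comod.ofDSub S) := Comod.isSubcomod_ofDSub S
  haveI : Module.Finite k (Comod.ofDSub S) := hfin
  letI cW : HopfRep.Comod k C (Comod.ofDSub S) := ComodSub.Comod.restr cN _ hW
  refine ⟨Comod.ofDSub S, inferInstance, inferInstance, inferInstance, cW, ⟨z, hS z (Finset.mem_singleton_self z)⟩, fun φ => ?_⟩
  have hsub : ∀ w : Comod.ofDSub S, ((HopfRep.Comod.act k C (Comod.ofDSub S) φ w : Comod.ofDSub S) : N ⊗[k] C) =
      HopfRep.Comod.act k C (N ⊗[k] C) φ w := by
    intro w
    have h := LinearMap.congr_fun (ComodSub.isComodHom_subtype cN _ hW) w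
    simp only [LinearMap.comp_apply] at h
    show (Comod.ofDSub S).subtype (TensorProduct.rid k _ (φ.toLinearMap.lTensor _ (cW.coact w))) =
      TensorProduct.rid k (N ⊗[k] C) (φ.toLinearMap.lTensor (N ⊗[k] C) (cN.coact w.1))
    rw [show cN.coact w.1 = (Comod.ofDSub S).subtype.rTensor C (cW.coact w) from h]
    generalize cW.coact w = t
    induction t using TensorProduct.induction_on with
    | zero => simp
    | add x y hx hy => simp only [map_add, hx, hy]
    | tmul a d => simp
  rw [Subtype.ext_iff, hsub, act_freeComod]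

/-- A finite dimensional representation with a vector fixed exactly by the points fixing the given functions. -/
theorem exists_comod_vec (s : Finset C) :
    ∃ (V : Type u) (_ : AddCommGroup V) (_ : Module k V) (_ : Module.Finite k V) (_ : HopfRep.Comod k C V) (v : V),
      ∀ φ : C →ₐ[k] k, HopfRep.Comod.act k C V φ v = v ↔ ∀ f ∈ s, HopfRep.Comod.act k C C φ f = f := by
  classical
  let b : Module.Basis ↥s k (↥s →₀ k) := Finsupp.basisSingleOne
  let z : (↥s →₀ k) ⊗[k] C := ∑ j : ↥s, b j ⊗ₜ[k] (j : C)
  obtain ⟨V, i1, i2, i3, i4, v, hv⟩ := exists_comod_vec_aux (k := k) (C := C) (↥s →₀ k) z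
  refine ⟨V, i1, i2, i3, i4, v, fun φ => (hv φ).trans ?_⟩
  simp only [z, map_sum, LinearMap.lTensor_tmul]
  constructor
  · intro h f hf
    have hb : ∀ (j : ↥s) (c : C), TensorProduct.lid k C ((Finsupp.lapply (⟨f, hf⟩ : ↥s) : (↥s →₀ k) →ₗ[k] k).rTensor C (b j ⊗ₜ[k] c)) =
        if j = ⟨f, hf⟩ then c else 0 := fun j c => by
      rw [LinearMap.rTensor_tmul, TensorProduct.lid_tmul]
      by_cases hj : j = ⟨f, hf⟩ <;> simp [b, Finsupp.single_apply, hj]
    have h' := congrArg (fun t => TensorProduct.lid k C ((Finsupp.lapply (⟨f, hf⟩ : ↥s) : (↥s →₀ k) →ₗ[k] k).rTensor C t)) h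
    simp only [map_sum, hb, Finset.sum_ite_eq', Finset.mem_univ, if_true] at h'
    exact h'
  · intro h
    exact Finset.sum_congr rfl fun j _ => by rw [h j j.2]

end Groth.Agent.GModLib
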