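import Groth.Agent.GModLib.ObsMain
import Groth.Agent.S11188

/-!
# Observability and open subgroups
-/

set_option autoImplicit false
set_option linter.style.haveILetI false
set_option backward.isDefEq.respectTransparency false

universe u

open CategoryTheory CategoryTheory.Limits MonoidalCategory CartesianMonoidalCategory MonObj GrpObj AlgebraicGeometry
open TensorProduct

noncomputable section

namespace Groth.Agent.GModLib

variable {k : Type u} [Field k] [IsAlgClosed k]

/-- Composites of observable closed subgroups are observable. -/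
theorem obs_comp {G K H : Over (Spec (CommRingCat.of k))} [GrpObj G] [IsAffine G.left] [Smooth G.hom]
    [GrpObj K] [Smooth K.hom] (j : K ⟶ G) [IsMonHom j] [IsClosedImmersion j.left]
    [GrpObj H] [Smooth H.hom] (i : H ⟶ K) [IsMonHom i] [IsClosedImmersion i.left]
    (hH : AGF.IsObservableIn k i) (hK : AGF.IsObservableIn k j) : AGF.IsObservableIn k (i ≫ j) := by
  haveI : IsAffine K.left := isAffine_of_isAffineHom j.left
  haveI : IsClosedImmersion (i ≫ j).left := by rw [Over.comp_left]; infer_instance
  obtain ⟨c⟩ := exists_coords G H (i ≫ j)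
  obtain ⟨ci⟩ := exists_coords K H i
  obtain ⟨cj⟩ := exists_coords G K j
  exact c.obs_of_extends fun V _ _ _ σ =>
    extendsAlong_trans (fun W _ _ _ τ => cj.extendsAlong hK τ) (ci.extendsAlong hH σ)

/-- Observability is seen on open subgroups. -/
theorem obs_iff_of_open {G H G₀ K : Over (Spec (CommRingCat.of k))} [GrpObj G] [IsAffine G.left] [Smooth G.hom]
    [GrpObj H] [Smooth H.hom] (i : H ⟶ G) [IsMonHom i] [IsClosedImmersion i.left]
    [GrpObj G₀] (j : G₀ ⟶ G) [IsMonHom j] [IsOpenImmersion j.left]
    [GrpObj K] (a : K ⟶ H) [IsMonHom a] [IsOpenImmersion a.left] (b : K ⟶ G₀) [IsMonHom b]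
    (hc : b ≫ j = a ≫ i) : AGF.IsObservableIn k i ↔ AGF.IsObservableIn k b := by
  haveI : IsAffine H.left := isAffine_of_isAffineHom i.left
  haveI : IsClosedImmersion j.left := isClosedImmersion_of_isOpenImmersion
  haveI : IsClosedImmersion a.left := isClosedImmersion_of_isOpenImmersion
  haveI : IsAffine G₀.left := isAffine_of_isAffineHom j.left
  haveI : IsAffine K.left := isAffine_of_isAffineHom a.left
  haveI : Smooth G₀.hom := by rw [← Over.w j]; infer_instance
  haveI : Smooth K.hom := by rw [← Over.w a]; infer_instance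
  haveI : IsClosedImmersion (a ≫ i).left := by rw [Over.comp_left]; infer_instance
  haveI : IsClosedImmersion b.left := by
    haveI : IsClosedImmersion (b.left ≫ j.left) := by rw [← Over.comp_left, hc]; infer_instance
    exact IsClosedImmersion.of_comp b.left j.left
  haveI : Mono j.left := inferInstance
  constructor
  · intro hi
    obtain ⟨ca⟩ := exists_coords H K a
    have hai : AGF.IsObservableIn k (b ≫ j) := by rw [hc]; exact obs_comp i a ca.obs_open hi
    haveI : IsClosedImmersion (b ≫ j).left := by rw [hc]; infer_instance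
    obtain ⟨V, i1, i2, i3, ρ, v, hv⟩ := ((Groth.Agent.S11188.result k G K (b ≫ j)).out 0 1).1 hai
    have hT := (Groth.Agent.S11188.result k G₀ K b).out 1 0
    refine hT.1 ⟨V, i1, i2, i3, res ρ j, v, fun g => ?_⟩
    refine (hv (g ≫ j)).trans (Iff.intro ?_ ?_)
    · rintro ⟨h, hh⟩
      refine ⟨h, Over.OverMorphism.ext ((cancel_mono j.left).1 ?_)⟩
      have h1 := congrArg (fun t => t.left) hh
      simp only [Over.comp_left, Category.assoc] at h1 ⊢
      exact h1
    · rintro ⟨h, rfl⟩
      exact ⟨h, (Category.assoc _ _ _).symm⟩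
  · intro hb
    obtain ⟨cj⟩ := exists_coords G G₀ j
    have hai : AGF.IsObservableIn k (a ≫ i) := hc ▸ obs_comp j b hb cj.obs_open
    obtain ⟨c⟩ := exists_coords G H i
    obtain ⟨ca⟩ := exists_coords H K a
    exact obs_of_open_subgroup c ca hai

end Groth.Agent.GModLib
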