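import Groth.Agent.GModLib.ObsMain
import Groth.Agent.GModLib.ObsSquare
import Groth.Agent.GrpField.SchImgExists

/-!
Invariant functions of an observable tower restrict surjectively.
-/

set_option autoImplicit false
set_option backward.isDefEq.respectTransparency false
set_option maxHeartbeats 1000000
set_option synthInstance.maxHeartbeats 200000
set_option linter.unusedSectionVars false
set_option linter.style.haveILetI false

universe u

open CategoryTheory MonoidalCategory CartesianMonoidalCategory MonObj GrpObj AlgebraicGeometry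
open TensorProduct WithConv

noncomputable section

namespace Groth.Agent.GModLib

variable {k : Type u} [Field k] [IsAlgClosed k]

/-- restriction of functions to a subgroup, on algebras -/
theorem Coords.fnC_restrict {G H : Over (Spec (CommRingCat.of k))} [GrpObj G] [GrpObj H] {i : H ⟶ G} [IsMonHom i]
    (c : Coords G H i) (f : Γ(G.left, ⊤)) :
    fnC c.e' (i.left.appTop f) = (c.π : c.C →ₐ[k] c.D) (fnC c.e f) := by
  refine ext_points (k := k) fun ψ => ?_
  rw [← val_pnt, ← AdjRep.val_comp, c.comp, val_pnt]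
  rfl

/-- invariance under a smooth subgroup, read on the algebra -/
theorem rTransInv_sub_iff {G H K : Over (Spec (CommRingCat.of k))} [GrpObj G] [GrpObj K] [IsAffine G.left]
    [Smooth G.hom] [Smooth K.hom] (κ : K ⟶ G) [IsMonHom κ] [IsClosedImmersion κ.left] {C : Type u} [CommRing C]
    [HopfAlgebra k C] (e : (Spec (CommRingCat.of C)).asOver (Spec (CommRingCat.of k)) ≅ G) [IsMonHom e.hom]
    (f : Γ(G.left, ⊤)) :
    AGF.IsRTransInv κ f ↔ ∀ q : VecGrp.pt k k ⟶ K, rt (algOf e (q ≫ κ)) (fnC e f) = fnC e f := by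
  obtain ⟨c⟩ := exists_coords G K κ
  rw [rTransInv_hom_iff c.e c.e' κ f]
  refine forall_congr' fun q => ?_
  conv_lhs => rw [← pnt_algOf e (q ≫ κ)]
  rw [rTransInv_pt_iff, act_eq_rt, toConv_ofConv]

variable {G H K : Over (Spec (CommRingCat.of k))} [GrpObj G] [GrpObj H] [GrpObj K] [IsAffine G.left] [Smooth G.hom]
  [Smooth H.hom] [Smooth K.hom] {i : H ⟶ G} [IsMonHom i] [IsClosedImmersion i.left] (c : Coords G H i)
  (κ : K ⟶ H) [IsMonHom κ] [IsClosedImmersion κ.left]

/-- invariance under a subgroup of the subgroup -/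
theorem Coords.rTransInv_comp_iff (f : Γ(G.left, ⊤)) :
    AGF.IsRTransInv (κ ≫ i) f ↔
      ∀ q : VecGrp.pt k k ⟶ K, rt (resPt c.π (algOf c.e' (q ≫ κ))) (fnC c.e f) = fnC c.e f := by
  haveI : IsClosedImmersion (κ ≫ i).left := inferInstanceAs (IsClosedImmersion (κ.left ≫ i.left))
  rw [rTransInv_sub_iff (H := H) (κ ≫ i) c.e f]
  refine forall_congr' fun q => ?_
  have h : algOf c.e (q ≫ κ ≫ i) = resPt c.π (algOf c.e' (q ≫ κ)) := by
    refine WithConv.ext (pnt_injective c.e ?_)
    show pnt c.e (algOf c.e (q ≫ κ ≫ i)).ofConv = pnt c.e ((algOf c.e' (q ≫ κ)).ofConv.comp (c.π : c.C →ₐ[k] c.D))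
    rw [← c.comp, pnt_algOf, pnt_algOf, Category.assoc]
  rw [h]

include c in
/-- observability passes to intermediate subgroups -/
theorem Coords.obs_factor (hK : AGF.IsObservableIn k (κ ≫ i)) : AGF.IsObservableIn k κ := by
  haveI : IsAffine H.left := isAffine_of_isAffineHom i.left
  haveI : Mono i := Over.mono_of_mono_left i
  intro g hg
  obtain ⟨φ, rfl⟩ := exists_eq_pnt c.e' g
  obtain ⟨q, hq⟩ := hK (pnt c.e' φ ≫ i) fun f hf => by
    rw [c.comp, rTransInv_pt_iff, act_eq_rt]
    rw [c.rTransInv_comp_iff κ] at hf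
    refine ext_pt fun (x : WithConv (c.C →ₐ[k] k)) => ?_
    rw [apply_rt]
    let v := fnC c.e f
    obtain ⟨f', hf'⟩ := (fnC_bijective c.e').2 ((c.π : c.C →ₐ[k] c.D) (lt x v))
    have h1 : AGF.IsRTransInv κ f' := by
      rw [rTransInv_sub_iff (H := H) κ c.e']
      intro q
      rw [hf', ← apply_rt_res, rt_lt_comm, hf q]
    have h2 := hg f' h1
    rw [rTransInv_pt_iff, act_eq_rt, hf'] at h2
    have h3 := congrArg (1 : WithConv (c.D →ₐ[k] k)).ofConv h2
    rw [apply_rt, _root_.one_mul] at h3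
    have h4 : (resPt c.π (toConv φ)).ofConv (lt x v) = (resPt c.π 1).ofConv (lt x v) := h3
    rw [map_one, apply_lt, apply_lt, _root_.mul_one] at h4
    exact h4
  exact ⟨q, (cancel_mono i).1 (by rw [Category.assoc, hq])⟩

include c in
/-- invariant functions of the intermediate group extend to invariant functions -/
theorem Coords.exists_inv_lift (hobs : AGF.IsObservableIn k i) (f' : Γ(H.left, ⊤)) (hf' : AGF.IsRTransInv κ f') :
    ∃ f : Γ(G.left, ⊤), AGF.IsRTransInv (κ ≫ i) f ∧ i.left.appTop f = f' := by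
  classical
  haveI : IsAffine H.left := isAffine_of_isAffineHom i.left
  rw [rTransInv_sub_iff (H := H) κ c.e'] at hf'
  let cD : HopfRep.Comod k c.D c.D := inferInstance
  let v : c.D := fnC c.e' f'
  obtain ⟨S, hS, hfin⟩ := Comod.exists_finite_subcomod_finset (K := k) (C := c.D) ({v} : Finset c.D)
  have hW : HopfRep.IsSubcomod (k := k) (A := c.D) (Comod.ofDSub S) := Comod.isSubcomod_ofDSub S
  haveI : Module.Finite k (Comod.ofDSub S) := hfin
  letI cV : HopfRep.Comod k c.D (Comod.ofDSub S) := ComodSub.Comod.restr cD _ hW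
  let v₀ : Comod.ofDSub S := ⟨v, hS v (Finset.mem_singleton_self v)⟩
  have hsub : ∀ (ψ : WithConv (c.D →ₐ[k] k)) (w : Comod.ofDSub S),
      ((RedLR.ptAct (Comod.ofDSub S) ψ w : Comod.ofDSub S) : c.D) = rt ψ (w : c.D) := by
    intro ψ w
    conv_lhs => rw [← toConv_ofConv ψ, RedLR.ptAct_eq_act]
    conv_rhs => rw [← toConv_ofConv ψ, ← act_eq_rt]
    have h := LinearMap.congr_fun (ComodSub.isComodHom_subtype cD _ hW) w
    simp only [LinearMap.comp_apply] at h
    show (Comod.ofDSub S).subtype (TensorProduct.rid k _ (ψ.ofConv.toLinearMap.lTensor _ (cV.coact w))) =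
      TensorProduct.rid k c.D (ψ.ofConv.toLinearMap.lTensor c.D (cD.coact w.1))
    rw [show cD.coact w.1 = (Comod.ofDSub S).subtype.rTensor c.D (cV.coact w) from h]
    generalize cV.coact w = t
    induction t using TensorProduct.induction_on with
    | zero => simp
    | add x y hx hy => simp only [map_add, hx, hy]
    | tmul a d => simp
  obtain ⟨W, _, _, _, _, φ, hinj, heq⟩ :=
    exists_extension c.π c.surj (c.obs_iff.1 hobs).stabVec.hasInv (Comod.ofDSub S)
  let l : Comod.ofDSub S →ₗ[k] k :=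
    ((1 : WithConv (c.D →ₐ[k] k)).ofConv.toLinearMap).comp (Comod.ofDSub S).subtype
  obtain ⟨r, hr⟩ := φ.exists_leftInverse_of_injective (LinearMap.ker_eq_bot.2 hinj)
  obtain ⟨f, hf⟩ := (fnC_bijective c.e).2 (cf (C := c.C) (l.comp r) (φ v₀))
  refine ⟨f, ?_, (fnC_bijective c.e').1 (ext_pt fun (ψ : WithConv (c.D →ₐ[k] k)) => ?_)⟩
  · rw [c.rTransInv_comp_iff κ]
    intro q
    rw [hf, rt_cf, ← heq]
    congr 2
    exact Subtype.ext ((hsub _ v₀).trans (hf' q))
  · rw [c.fnC_restrict, hf]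
    show (resPt c.π ψ).ofConv (cf (C := c.C) (l.comp r) (φ v₀)) = ψ.ofConv v
    rw [apply_cf, ← heq, LinearMap.comp_apply, ← LinearMap.comp_apply r φ, hr, LinearMap.id_apply]
    show (1 : WithConv (c.D →ₐ[k] k)).ofConv ((RedLR.ptAct (Comod.ofDSub S) ψ v₀ : Comod.ofDSub S) : c.D) = _
    rw [hsub, apply_rt, _root_.one_mul]

include c in
/-- invariant functions restrict to invariant functions -/
theorem rTransInv_comp_iff' (f : Γ(G.left, ⊤)) :
    f ∈ AGF.rTransInv (κ ≫ i) ↔ i.left.appTop.hom f ∈ AGF.rTransInv κ ∧ f ∈ AGF.rTransInv (κ ≫ i) := by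
  haveI : IsAffine H.left := isAffine_of_isAffineHom i.left
  refine ⟨fun hf => ⟨?_, hf⟩, fun h => h.2⟩
  change AGF.IsRTransInv (κ ≫ i) f at hf
  show AGF.IsRTransInv κ (i.left.appTop f)
  rw [c.rTransInv_comp_iff κ] at hf
  rw [rTransInv_sub_iff (H := H) κ c.e']
  intro q
  rw [c.fnC_restrict, ← apply_rt_res, hf q]

end Groth.Agent.GModLib
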