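import Groth.Agent.GModLib.Obs
import Groth.Agent.GenFree.Image

/-!
# Invariants of subgroups of rational points and observability
-/

set_option autoImplicit false
set_option linter.style.haveILetI false
set_option backward.isDefEq.respectTransparency false

universe u

open TensorProduct WithConv

noncomputable section

namespace Groth.Agent.GModLib

section

variable {k : Type u} [Field k] {C : Type u} [CommRing C] [HopfAlgebra k C]

/-- Right translation by a rational point. -/
def rt (g : WithConv (C →ₐ[k] k)) : C →ₐ[k] C :=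
  (Algebra.TensorProduct.lift (AlgHom.id k C) ((Algebra.ofId k C).comp g.ofConv) fun _ _ => Commute.all _ _).comp
    (Bialgebra.comulAlgHom k C)

/-- Left translation by a rational point. -/
def lt (g : WithConv (C →ₐ[k] k)) : C →ₐ[k] C :=
  (Algebra.TensorProduct.lift ((Algebra.ofId k C).comp g.ofConv) (AlgHom.id k C) fun _ _ => Commute.all _ _).comp
    (Bialgebra.comulAlgHom k C)

theorem apply_rt (x g : WithConv (C →ₐ[k] k)) (c : C) : x.ofConv (rt g c) = (x * g).ofConv c := by
  show x.ofConv (Algebra.TensorProduct.lift _ _ (fun _ _ => Commute.all _ _) (CoalgebraStruct.comul (R := k) c)) = (x * g) c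
  rw [AlgHom.convMul_apply]
  generalize CoalgebraStruct.comul (R := k) c = t
  induction t using TensorProduct.induction_on with
  | zero => simp
  | add a b ha hb => simp only [map_add, ha, hb]
  | tmul a b => simp [Algebra.ofId_apply]

theorem apply_lt (x g : WithConv (C →ₐ[k] k)) (c : C) : x.ofConv (lt g c) = (g * x).ofConv c := by
  show x.ofConv (Algebra.TensorProduct.lift _ _ (fun _ _ => Commute.all _ _) (CoalgebraStruct.comul (R := k) c)) = (g * x) c
  rw [AlgHom.convMul_apply]
  generalize CoalgebraStruct.comul (R := k) c = t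
  induction t using TensorProduct.induction_on with
  | zero => simp
  | add a b ha hb => simp only [map_add, ha, hb]
  | tmul a b => simp [Algebra.ofId_apply]

theorem act_eq_rt (g : C →ₐ[k] k) (c : C) : HopfRep.Comod.act k C C g c = rt (toConv g) c := by
  show TensorProduct.rid k C (g.toLinearMap.lTensor C (CoalgebraStruct.comul (R := k) c)) =
    Algebra.TensorProduct.lift _ _ (fun _ _ => Commute.all _ _) (CoalgebraStruct.comul (R := k) c)
  generalize CoalgebraStruct.comul (R := k) c = t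
  induction t using TensorProduct.induction_on with
  | zero => simp
  | add a b ha hb => simp only [map_add, ha, hb]
  | tmul a b => simp [Algebra.ofId_apply, Algebra.smul_def, mul_comm]

/-- The functions invariant under a set of rational points. -/
def Inv (S : Subgroup (WithConv (C →ₐ[k] k))) : Subalgebra k C where
  carrier := {f | ∀ h ∈ S, rt h f = f}
  mul_mem' {a b} ha hb h hh := by rw [map_mul, ha h hh, hb h hh]
  add_mem' {a b} ha hb h hh := by rw [map_add, ha h hh, hb h hh]
  algebraMap_mem' r h _ := (rt h).commutes r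

theorem mem_Inv {S : Subgroup (WithConv (C →ₐ[k] k))} {f : C} : f ∈ Inv S ↔ ∀ h ∈ S, rt h f = f := Iff.rfl

/-- The observability of a group of rational points. -/
def Obs (S : Subgroup (WithConv (C →ₐ[k] k))) : Prop :=
  ∀ g, (∀ f ∈ Inv S, rt g f = f) → g ∈ S

/-- The group is the stabiliser of a vector. -/
def StabVec (S : Subgroup (WithConv (C →ₐ[k] k))) : Prop :=
  ∃ (V : Type u) (_ : AddCommGroup V) (_ : Module k V) (_ : Module.Finite k V) (_ : HopfRep.Comod k C V) (v : V),
    ∀ g, RedLR.ptAct V g v = v ↔ g ∈ S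

theorem act_mul_apply {V : Type u} [AddCommGroup V] [Module k V] [HopfRep.Comod k C V]
    (g h : WithConv (C →ₐ[k] k)) (v : V) : RedLR.ptAct V (g * h) v = RedLR.ptAct V g (RedLR.ptAct V h v) := by
  rw [map_mul]; rfl

theorem act_one_apply {V : Type u} [AddCommGroup V] [Module k V] [HopfRep.Comod k C V] (v : V) :
    RedLR.ptAct V (1 : WithConv (C →ₐ[k] k)) v = v := by
  rw [map_one]; rfl

/-- A matrix coefficient. -/
def cf {V : Type u} [AddCommGroup V] [Module k V] [HopfRep.Comod k C V] (l : V →ₗ[k] k) (v : V) : C :=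
  TensorProduct.lid k C (l.rTensor C (HopfRep.Comod.coact (k := k) (A := C) v))

theorem apply_cf {V : Type u} [AddCommGroup V] [Module k V] [HopfRep.Comod k C V] (l : V →ₗ[k] k) (v : V)
    (g : WithConv (C →ₐ[k] k)) : g.ofConv (cf l v) = l (RedLR.ptAct V g v) := by
  conv_rhs => rw [← toConv_ofConv g, RedLR.ptAct_eq_act]
  show g.ofConv (TensorProduct.lid k C (l.rTensor C (HopfRep.Comod.coact (k := k) (A := C) v))) =
    l (TensorProduct.rid k V (g.ofConv.toLinearMap.lTensor V (HopfRep.Comod.coact (k := k) (A := C) v)))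
  generalize HopfRep.Comod.coact (k := k) (A := C) v = t
  induction t using TensorProduct.induction_on with
  | zero => simp
  | add a b ha hb => simp only [map_add, ha, hb]
  | tmul a b => simp [mul_comm]

variable [IsAlgClosed k] [Algebra.FiniteType k C] [_root_.IsReduced C]

theorem ext_pt {a b : C} (h : ∀ x : WithConv (C →ₐ[k] k), x.ofConv a = x.ofConv b) : a = b :=
  ext_points (k := k) fun φ => h (toConv φ)

theorem rt_mul_apply (g g' : WithConv (C →ₐ[k] k)) (c : C) : rt (g * g') c = rt g (rt g' c) :=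
  ext_pt fun x => by rw [apply_rt, apply_rt, apply_rt, mul_assoc]

theorem rt_one_apply (c : C) : rt (1 : WithConv (C →ₐ[k] k)) c = c :=
  ext_pt fun x => by rw [apply_rt, mul_one]

theorem rt_lt_comm (g g' : WithConv (C →ₐ[k] k)) (c : C) : rt g (lt g' c) = lt g' (rt g c) :=
  ext_pt fun x => by rw [apply_rt, apply_lt, apply_lt, apply_rt, mul_assoc]

theorem lt_mul_apply (g g' : WithConv (C →ₐ[k] k)) (c : C) : lt g (lt g' c) = lt (g' * g) c :=
  ext_pt fun x => by rw [apply_lt, apply_lt, apply_lt, mul_assoc]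

theorem lt_one_apply (c : C) : lt (1 : WithConv (C →ₐ[k] k)) c = c :=
  ext_pt fun x => by rw [apply_lt, one_mul]

theorem Inv_lt {S : Subgroup (WithConv (C →ₐ[k] k))} {f : C} (hf : f ∈ Inv S) (a : WithConv (C →ₐ[k] k)) :
    lt a f ∈ Inv S := fun h hh => by rw [rt_lt_comm, hf h hh]

omit [IsAlgClosed k] [_root_.IsReduced C] in
theorem Obs.stabVec {S : Subgroup (WithConv (C →ₐ[k] k))} (hS : Obs S) : StabVec S := by
  obtain ⟨s, hs, hcut⟩ := exists_finset_fixing (k := k) {f | f ∈ Inv S}
  obtain ⟨V, i1, i2, i3, i4, v, hv⟩ := exists_comod_vec (k := k) s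
  refine ⟨V, i1, i2, i3, i4, v, fun g => ?_⟩
  have h0 : RedLR.ptAct V g v = v ↔ ∀ f ∈ s, rt g f = f := by
    rw [← toConv_ofConv g, RedLR.ptAct_eq_act, hv]
    simp only [act_eq_rt, toConv_ofConv]
  rw [h0]
  constructor
  · intro h
    refine hS g fun f hf => ?_
    have := hcut g.ofConv (fun c hc => by rw [act_eq_rt, toConv_ofConv]; exact h c hc) f hf
    rwa [act_eq_rt, toConv_ofConv] at this
  · exact fun hg f hf => hs hf g hg

theorem cf_mem_Inv {S : Subgroup (WithConv (C →ₐ[k] k))} {V : Type u} [AddCommGroup V] [Module k V]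
    [HopfRep.Comod k C V] {v : V} (hv : ∀ g ∈ S, RedLR.ptAct V g v = v) (l : V →ₗ[k] k) : cf l v ∈ Inv S :=
  fun h hh => ext_pt fun x => by rw [apply_rt, apply_cf, apply_cf, act_mul_apply, hv h hh]

theorem lt_cf {V : Type u} [AddCommGroup V] [Module k V] [HopfRep.Comod k C V] (l : V →ₗ[k] k) (v : V)
    (a : WithConv (C →ₐ[k] k)) : lt a (cf l v) = cf (l ∘ₗ RedLR.ptAct V a) v :=
  ext_pt fun x => by rw [apply_lt, apply_cf, apply_cf, act_mul_apply]; rfl

/-- Stable ideals contain invariant functions outside a given component. -/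
def HasInv (S : Subgroup (WithConv (C →ₐ[k] k))) : Prop :=
  ∀ (p I : Ideal C), p ∈ minimalPrimes C → (∀ h ∈ S, ∀ f ∈ I, rt h f ∈ I) → ¬ I ≤ p →
    ∃ F ∈ Inv S, F ∉ p ∧ F ∈ I.radical

theorem exists_minimal_pt {p : Ideal C} (hp : p ∈ minimalPrimes C) :
    ∃ x : WithConv (C →ₐ[k] k), p ≤ RingHom.ker x.ofConv ∧ ∀ p' ∈ minimalPrimes C, p' ≤ RingHom.ker x.ofConv → p' = p := by
  classical
  haveI : IsNoetherianRing C := Algebra.FiniteType.isNoetherianRing k C
  haveI := hp.1.1
  have hfin := minimalPrimes.finite_of_isNoetherianRing C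
  let T := hfin.toFinset.erase p
  have hne : ∀ q ∈ T, ∃ c ∈ q, c ∉ p := fun q hq => by
    obtain ⟨hne, hq⟩ := Finset.mem_erase.1 hq
    rw [Set.Finite.mem_toFinset] at hq
    by_contra h
    push Not at h
    exact hne (le_antisymm h (hp.2 ⟨hq.1.1, bot_le⟩ h))
  choose! c hc hcp using hne
  have hprod : ∏ q ∈ T, c q ∉ p := fun h => by
    obtain ⟨q, hq, hq'⟩ := (Ideal.IsPrime.prod_mem_iff (p := p)).1 h
    exact hcp q hq hq'
  obtain ⟨φ, hφ, hφ0⟩ : ∃ φ : C →ₐ[k] k, p ≤ RingHom.ker φ ∧ φ (∏ q ∈ T, c q) ≠ 0 := by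
    by_contra h
    push Not at h
    exact hprod (GLinChar.mem_of_forall_point k C h)
  refine ⟨toConv φ, hφ, fun q hq hqle => ?_⟩
  by_contra hne
  have hqT : q ∈ T := Finset.mem_erase.2 ⟨hne, hfin.mem_toFinset.2 hq⟩
  refine hφ0 ?_
  rw [map_prod]
  exact Finset.prod_eq_zero hqT (hqle (hc q hqT))

omit [_root_.IsReduced C] in
/-- Points extend along an injective map off a proper closed subset. -/
theorem exists_lift_off {R : Type u} [CommRing R] [IsDomain R] [Algebra k R] {B : Type u} [CommRing B] [IsDomain B]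
    [Algebra k B] [Algebra.FiniteType k B] (f : R →ₐ[k] B) (hf : Function.Injective f) :
    ∃ s : R, s ≠ 0 ∧ ∀ φ : R →ₐ[k] k, φ s ≠ 0 → ∃ ψ : B →ₐ[k] k, ψ.comp f = φ := by
  have hft : (f : R →+* B).FiniteType := by
    have h1 : ((f : R →+* B).comp (algebraMap k R)).FiniteType := by
      rw [f.comp_algebraMap]
      exact RingHom.finiteType_algebraMap.2 inferInstance
    exact RingHom.FiniteType.of_comp_finiteType h1
  let q : PrimeSpectrum B := ⟨⊥, Ideal.isPrime_bot⟩
  have hq : (PrimeSpectrum.comap (f : R →+* B) q).asIdeal = ⊥ := by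
    show (⊥ : Ideal B).comap (f : R →+* B) = ⊥
    rw [← RingHom.ker_eq_comap_bot]
    exact (RingHom.injective_iff_ker_eq_bot _).1 hf
  obtain ⟨a, ha, hsub⟩ := GenFree.exists_basicOpen_subset_range_comap (f : R →+* B) hft q (fun P => hq ▸ bot_le)
  rw [hq] at ha
  refine ⟨a, fun h => ha (Ideal.mem_bot.2 h), fun φ hφ => ?_⟩
  obtain ⟨N, hN⟩ := hsub (show (⟨RingHom.ker φ, RingHom.ker_isPrime _⟩ : PrimeSpectrum R) ∈ (PrimeSpectrum.basicOpen a : Set (PrimeSpectrum R)) from hφ)
  obtain ⟨M, hM, hle⟩ := Ideal.exists_le_maximal N.asIdeal N.2.ne_top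
  haveI := hM
  haveI : Algebra.FiniteType k (B ⧸ M) :=
    Algebra.FiniteType.of_surjective (f := Ideal.Quotient.mkₐ k M) Ideal.Quotient.mk_surjective
  obtain ⟨ψ, hψ⟩ : ∃ ψ : B →ₐ[k] k, M ≤ RingHom.ker ψ := GLinChar.exists_point_over k B M
  refine ⟨ψ, ?_⟩
  have hmax : (RingHom.ker φ).IsMaximal :=
    RingHom.ker_isMaximal_of_surjective φ.toRingHom fun r => ⟨algebraMap k R r, φ.commutes r⟩
  have hker : RingHom.ker φ ≤ RingHom.ker (ψ.comp f) := fun r hr => by
    have h1 : r ∈ (PrimeSpectrum.comap (f : R →+* B) N).asIdeal := by rw [hN]; exact hr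
    exact hψ (hle h1)
  refine AlgHom.ext fun r => ?_
  have h1 : r - algebraMap k R (φ r) ∈ RingHom.ker φ := by
    rw [RingHom.mem_ker, map_sub, φ.commutes]; exact sub_self _
  have h2 := hker h1
  rw [RingHom.mem_ker, map_sub, AlgHom.commutes, sub_eq_zero] at h2
  exact h2

theorem StabVec.hasInv {S : Subgroup (WithConv (C →ₐ[k] k))} (hS : StabVec S) : HasInv S := by
  classical
  obtain ⟨V, _, _, _, _, v, hv⟩ := hS
  intro p I hp hI hIp
  haveI := hp.1.1
  let gens : Set C := Set.range fun l : V →ₗ[k] k => cf (k := k) (C := C) l v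
  let P : Subalgebra k C := Algebra.adjoin k gens
  have hPinv : P ≤ Inv S := by
    refine Algebra.adjoin_le ?_
    rintro _ ⟨l, rfl⟩
    exact cf_mem_Inv (fun g hg => (hv g).2 hg) l
  have hPlt : ∀ a : WithConv (C →ₐ[k] k), ∀ f ∈ P, lt a f ∈ P := by
    intro a f hf
    have h1 : P ≤ P.comap (lt a) := by
      refine Algebra.adjoin_le ?_
      rintro _ ⟨l, rfl⟩
      show lt a (cf l v) ∈ P
      rw [lt_cf]
      exact Algebra.subset_adjoin ⟨_, rfl⟩
    exact h1 hf
  have hsep : ∀ x y : WithConv (C →ₐ[k] k), (∀ f ∈ P, x.ofConv f = y.ofConv f) → x⁻¹ * y ∈ S := by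
    intro x y h
    refine (hv _).1 ?_
    have hxy : RedLR.ptAct V x v = RedLR.ptAct V y v := by
      refine (Module.finBasis k V).ext_elem fun j => ?_
      show (Module.finBasis k V).coord j _ = (Module.finBasis k V).coord j _
      rw [← apply_cf, ← apply_cf]
      exact h _ (Algebra.subset_adjoin ⟨_, rfl⟩)
    rw [act_mul_apply, ← hxy, ← act_mul_apply, inv_mul_cancel, act_one_apply]
  by_contra hno
  push Not at hno
  let q : Ideal P := p.comap P.val.toRingHom
  have hqmin : q ∈ minimalPrimes P := by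
    obtain ⟨q0, hq0, hq0le⟩ := Ideal.exists_minimalPrimes_le (I := (⊥ : Ideal P)) (J := q) bot_le
    haveI := hq0.1.1
    obtain ⟨p1, hp1, -, hp1c⟩ := Ideal.exists_comap_eq_of_mem_minimalPrimes P.val.toRingHom (I := (⊥ : Ideal C)) q0 (by
      rw [← RingHom.ker_eq_comap_bot, (RingHom.injective_iff_ker_eq_bot _).1 Subtype.val_injective]
      exact hq0)
    haveI := hp1
    obtain ⟨p', hp', hp'le⟩ := Ideal.exists_minimalPrimes_le (I := (⊥ : Ideal C)) (J := p1) bot_le
    haveI := hp'.1.1
    have hq0' : p'.comap P.val.toRingHom = q0 :=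
      le_antisymm ((Ideal.comap_mono hp'le).trans_eq hp1c) (hq0.2 ⟨Ideal.IsPrime.comap _, bot_le⟩ ((Ideal.comap_mono hp'le).trans_eq hp1c))
    obtain ⟨x, hx, hxu⟩ := exists_minimal_pt (k := k) hp
    obtain ⟨y, hy, -⟩ := exists_minimal_pt (k := k) hp'
    have hbij : ∀ a : WithConv (C →ₐ[k] k), Function.Bijective (lt (k := k) a) := fun a =>
      ⟨fun c d h => by
        have h2 := congrArg (lt a⁻¹) h
        rwa [lt_mul_apply, lt_mul_apply, mul_inv_cancel, lt_one_apply, lt_one_apply] at h2,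
      fun c => ⟨lt a⁻¹ c, by rw [lt_mul_apply, inv_mul_cancel, lt_one_apply]⟩⟩
    let a := x * y⁻¹
    have hpc : p'.comap (lt a).toRingHom = p := by
      refine hxu _ ⟨⟨Ideal.IsPrime.comap _, bot_le⟩, fun r hr hle => ?_⟩ fun f hf => ?_
      · intro f hf
        obtain ⟨r', rfl⟩ : ∃ r', r = Ideal.comap (lt a).toRingHom r' :=
          ⟨r.comap (lt a⁻¹).toRingHom, by
            ext c
            show c ∈ r ↔ lt a⁻¹ (lt a c) ∈ r
            rw [lt_mul_apply, mul_inv_cancel, lt_one_apply]⟩
        haveI := hr.1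
        have hr' : r'.IsPrime := by
          have := Ideal.map_isPrime_of_equiv (AlgEquiv.ofBijective (lt a) (hbij a)).toRingEquiv (I := Ideal.comap (lt a).toRingHom r')
          convert this using 1
          exact (Ideal.map_comap_of_surjective (lt a).toRingHom (hbij a).2 r').symm
        have hle' : r' ≤ p' := fun c hc => by
          obtain ⟨d, rfl⟩ := (hbij a).2 c
          exact hle hc
        exact hp'.2 ⟨hr', bot_le⟩ hle' hf
      · have h1 : y.ofConv (lt a f) = 0 := hy hf
        rw [apply_lt] at h1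
        simpa [a, mul_assoc] using h1
    refine ⟨⟨Ideal.IsPrime.comap _, bot_le⟩, fun r hr hle f hf => ?_⟩
    let σ : P →+* P :=
      { toFun := fun f => ⟨lt a f.1, hPlt a _ f.2⟩
        map_one' := Subtype.ext (map_one _)
        map_mul' := fun _ _ => Subtype.ext (map_mul _ _ _)
        map_zero' := Subtype.ext (map_zero _)
        map_add' := fun _ _ => Subtype.ext (map_add _ _ _) }
    let σ' : P →+* P :=
      { toFun := fun f => ⟨lt a⁻¹ f.1, hPlt _ _ f.2⟩
        map_one' := Subtype.ext (map_one _)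
        map_mul' := fun _ _ => Subtype.ext (map_mul _ _ _)
        map_zero' := Subtype.ext (map_zero _)
        map_add' := fun _ _ => Subtype.ext (map_add _ _ _) }
    haveI := hr.1
    have hmem : ∀ g : P, g ∈ q ↔ σ g ∈ q0 := fun g => by
      rw [← hq0']
      show g.1 ∈ p ↔ lt a g.1 ∈ p'
      rw [← hpc]
      rfl
    have hback : r.comap σ' ≤ q0 := fun g hg => by
      have h2 := (hmem (σ' g)).1 (hle hg)
      convert h2 using 1
      exact Subtype.ext (by show g.1 = lt a (lt a⁻¹ g.1); rw [lt_mul_apply, inv_mul_cancel, lt_one_apply])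
    have h3 := hq0.2 ⟨Ideal.IsPrime.comap σ', bot_le⟩ hback ((hmem f).1 hf)
    have h4 : σ' (σ f) = f := Subtype.ext (by show lt a⁻¹ (lt a f.1) = f.1; rw [lt_mul_apply, mul_inv_cancel, lt_one_apply])
    rwa [Ideal.mem_comap, h4] at h3
  have hJq : I.radical.comap P.val.toRingHom ≤ q := fun F hF => by
    by_contra hFq
    exact hno F.1 (hPinv F.2) hFq hF
  haveI := hqmin.1.1
  obtain ⟨Q, hQ, hIQ, hQc⟩ := Ideal.exists_comap_eq_of_mem_minimalPrimes P.val.toRingHom (I := I.radical) q
    ⟨⟨hqmin.1.1, hJq⟩, fun r hr hle => hqmin.2 ⟨hr.1, bot_le⟩ hle⟩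
  haveI := hQ
  let f : (↥P ⧸ q) →ₐ[k] (C ⧸ Q) := Ideal.quotientMapₐ Q P.val (le_of_eq hQc.symm)
  have hf : Function.Injective f := Ideal.quotientMap_injective' (f := P.val.toRingHom) (H := le_of_eq hQc.symm) (le_of_eq hQc)
  haveI : Algebra.FiniteType k (C ⧸ Q) :=
    Algebra.FiniteType.of_surjective (f := Ideal.Quotient.mkₐ k Q) Ideal.Quotient.mk_surjective
  obtain ⟨s, hs0, hlift⟩ := exists_lift_off f hf
  obtain ⟨s, rfl⟩ := Ideal.Quotient.mk_surjective s
  refine hIp fun c hc => ?_
  have hcs : c * s.1 ∈ p := by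
    refine GLinChar.mem_of_forall_point k C fun φ hφ => ?_
    rw [map_mul]
    by_cases hs : φ s.1 = 0
    · rw [hs, mul_zero]
    · let φq : (↥P ⧸ q) →ₐ[k] k := Ideal.Quotient.liftₐ q (φ.comp P.val) fun g hg => hφ hg
      obtain ⟨ψ, hψ⟩ := hlift φq hs
      let y : WithConv (C →ₐ[k] k) := toConv (ψ.comp (Ideal.Quotient.mkₐ k Q))
      have hh := hsep y (toConv φ) fun g hg => AlgHom.congr_fun hψ (Ideal.Quotient.mk q ⟨g, hg⟩)
      have hval : (toConv φ).ofConv c = y.ofConv (rt (y⁻¹ * toConv φ) c) := by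
        rw [apply_rt, mul_inv_cancel_left]
      have h0 : y.ofConv (rt (y⁻¹ * toConv φ) c) = 0 := by
        show ψ (Ideal.Quotient.mk Q _) = 0
        rw [Ideal.Quotient.eq_zero_iff_mem.2 (hIQ (Ideal.le_radical (hI _ hh c hc))), map_zero]
      rw [show φ c = (toConv φ).ofConv c from rfl, hval, h0, zero_mul]
  exact (hp.1.1.mem_or_mem hcs).resolve_right fun h => hs0 (Ideal.Quotient.eq_zero_iff_mem.2 h)

/-- Semi-invariant functions have semi-invariant partners with the inverse weight. -/
theorem HasInv.exists_inverse {S : Subgroup (WithConv (C →ₐ[k] k))} (hS : HasInv S)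
    (a : WithConv (C →ₐ[k] k) → k) {f : C} (hf0 : f ≠ 0) (hf : ∀ h ∈ S, rt h f = a h • f) :
    ∃ g : C, g ≠ 0 ∧ ∀ h ∈ S, a h • rt h g = g := by
  obtain ⟨p, hp, hfp⟩ : ∃ p ∈ minimalPrimes C, f ∉ p := by
    by_contra h
    push Not at h
    refine hf0 (nilpotent_iff_mem_prime.2 fun P hP => ?_).eq_zero
    haveI := hP
    obtain ⟨p, hp, hle⟩ := Ideal.exists_minimalPrimes_le (I := (⊥ : Ideal C)) (J := P) bot_le
    exact hle (h p hp)
  obtain ⟨F, hF, hFp, m, hm⟩ := hS p (Ideal.span {f}) hp (fun h hh c hc => by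
      obtain ⟨d, rfl⟩ := Ideal.mem_span_singleton'.1 hc
      rw [map_mul, hf h hh, Algebra.smul_def, ← mul_assoc]
      exact Ideal.mul_mem_left _ _ (Ideal.mem_span_singleton_self f))
    (fun h => hfp (h (Ideal.mem_span_singleton_self f)))
  obtain ⟨g, hg⟩ := Ideal.mem_span_singleton'.1 hm
  haveI := hp.1.1
  refine ⟨g * g * f, fun h0 => ?_, fun h hh => ?_⟩
  · have h1 : F ^ m * F ^ m = 0 := by
      rw [← hg, show g * f * (g * f) = g * g * f * f by ring, h0, zero_mul]
    have h2 : F ^ m * F ^ m ∈ p := h1 ▸ p.zero_mem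
    exact hFp (hp.1.1.mem_of_pow_mem _ ((hp.1.1.mem_or_mem h2).elim id id))
  · have hE : rt h (g * f) = g * f := by rw [hg, map_pow, hF h hh]
    calc a h • rt h (g * g * f) = rt h (g * f) * (a h • rt h g) := by
          rw [map_mul, map_mul, map_mul]
          simp only [Algebra.smul_def]
          ring
      _ = g * rt h (g * f) := by
          conv_lhs => rw [hE]
          conv_rhs => rw [map_mul, hf h hh]
          simp only [Algebra.smul_def]
          ring
      _ = g * g * f := by rw [hE, mul_assoc]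

/-- A subgroup cut out by a line whose weight has an inverse is observable. -/
theorem obs_of_line {S : Subgroup (WithConv (C →ₐ[k] k))} {V : Type u} [AddCommGroup V] [Module k V]
    [HopfRep.Comod k C V] {v : V} (hline : ∀ g, RedLR.ptAct V g v ∈ k ∙ v → g ∈ S)
    (a : WithConv (C →ₐ[k] k) → k) (ha : ∀ h ∈ S, RedLR.ptAct V h v = a h • v)
    {f : C} (hf0 : f ≠ 0) (hf : ∀ h ∈ S, a h • rt h f = f) : Obs S := by
  intro g hg
  apply hline
  obtain ⟨x, hx⟩ : ∃ x : WithConv (C →ₐ[k] k), x.ofConv f ≠ 0 := by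
    by_contra h
    push Not at h
    exact hf0 (ext_pt fun x => by rw [h x, map_zero])
  have key : ∀ l : V →ₗ[k] k,
      l (RedLR.ptAct V x (RedLR.ptAct V g v)) * (x * g).ofConv f = l (RedLR.ptAct V x v) * x.ofConv f := by
    intro l
    have hmem : cf l v * f ∈ Inv S := fun h hh => by
      have h1 : rt h (cf l v) = a h • cf l v := ext_pt fun y => by
        rw [apply_rt, apply_cf, act_mul_apply, ha h hh, map_smul, map_smul, map_smul, apply_cf]
      rw [map_mul, h1]
      conv_rhs => rw [← hf h hh]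
      simp only [Algebra.smul_def]
      ring
    have h2 := congrArg x.ofConv (hg _ hmem)
    rw [apply_rt, map_mul, map_mul, apply_cf, apply_cf, act_mul_apply] at h2
    exact h2
  have hvec : (x * g).ofConv f • RedLR.ptAct V x (RedLR.ptAct V g v) = x.ofConv f • RedLR.ptAct V x v := by
    refine (Module.Free.chooseBasis k V).ext_elem fun j => ?_
    have := key ((Module.Free.chooseBasis k V).coord j)
    simp only [Module.Basis.coord_apply] at this
    simp only [map_smul, Finsupp.smul_apply, smul_eq_mul]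
    rw [mul_comm, this, mul_comm]
  have h3 := congrArg (RedLR.ptAct V x⁻¹) hvec
  simp only [map_smul, ← act_mul_apply, inv_mul_cancel, inv_mul_cancel_left] at h3
  rw [act_one_apply] at h3
  by_cases hxg : (x * g).ofConv f = 0
  · rw [hxg, zero_smul, eq_comm, smul_eq_zero] at h3
    have hv0 : v = 0 := h3.resolve_left hx
    rw [hv0, map_zero]
    exact Submodule.zero_mem _
  · refine Submodule.mem_span_singleton.2 ⟨((x * g).ofConv f)⁻¹ * x.ofConv f, ?_⟩
    rw [mul_smul, ← h3, smul_smul, inv_mul_cancel₀ hxg, one_smul]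

/-- Passing to a supergroup of finite index. -/
theorem HasInv.of_finite {S S' : Subgroup (WithConv (C →ₐ[k] k))} (hS : HasInv S) (hle : S ≤ S')
    (hfin : ∀ F ∈ Inv S, ((fun h => rt h F) '' (S' : Set (WithConv (C →ₐ[k] k)))).Finite) : HasInv S' := by
  classical
  intro p I hp hI hIp
  obtain ⟨F, hF, hFp, hFI⟩ := hS p I hp (fun h hh => hI h (hle hh)) hIp
  haveI := hp.1.1
  let Y := (hfin F hF).toFinset
  let P : Polynomial C := ∏ y ∈ Y, (Polynomial.X - Polynomial.C y)
  have hY : ∀ y ∈ Y, y ∈ I.radical := by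
    intro y hy
    obtain ⟨h, hh, rfl⟩ := (hfin F hF).mem_toFinset.1 hy
    obtain ⟨m, hm⟩ := hFI
    exact ⟨m, by rw [← map_pow]; exact hI h hh _ hm⟩
  have hFY : F ∈ Y := (hfin F hF).mem_toFinset.2 ⟨1, S'.one_mem, rt_one_apply F⟩
  have hinv : ∀ n, P.coeff n ∈ Inv S' := by
    intro n g hg
    have hmap : P.map (rt g).toRingHom = P := by
      rw [Polynomial.map_prod]
      refine Finset.prod_bij (fun y _ => rt g y) (fun y hy => ?_) (fun y _ z _ h => ?_) (fun y hy => ?_) (fun y _ => by simp)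
      · obtain ⟨h, hh, rfl⟩ := (hfin F hF).mem_toFinset.1 hy
        exact (hfin F hF).mem_toFinset.2 ⟨g * h, S'.mul_mem hg hh, rt_mul_apply g h F⟩
      · have := congrArg (rt g⁻¹) h
        rwa [← rt_mul_apply, ← rt_mul_apply, inv_mul_cancel, rt_one_apply, rt_one_apply] at this
      · obtain ⟨h, hh, rfl⟩ := (hfin F hF).mem_toFinset.1 hy
        refine ⟨rt (g⁻¹ * h) F, (hfin F hF).mem_toFinset.2 ⟨_, S'.mul_mem (S'.inv_mem hg) hh, rfl⟩, ?_⟩
        rw [← rt_mul_apply, mul_inv_cancel_left]
    conv_rhs => rw [← hmap]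
    rw [Polynomial.coeff_map]
    rfl
  have hrad : ∀ n, n < Y.card → P.coeff n ∈ I.radical := by
    intro n hn
    have hz : P.map (Ideal.Quotient.mk I.radical) = Polynomial.X ^ Y.card := by
      rw [Polynomial.map_prod, Finset.prod_congr rfl (fun y hy => show (Polynomial.X - Polynomial.C y).map (Ideal.Quotient.mk I.radical) = Polynomial.X by
        rw [Polynomial.map_sub, Polynomial.map_X, Polynomial.map_C, Ideal.Quotient.eq_zero_iff_mem.2 (hY y hy), map_zero, sub_zero]),
        Finset.prod_const]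
    have := congrArg (fun q => q.coeff n) hz
    simp only [Polynomial.coeff_map, Polynomial.coeff_X_pow, if_neg hn.ne] at this
    exact Ideal.Quotient.eq_zero_iff_mem.1 this
  by_contra hno
  push Not at hno
  haveI : Nontrivial C := ⟨⟨F, 0, fun h => hFp (h ▸ p.zero_mem)⟩⟩
  have hdeg : P.natDegree = Y.card := Polynomial.natDegree_finsetProd_X_sub_C_eq_card ..
  have hmon : P.Monic := Polynomial.monic_prod_X_sub_C _ _
  have hz : P.map (Ideal.Quotient.mk p) = Polynomial.X ^ Y.card := by
    ext n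
    rw [Polynomial.coeff_map, Polynomial.coeff_X_pow]
    rcases lt_trichotomy n Y.card with hn | hn | hn
    · rw [if_neg hn.ne, Ideal.Quotient.eq_zero_iff_mem]
      exact by_contra fun h => hno _ (hinv n) h (hrad n hn)
    · rw [if_pos hn, hn, ← hdeg, hmon.coeff_natDegree, map_one]
    · rw [if_neg hn.ne', Polynomial.coeff_eq_zero_of_natDegree_lt (hdeg.trans_lt hn), map_zero]
  have hroot : Polynomial.eval (Ideal.Quotient.mk p F) (P.map (Ideal.Quotient.mk p)) = 0 := by
    rw [Polynomial.eval_map, Polynomial.eval₂_at_apply, Polynomial.eval_prod,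
      Finset.prod_eq_zero hFY (by simp), map_zero]
  rw [hz, Polynomial.eval_pow, Polynomial.eval_X, ← map_pow, Ideal.Quotient.eq_zero_iff_mem] at hroot
  exact hFp (hp.1.1.mem_of_pow_mem _ hroot)

end

end Groth.Agent.GModLib
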