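import Groth.Agent.GModLib.ObsMain

/-!
# Characters and semi-invariant vectors
-/

set_option autoImplicit false
set_option linter.style.haveILetI false
set_option backward.isDefEq.respectTransparency false

universe u

open CategoryTheory CategoryTheory.Limits MonoidalCategory CartesianMonoidalCategory MonObj GrpObj AlgebraicGeometry
open TensorProduct WithConv

noncomputable section

namespace Groth.Agent.GModLib

variable {k : Type u} [Field k]

section Char

variable {C : Type u} [CommRing C] [HopfAlgebra k C] {G : Over (Spec (CommRingCat.of k))} [GrpObj G]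
variable (e : (Spec (CommRingCat.of C)).asOver (Spec (CommRingCat.of k)) ≅ G) [IsMonHom e.hom]

omit [IsMonHom e.hom] in
theorem chiVal_eq_val {B : Type u} [CommRing B] [Algebra k B] (χ : G ⟶ Red.Gm (Spec (CommRingCat.of k)))
    (g : VecGrp.pt k B ⟶ G) : VecGrp.chiVal χ g = AdjRep.val g (Red.gmFn χ) :=
  congrArg (Scheme.ΓSpecIso (CommRingCat.of B)).hom (GmPts.gmFn_comp g χ)

/-- The group-like function of a character. -/
def chiEl (χ : G ⟶ Red.Gm (Spec (CommRingCat.of k))) : C := fnC e (Red.gmFn χ)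

omit [IsMonHom e.hom] in
theorem chiVal_pnt {B : Type u} [CommRing B] [Algebra k B] (χ : G ⟶ Red.Gm (Spec (CommRingCat.of k)))
    (φ : C →ₐ[k] B) : VecGrp.chiVal χ (pnt e φ) = φ (chiEl e χ) := by
  rw [chiVal_eq_val, val_pnt]
  rfl

theorem chiVal_inv_mul {B : Type u} [CommRing B] [Algebra k B] (χ : G ⟶ Red.Gm (Spec (CommRingCat.of k)))
    (g : VecGrp.pt k B ⟶ G) : VecGrp.chiVal χ⁻¹ g * VecGrp.chiVal χ g = 1 := by
  unfold VecGrp.chiVal
  rw [← map_mul, GrpObj.comp_inv, GmPts.gmFn_inv, map_one]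

theorem isGroupLike_chiEl [IsAlgClosed k] [Algebra.FiniteType k C] [_root_.IsReduced C]
    (χ : G ⟶ Red.Gm (Spec (CommRingCat.of k))) [IsMonHom χ] : IsGroupLikeElem k (chiEl e χ) := by
  refine isGroupLike_of_mul (k := k) ?_ fun x y => ?_
  · rw [← chiVal_pnt e χ, pnt_one]
    unfold VecGrp.chiVal
    rw [MonObj.one_comp, GmPts.gmFn_one, map_one]
  · rw [← chiVal_pnt e χ, ← chiVal_pnt e χ, ← chiVal_pnt e χ,
      show (x * y).ofConv = (toConv x.ofConv * toConv y.ofConv).ofConv from rfl, pnt_mul]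
    unfold VecGrp.chiVal
    rw [MonObj.mul_comp, GmPts.gmFn_mul, map_mul]

/-- The character of a group-like function. -/
theorem exists_char {x : C} (hx : IsGroupLikeElem k x) :
    ∃ χ : G ⟶ Red.Gm (Spec (CommRingCat.of k)), IsMonHom χ ∧
      ∀ (B : Type u) [CommRing B] [Algebra k B] (φ : C →ₐ[k] B), VecGrp.chiVal χ (pnt e φ) = φ x := by
  have hu : IsUnit x := by
    refine IsUnit.of_mul_eq_one (HopfAlgebra.antipode k (A := C) x) ?_
    have h := LinearMap.congr_fun (HopfAlgebra.mul_antipode_lTensor_comul (R := k) (A := C)) x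
    simpa [hx.comul_eq_tmul_self, hx.counit_eq_one] using h
  let w : (Γ(((Spec (CommRingCat.of C)).asOver (Spec (CommRingCat.of k))).left, ⊤))ˣ :=
    (hu.map (Scheme.ΓSpecIso (CommRingCat.of C)).inv.hom).unit
  let χ : G ⟶ Red.Gm (Spec (CommRingCat.of k)) := e.inv ≫ GmPts.ptOfUnit w
  have hval : ∀ (B : Type u) [CommRing B] [Algebra k B] (φ : C →ₐ[k] B),
      Red.gmFn (pnt e φ ≫ χ) = (Scheme.ΓSpecIso (CommRingCat.of B)).inv (φ x) := by
    intro B _ _ φ
    have h1 : pnt e φ ≫ χ = Spec.mapMulEquiv (toConv φ) ≫ GmPts.ptOfUnit w := by simp [χ, pnt]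
    rw [h1]
    refine (GmPts.gmFn_comp _ _).trans ?_
    rw [GmPts.gmFn_ptOfUnit, IsUnit.unit_spec]
    exact (congr($(Scheme.ΓSpecIso_inv_naturality (CommRingCat.ofHom φ.toRingHom)) x)).symm
  have hmul : ∀ (B : Type u) [CommRing B] [Algebra k B] (g h : VecGrp.pt k B ⟶ G), (g * h) ≫ χ = (g ≫ χ) * (h ≫ χ) := by
    intro B _ _ g h
    obtain ⟨φ, rfl⟩ := exists_eq_pnt e g
    obtain ⟨ψ, rfl⟩ := exists_eq_pnt e h
    apply GmPts.gmFn_injective
    show Red.gmFn _ = Red.gmFn _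
    rw [← pnt_mul, hval, GmPts.gmFn_mul, hval, hval]
    refine Eq.trans ?_ (map_mul (Scheme.ΓSpecIso (CommRingCat.of B)).inv.hom (φ x) (ψ x))
    congr 1
    show (toConv φ * toConv ψ) x = φ x * ψ x
    rw [AlgHom.convMul_apply, hx.comul_eq_tmul_self]
    simp
  have hone : ∀ (B : Type u) [CommRing B] [Algebra k B], (1 : VecGrp.pt k B ⟶ G) ≫ χ = 1 := by
    intro B _ _
    apply GmPts.gmFn_injective
    show Red.gmFn _ = Red.gmFn _
    rw [← pnt_one e, hval, GmPts.gmFn_one, AlgHom.convOne_def]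
    simp [hx.counit_eq_one]
  haveI : IsMonHom χ := by
    refine ⟨?_, ?_⟩
    · refine AdjRep.pts_ext fun B _ _ b => ?_
      have h := hone B
      rw [Hom.one_def, Hom.one_def, Category.assoc] at h
      rw [Subsingleton.elim b (toUnit _)]
      exact h
    · refine AdjRep.pts_ext fun B _ _ b => ?_
      have h := hmul B (b ≫ fst G G) (b ≫ snd G G)
      rw [Hom.mul_def, Hom.mul_def, Category.assoc] at h
      rw [← comp_lift, lift_fst_snd, Category.comp_id] at h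
      have h9 : b ≫ (χ ⊗ₘ χ) = lift ((b ≫ fst G G) ≫ χ) ((b ≫ snd G G) ≫ χ) := by
        apply hom_ext <;> simp
      rw [h, ← Category.assoc b, h9]
  refine ⟨χ, inferInstance, fun B _ _ φ => ?_⟩
  show (Scheme.ΓSpecIso (CommRingCat.of B)).hom (Red.gmFn (pnt e φ ≫ χ)) = φ x
  rw [hval]
  exact congr($((Scheme.ΓSpecIso (CommRingCat.of B)).inv_hom_id) (φ x))

end Char

variable [IsAlgClosed k]

/-- The criterion for observability in terms of vectors. -/
theorem obs_of_vector_criterion {C : Type u} [CommRing C] [HopfAlgebra k C] [Algebra.FiniteType k C] [_root_.IsReduced C]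
    {D : Type u} [CommRing D] [HopfAlgebra k D] [Algebra.FiniteType k D] [_root_.IsReduced D]
    (π : C →ₐc[k] D) (hπ : Function.Surjective (π : C →ₐ[k] D))
    (hchar : ∀ χ : D, IsGroupLikeElem k χ →
      (∃ (V : Type u) (_ : AddCommGroup V) (_ : Module k V) (_ : Module.Finite k V) (_ : HopfRep.Comod k C V) (v : V),
        v ≠ 0 ∧ ∀ ψ, RedLR.ptAct V (resPt π ψ) v = ψ.ofConv χ • v) →
      ∃ f : C, f ≠ 0 ∧ ∀ ψ, ψ.ofConv χ • rt (resPt π ψ) f = f) : Obs (SG π) := by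
  obtain ⟨V, i1, i2, i3, i4, v, hv0, hstab⟩ := exists_stab_line π hπ
  obtain ⟨l, hl⟩ := (LinearMap.toSpanSingleton k V v).exists_leftInverse_of_injective
    (LinearMap.ker_eq_bot.2 (smul_left_injective k hv0))
  have hl1 : l v = 1 := by simpa using LinearMap.congr_fun hl (1 : k)
  let a : WithConv (C →ₐ[k] k) → k := fun g => l (RedLR.ptAct V g v)
  have ha : ∀ h ∈ SG π, RedLR.ptAct V h v = a h • v := by
    intro h hh
    obtain ⟨c, hc⟩ := Submodule.mem_span_singleton.1 ((hstab h).2 hh)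
    show _ = l (RedLR.ptAct V h v) • v
    rw [← hc, map_smul, hl1, smul_eq_mul, _root_.mul_one]
  let χ : D := (π : C →ₐ[k] D) (cf l v)
  have hψ : ∀ ψ : WithConv (D →ₐ[k] k), ψ.ofConv χ = a (resPt π ψ) := fun ψ => apply_cf l v (resPt π ψ)
  have hgl : IsGroupLikeElem k χ := isGroupLike_of_mul (k := k)
    (by rw [hψ, map_one]; show l _ = 1; rw [act_one_apply, hl1])
    (fun x y => by
      simp only [hψ, map_mul]
      show l _ = _
      rw [act_mul_apply, ha _ ⟨y, rfl⟩, map_smul, map_smul, smul_eq_mul, mul_comm])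
  obtain ⟨f, hf0, hf⟩ := hchar χ hgl ⟨V, i1, i2, i3, i4, v, hv0, fun ψ => by rw [hψ]; exact ha _ ⟨ψ, rfl⟩⟩
  exact obs_of_line (fun g hg => (hstab g).1 hg) a ha hf0 (by rintro _ ⟨ψ, rfl⟩; rw [← hψ]; exact hf ψ)

variable {G H : Over (Spec (CommRingCat.of k))} [GrpObj G] [GrpObj H] {i : H ⟶ G} [IsMonHom i] (c : Coords G H i)

/-- An extension of the line of a group-like function gives a semi-invariant vector. -/
theorem Coords.exists_semiVec {y : c.D} (hy : IsGroupLikeElem k y)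
    (h : letI := lineComod (k := k) hy; (ofComod c.e' k).ExtendsAlong i) :
    ∃ (V : Type u) (_ : AddCommGroup V) (_ : Module k V) (_ : Module.Finite k V) (ρ : VecGrp.GMod G V) (v : V), v ≠ 0 ∧
      ∀ (B : Type u) [CommRing B] [Algebra k B] (φ : c.D →ₐ[k] B),
        ρ.ρ B (pnt c.e' φ ≫ i) ((1 : B) ⊗ₜ[k] v) = φ y • ((1 : B) ⊗ₜ[k] v) := by
  letI := lineComod (k := k) hy
  obtain ⟨W, i1, i2, i3, ρ, φ, hinj, heq⟩ := h
  refine ⟨W, i1, i2, i3, ρ, φ 1, fun h => one_ne_zero (hinj (h.trans (map_zero φ).symm)), fun B _ _ ψ => ?_⟩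
  have h1 := heq B (pnt c.e' ψ) ((1 : B) ⊗ₜ[k] (1 : k))
  rw [LinearMap.baseChange_tmul, ofComod_pnt] at h1
  refine h1.symm.trans ?_
  rw [show HopfRep.Comod.coact (k := k) (A := c.D) (1 : k) = (1 : k) ⊗ₜ[k] y from rfl]
  simp [TensorProduct.smul_tmul']

/-- Reading a semi-invariant vector on rational points. -/
theorem Coords.ptAct_semiVec {V : Type u} [AddCommGroup V] [Module k V] (ρ : VecGrp.GMod G V) {v : V}
    {a : (c.D →ₐ[k] k) → k}
    (hv : ∀ φ : c.D →ₐ[k] k, ρ.ρ k (pnt c.e' φ ≫ i) ((1 : k) ⊗ₜ[k] v) = a φ • ((1 : k) ⊗ₜ[k] v))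
    (ψ : WithConv (c.D →ₐ[k] k)) :
    letI := toComod c.e ρ
    RedLR.ptAct V (resPt c.π ψ) v = a ψ.ofConv • v := by
  letI := toComod c.e ρ
  refine (ptAct_toComod c.e ρ (ψ.ofConv.comp (c.π : c.C →ₐ[k] c.D)) v).trans ?_
  rw [← c.comp, hv, map_smul, TensorProduct.lid_tmul, one_smul]

include c in
theorem Coords.isObservableIn_iff_semiVec :
    AGF.IsObservableIn k i ↔
      ∀ (χ : H ⟶ Red.Gm (Spec (CommRingCat.of k))), IsMonHom χ →
        (∃ (V : Type u) (_ : AddCommGroup V) (_ : Module k V) (_ : Module.Finite k V) (ρ : VecGrp.GMod G V) (v : V), v ≠ 0 ∧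
          ∀ (B : Type u) [CommRing B] [Algebra k B] (h : VecGrp.pt k B ⟶ H),
            ρ.ρ B (h ≫ i) ((1 : B) ⊗ₜ[k] v) = VecGrp.chiVal χ h • ((1 : B) ⊗ₜ[k] v)) →
        (∃ (V : Type u) (_ : AddCommGroup V) (_ : Module k V) (_ : Module.Finite k V) (ρ : VecGrp.GMod G V) (v : V), v ≠ 0 ∧
          ∀ (B : Type u) [CommRing B] [Algebra k B] (h : VecGrp.pt k B ⟶ H),
            ρ.ρ B (h ≫ i) ((1 : B) ⊗ₜ[k] v) = VecGrp.chiVal χ⁻¹ h • ((1 : B) ⊗ₜ[k] v)) := by
  constructor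
  · intro hobs χ hχ _
    obtain ⟨y, hy, hinv⟩ := exists_groupLike_inv (k := k) (isGroupLike_chiEl c.e' χ)
    have h1 : chiEl c.e' χ * y = 1 := ext_pt (k := k) fun ψ => by rw [map_mul, hinv, map_one]
    letI := lineComod (k := k) hy
    obtain ⟨V, i1, i2, i3, ρ, v, hv0, hv⟩ := c.exists_semiVec hy (c.extendsAlong hobs _)
    refine ⟨V, i1, i2, i3, ρ, v, hv0, fun B _ _ h => ?_⟩
    obtain ⟨φ, rfl⟩ := exists_eq_pnt c.e' h
    rw [hv]
    congr 1
    refine Eq.symm (left_inv_eq_right_inv (chiVal_inv_mul χ (pnt c.e' φ)) ?_)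
    rw [chiVal_pnt, ← map_mul, h1, map_one]
  · intro hchar
    refine c.obs_iff.2 (obs_of_vector_criterion c.π c.surj fun x hx hocc => ?_)
    obtain ⟨χ, hχ, hval⟩ := exists_char c.e' hx
    obtain ⟨V, _, _, _, _, v, hv0, hv⟩ := hocc
    letI := lineComod (k := k) hx
    have hext : (ofComod c.e' k).ExtendsAlong i := by
      refine c.extendsAlong_of_pointwise _ (LinearMap.toSpanSingleton k V v) (smul_left_injective k hv0) ?_
      intro ψ r
      rw [LinearMap.toSpanSingleton_apply, LinearMap.toSpanSingleton_apply, map_smul, hv, smul_smul]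
      congr 1
      refine (ptAct_toComod c.e' (ofComod c.e' k) ψ.ofConv r).trans ((lid_ofComod c.e' ψ.ofConv r).trans ?_)
      rw [RedLR.ptAct_eq_act]
      show TensorProduct.rid k k (ψ.ofConv.toLinearMap.lTensor k (r ⊗ₜ[k] x)) = _
      simp [mul_comm]
    obtain ⟨W, i1, i2, i3, ρ, w, hw0, hw⟩ := c.exists_semiVec hx hext
    obtain ⟨W', _, _, _, ρ', w', hw0', hw'⟩ := hchar χ hχ ⟨W, i1, i2, i3, ρ, w, hw0, fun B _ _ h => by
      obtain ⟨φ, rfl⟩ := exists_eq_pnt c.e' h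
      rw [hw, hval]⟩
    letI := toComod c.e ρ'
    obtain ⟨l, hl⟩ := Module.Projective.exists_dual_ne_zero k hw0'
    refine ⟨cf l w', cf_ne_zero hl, fun ψ => ?_⟩
    rw [rt_cf, c.ptAct_semiVec ρ' (a := fun φ => VecGrp.chiVal χ⁻¹ (pnt c.e' φ)) (fun φ => hw' k _) ψ,
      show cf (C := c.C) l (VecGrp.chiVal χ⁻¹ (pnt c.e' ψ.ofConv) • w') =
        VecGrp.chiVal χ⁻¹ (pnt c.e' ψ.ofConv) • cf (C := c.C) l w' from map_smul (cfL l) _ _,
      smul_smul, ← hval k ψ.ofConv, mul_comm, chiVal_inv_mul, one_smul]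

end Groth.Agent.GModLib
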