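import Groth.Agent.GModLib.Bridge
import Groth.Agent.Chev.CommSubgroup

/-!
# Observable subgroup schemes and their rational points
-/

set_option autoImplicit false
set_option linter.style.haveILetI false
set_option backward.isDefEq.respectTransparency false

universe u

open CategoryTheory CategoryTheory.Limits MonoidalCategory CartesianMonoidalCategory MonObj GrpObj AlgebraicGeometry
open TensorProduct WithConv

noncomputable section

namespace Groth.Agent.GModLib

variable {k : Type u} [Field k]

/-- Affine coordinates for a smooth closed subgroup of a smooth affine group. -/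
structure Coords (G H : Over (Spec (CommRingCat.of k))) [GrpObj G] [GrpObj H] (i : H ⟶ G) where
  C : Type u
  D : Type u
  [ringC : CommRing C]
  [ringD : CommRing D]
  [hopfC : HopfAlgebra k C]
  [hopfD : HopfAlgebra k D]
  [ftC : Algebra.FiniteType k C]
  [ftD : Algebra.FiniteType k D]
  [redC : _root_.IsReduced C]
  [redD : _root_.IsReduced D]
  e : (Spec (CommRingCat.of C)).asOver (Spec (CommRingCat.of k)) ≅ G
  e' : (Spec (CommRingCat.of D)).asOver (Spec (CommRingCat.of k)) ≅ H
  [monC : IsMonHom e.hom]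
  [monD : IsMonHom e'.hom]
  π : C →ₐc[k] D
  surj : Function.Surjective (π : C →ₐ[k] D)
  comp : ∀ (B : Type u) [CommRing B] [Algebra k B] (ψ : D →ₐ[k] B), pnt e' ψ ≫ i = pnt e (ψ.comp (π : C →ₐ[k] D))

attribute [instance] Coords.ringC Coords.ringD Coords.hopfC Coords.hopfD Coords.ftC Coords.ftD Coords.redC Coords.redD
  Coords.monC Coords.monD

theorem finiteType_of_smooth {G : Over (Spec (CommRingCat.of k))} [Smooth G.hom] {C : Type u} [CommRing C] [Algebra k C]
    (e : (Spec (CommRingCat.of C)).asOver (Spec (CommRingCat.of k)) ≅ G) : Algebra.FiniteType k C := by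
  haveI : IsIso e.hom.left := inferInstanceAs (IsIso ((Over.forget _).map e.hom))
  have h0 : LocallyOfFiniteType (e.hom.left ≫ G.hom) := inferInstance
  rw [Over.w e.hom] at h0
  exact RingHom.finiteType_algebraMap.1 ((HasRingHomProperty.Spec_iff (P := @LocallyOfFiniteType)).1 h0)

theorem exists_coords [IsAlgClosed k] (G H : Over (Spec (CommRingCat.of k))) [GrpObj G] [GrpObj H]
    [IsAffine G.left] [Smooth G.hom] [Smooth H.hom] (i : H ⟶ G) [IsMonHom i] [IsClosedImmersion i.left] :
    Nonempty (Coords G H i) := by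
  haveI : IsAffine H.left := isAffine_of_isAffineHom i.left
  obtain ⟨C, hC, e, he⟩ := FinHopf.exists_hopf (R := CommRingCat.of k) G
  obtain ⟨D, hD, e', he'⟩ := FinHopf.exists_hopf (R := CommRingCat.of k) H
  haveI := he
  haveI := he'
  haveI : Algebra.FiniteType k C := finiteType_of_smooth e
  haveI : Algebra.FiniteType k D := finiteType_of_smooth e'
  haveI : _root_.IsReduced C := isReduced_of_smooth e
  haveI : _root_.IsReduced D := isReduced_of_smooth e'
  let w : (MTBridge.specGrp k D).X ⟶ (MTBridge.specGrp k C).X := e'.hom ≫ i ≫ e.inv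
  haveI : IsMonHom w := by dsimp [w]; infer_instance
  obtain ⟨π, hπ⟩ := MTBridge.exists_bialgHom w
  refine ⟨{ C := C, D := D, e := e, e' := e', π := π, surj := ?_, comp := fun B _ _ ψ => ?_ }⟩
  · haveI : IsIso e'.hom.left := inferInstanceAs (IsIso ((Over.forget _).map e'.hom))
    haveI : IsIso e.inv.left := inferInstanceAs (IsIso ((Over.forget _).map e.inv))
    haveI : IsClosedImmersion (Spec.map (CommRingCat.ofHom (π : C →ₐ[k] D).toRingHom)) := by
      have h1 : IsClosedImmersion (e'.hom.left ≫ i.left ≫ e.inv.left) := inferInstance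
      rw [← show w.left = e'.hom.left ≫ i.left ≫ e.inv.left from rfl, hπ] at h1
      exact h1
    intro d
    obtain ⟨y, hy⟩ := (IsClosedImmersion.isAffine_surjective_of_isAffine
      (f := Spec.map (CommRingCat.ofHom (π : C →ₐ[k] D).toRingHom))).2 ((Scheme.ΓSpecIso (CommRingCat.of D)).inv d)
    refine ⟨(Scheme.ΓSpecIso (CommRingCat.of C)).hom y, ?_⟩
    have h3 := congr($(Scheme.ΓSpecIso_naturality (CommRingCat.ofHom (π : C →ₐ[k] D).toRingHom)) y)
    simp only [CommRingCat.comp_apply] at h3
    exact h3.symm.trans ((congrArg _ hy).trans (congr($((Scheme.ΓSpecIso (CommRingCat.of D)).inv_hom_id) d)))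
  · refine Over.OverMorphism.ext ?_
    show (Spec.map (CommRingCat.ofHom ψ.toRingHom) ≫ e'.hom.left) ≫ i.left =
      Spec.map (CommRingCat.ofHom (ψ.comp (π : C →ₐ[k] D)).toRingHom) ≫ e.hom.left
    have h2 : e'.hom.left ≫ i.left = w.left ≫ e.hom.left := by
      rw [← Over.comp_left, ← Over.comp_left]
      simp [w]
    rw [Category.assoc, h2, hπ, ← Spec.map_comp_assoc]
    rfl

variable [IsAlgClosed k]
variable {G H : Over (Spec (CommRingCat.of k))} [GrpObj G] [GrpObj H] {i : H ⟶ G} [IsMonHom i] (c : Coords G H i)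

theorem Coords.rTransInv_iff_mem (f : Γ(G.left, ⊤)) : AGF.IsRTransInv i f ↔ fnC c.e f ∈ Inv (SG c.π) := by
  rw [rTransInv_hom_iff c.e c.e' i f]
  constructor
  · rintro h _ ⟨ψ, rfl⟩
    have h1 := h (pnt c.e' ψ.ofConv)
    rw [c.comp, rTransInv_pt_iff, act_eq_rt] at h1
    exact h1
  · intro h g
    obtain ⟨ψ, rfl⟩ := exists_eq_pnt c.e' g
    rw [c.comp, rTransInv_pt_iff, act_eq_rt]
    exact h _ ⟨toConv ψ, rfl⟩

theorem Coords.exists_lift_iff (φ : c.C →ₐ[k] k) :
    (∃ h : VecGrp.pt k k ⟶ H, h ≫ i = pnt c.e φ) ↔ toConv φ ∈ SG c.π := by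
  constructor
  · rintro ⟨h, hh⟩
    obtain ⟨ψ, rfl⟩ := exists_eq_pnt c.e' h
    rw [c.comp] at hh
    exact ⟨toConv ψ, congrArg toConv (pnt_injective c.e hh)⟩
  · rintro ⟨ψ, hψ⟩
    refine ⟨pnt c.e' ψ.ofConv, ?_⟩
    rw [c.comp]
    exact congrArg (fun t => pnt c.e (WithConv.ofConv t)) hψ

theorem Coords.obs_iff : AGF.IsObservableIn k i ↔ Obs (SG c.π) := by
  constructor
  · intro h g hg
    obtain ⟨h', hh⟩ := h (pnt c.e g.ofConv) fun f hf => by
      rw [rTransInv_pt_iff, act_eq_rt, toConv_ofConv]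
      exact hg _ ((c.rTransInv_iff_mem f).1 hf)
    simpa using (c.exists_lift_iff g.ofConv).1 ⟨h', hh⟩
  · intro h g hg
    obtain ⟨φ, rfl⟩ := exists_eq_pnt c.e g
    refine (c.exists_lift_iff φ).2 (h _ fun f hf => ?_)
    obtain ⟨f, rfl⟩ := (fnC_bijective c.e).2 f
    have h1 := hg f ((c.rTransInv_iff_mem f).2 hf)
    rwa [rTransInv_pt_iff, act_eq_rt] at h1

section Criterion

variable {C : Type u} [CommRing C] [HopfAlgebra k C] [Algebra.FiniteType k C] [_root_.IsReduced C]
variable {D : Type u} [CommRing D] [HopfAlgebra k D] [Algebra.FiniteType k D] [_root_.IsReduced D]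

omit [Algebra.FiniteType k C] [_root_.IsReduced C] in
/-- A multiplicative function is group-like. -/
theorem isGroupLike_of_mul {χ : D} (h1 : (1 : WithConv (D →ₐ[k] k)).ofConv χ = 1)
    (hm : ∀ x y : WithConv (D →ₐ[k] k), (x * y).ofConv χ = x.ofConv χ * y.ofConv χ) : IsGroupLikeElem k χ := by
  classical
  refine ⟨?_, ?_⟩
  · have h := h1
    rw [AlgHom.convOne_apply] at h
    simpa using h
  · let b := Module.Free.chooseBasis k D
    apply (TensorProduct.equivFinsuppOfBasisLeft b).injective
    ext i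
    refine ext_points (k := k) fun y => ?_
    have h2 : ∀ t : D ⊗[k] D, y (TensorProduct.equivFinsuppOfBasisLeft b t i) =
        b.repr (TensorProduct.rid k D (y.toLinearMap.lTensor D t)) i := by
      intro t
      induction t using TensorProduct.induction_on with
      | zero => simp
      | add x y hx hy => simp only [map_add, Finsupp.add_apply, hx, hy]
      | tmul a d => simp [mul_comm]
    rw [h2, h2]
    congr 2
    refine ext_pt (k := k) fun x => ?_
    have h3 : TensorProduct.rid k D (y.toLinearMap.lTensor D (CoalgebraStruct.comul (R := k) χ)) = rt (toConv y) χ :=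
      act_eq_rt y χ
    rw [h3, apply_rt, hm]
    simp [mul_comm]

/-- The line with stabiliser a given subgroup. -/
theorem exists_stab_line (π : C →ₐc[k] D) (hπ : Function.Surjective (π : C →ₐ[k] D)) :
    ∃ (V : Type u) (_ : AddCommGroup V) (_ : Module k V) (_ : Module.Finite k V) (_ : HopfRep.Comod k C V) (v : V),
      v ≠ 0 ∧ ∀ g, RedLR.ptAct V g v ∈ k ∙ v ↔ g ∈ SG π := by
  classical
  let I : Ideal C := RingHom.ker (π : C →+* D)
  have hπI : ∀ x, x ∈ I ↔ π x = 0 := fun x => RingHom.mem_ker
  have hε : ∀ x ∈ I, CoalgebraStruct.counit (R := k) x = 0 := fun x hx => by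
    rw [← CoalgHomClass.counit_comp_apply π x, (hπI x).mp hx, map_zero]
  have hΔ : ∀ x ∈ I, TensorProduct.map (I.restrictScalars k).mkQ (I.restrictScalars k).mkQ
      (CoalgebraStruct.comul (R := k) x) = 0 := fun x hx => by
    let π' : C ⧸ I.restrictScalars k →ₗ[k] D :=
      (I.restrictScalars k).liftQ (π : C →ₗ[k] D) fun y hy => (hπI y).mp hy
    have hinj : Function.Injective π' := LinearMap.ker_eq_bot.mp
      (Submodule.ker_liftQ_eq_bot _ _ _ fun y hy => (hπI y).mpr hy)
    have hinj2 : Function.Injective (TensorProduct.map π' π') := by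
      rw [← LinearMap.lTensor_comp_rTensor]
      exact (Module.Flat.lTensor_preserves_injective_linearMap _ hinj).comp
        (Module.Flat.rTensor_preserves_injective_linearMap _ hinj)
    apply hinj2
    rw [map_zero, ← LinearMap.comp_apply, ← TensorProduct.map_comp]
    have : π' ∘ₗ (I.restrictScalars k).mkQ = (π : C →ₗ[k] D) := Submodule.liftQ_mkQ _ _ _
    rw [this]
    exact (CoalgHomClass.map_comp_comul_apply π x).trans (by rw [(hπI x).mp hx, map_zero])
  obtain ⟨V, i1, i2, i3, i4, v, hv0, hrep⟩ := Comod.LineStab.exists_line (k := k) I hε hΔ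
  refine ⟨V, i1, i2, i4, i3, v, hv0, fun g => ?_⟩
  have hst : RedLR.ptAct V g v ∈ k ∙ v ↔ SGA3.StabilizesLine k C v k g.ofConv := by
    rw [← toConv_ofConv g, RedLR.ptAct_eq_act, toConv_ofConv, Submodule.mem_span_singleton]
    refine exists_congr fun c => ?_
    rw [← (TensorProduct.rid k V).injective.eq_iff, TensorProduct.rid_tmul, eq_comm]
    rfl
  rw [hst]
  refine (hrep k g.ofConv).symm.trans ⟨fun hker => ?_, ?_⟩
  · let e2 := Ideal.quotientKerAlgEquivOfSurjective hπ
    let L := Ideal.Quotient.liftₐ (RingHom.ker (π : C →ₐ[k] D)) g.ofConv fun a ha => hker a ha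
    refine ⟨toConv (L.comp e2.symm.toAlgHom), WithConv.ext (AlgHom.ext fun a => ?_)⟩
    show L (e2.symm ((π : C →ₐ[k] D) a)) = g.ofConv a
    rw [show (π : C →ₐ[k] D) a = e2 (Ideal.Quotient.mk _ a) from rfl, AlgEquiv.symm_apply_apply]
    rfl
  · rintro ⟨ψ, rfl⟩ a ha
    show ψ.ofConv ((π : C →ₐ[k] D) a) = 0
    rw [show (π : C →ₐ[k] D) a = 0 from (hπI a).1 ha, map_zero]

/-- The character criterion for observability. -/
theorem obs_of_criterion (π : C →ₐc[k] D) (hπ : Function.Surjective (π : C →ₐ[k] D))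
    (hchar : ∀ χ : D, IsGroupLikeElem k χ →
      (∃ f : C, f ≠ 0 ∧ ∀ ψ, rt (resPt π ψ) f = ψ.ofConv χ • f) →
      ∃ f : C, f ≠ 0 ∧ ∀ ψ, ψ.ofConv χ • rt (resPt π ψ) f = f) : Obs (SG π) := by
  obtain ⟨V, _, _, _, _, v, hv0, hstab⟩ := exists_stab_line π hπ
  obtain ⟨l, hl⟩ := (LinearMap.toSpanSingleton k V v).exists_leftInverse_of_injective
    (LinearMap.ker_eq_bot.2 (smul_left_injective k hv0))
  have hl1 : l v = 1 := by simpa using LinearMap.congr_fun hl (1 : k)
  let a : WithConv (C →ₐ[k] k) → k := fun g => l (RedLR.ptAct V g v)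
  have ha : ∀ h ∈ SG π, RedLR.ptAct V h v = a h • v := by
    intro h hh
    obtain ⟨c, hc⟩ := Submodule.mem_span_singleton.1 ((hstab h).2 hh)
    show _ = l (RedLR.ptAct V h v) • v
    rw [← hc, map_smul, hl1, smul_eq_mul, _root_.mul_one]
  let χ : D := (π : C →ₐ[k] D) (cf l v)
  have hψ : ∀ ψ : WithConv (D →ₐ[k] k), ψ.ofConv χ = a (resPt π ψ) := fun ψ => apply_cf l v (resPt π ψ)
  have hgl : IsGroupLikeElem k χ := isGroupLike_of_mul (k := k)
    (by rw [hψ, map_one]; show l _ = 1; rw [act_one_apply, hl1])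
    (fun x y => by
      simp only [hψ, map_mul]
      show l _ = _
      rw [act_mul_apply, ha _ ⟨y, rfl⟩, map_smul, map_smul, smul_eq_mul, mul_comm])
  obtain ⟨f, hf0, hf⟩ := hchar χ hgl ⟨cf l v, cf_ne_zero (by rw [hl1]; exact one_ne_zero), fun ψ => by
    rw [rt_cf, ha _ ⟨ψ, rfl⟩, hψ]
    exact map_smul (cfL l) _ v⟩
  exact obs_of_line (fun g hg => (hstab g).1 hg) a ha hf0 (by rintro _ ⟨ψ, rfl⟩; rw [← hψ]; exact hf ψ)

end Criterion

section GMods

variable {D : Type u} [CommRing D] [HopfAlgebra k D]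
variable (e' : (Spec (CommRingCat.of D)).asOver (Spec (CommRingCat.of k)) ≅ H) [IsMonHom e'.hom]

omit [IsAlgClosed k] in
theorem ptAct_toComod {V : Type u} [AddCommGroup V] [Module k V] (σ : VecGrp.GMod H V) (ψ : D →ₐ[k] k) (v : V) :
    letI := toComod e' σ
    RedLR.ptAct V (toConv ψ) v = TensorProduct.lid k V (σ.ρ k (pnt e' ψ) ((1 : k) ⊗ₜ[k] v)) := by
  letI := toComod e' σ
  rw [RedLR.ptAct_eq_act, rho_pnt]
  show TensorProduct.rid k V (ψ.toLinearMap.lTensor V (coactMap e' σ v)) = _
  generalize coactMap e' σ v = t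
  induction t using TensorProduct.induction_on with
  | zero => simp
  | add x y hx hy => simp only [map_add, hx, hy]
  | tmul m d => simp [VecGrp.Wmap_tmul]

omit [IsAlgClosed k] in
theorem lid_ofComod {W : Type u} [AddCommGroup W] [Module k W] [HopfRep.Comod k D W] (ψ : D →ₐ[k] k) (v : W) :
    TensorProduct.lid k W ((ofComod e' W).ρ k (pnt e' ψ) ((1 : k) ⊗ₜ[k] v)) = RedLR.ptAct W (toConv ψ) v := by
  rw [RedLR.ptAct_eq_act, ofComod_pnt]
  show _ = TensorProduct.rid k W (ψ.toLinearMap.lTensor W (HopfRep.Comod.coact (k := k) (A := D) v))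
  generalize ψ.toLinearMap.lTensor W (HopfRep.Comod.coact (k := k) (A := D) v) = t
  induction t using TensorProduct.induction_on with
  | zero => simp
  | add x y hx hy => simp only [map_add, hx, hy]
  | tmul m d => simp

theorem Coords.extendsAlong_of_pointwise {V : Type u} [AddCommGroup V] [Module k V] (σ : VecGrp.GMod H V)
    {W : Type u} [AddCommGroup W] [Module k W] [Module.Finite k W] [HopfRep.Comod k c.C W] (φ : V →ₗ[k] W)
    (hinj : Function.Injective φ)
    (heq : letI := toComod c.e' σ
      ∀ ψ v, φ (RedLR.ptAct V ψ v) = RedLR.ptAct W (resPt c.π ψ) (φ v)) : σ.ExtendsAlong i := by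
  classical
  letI cV : HopfRep.Comod k c.D V := toComod c.e' σ
  refine ⟨W, inferInstance, inferInstance, inferInstance, ofComod c.e W, φ, hinj, fun B _ _ h x => ?_⟩
  obtain ⟨ψ, rfl⟩ := exists_eq_pnt c.e' h
  have key : ∀ v : V, φ.rTensor c.D (coactMap c.e' σ v) =
      (c.π : c.C →ₐ[k] c.D).toLinearMap.lTensor W (HopfRep.Comod.coact (k := k) (A := c.C) (φ v)) := by
    intro v
    let b := Module.Free.chooseBasis k W
    apply (TensorProduct.equivFinsuppOfBasisLeft b).injective
    ext j
    refine ext_points (k := k) fun y => ?_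
    have h2 : ∀ t : W ⊗[k] c.D, y (TensorProduct.equivFinsuppOfBasisLeft b t j) =
        b.repr (TensorProduct.rid k W (y.toLinearMap.lTensor W t)) j := by
      intro t
      induction t using TensorProduct.induction_on with
      | zero => simp
      | add x y hx hy => simp only [map_add, Finsupp.add_apply, hx, hy]
      | tmul a d => simp [mul_comm]
    rw [h2, h2]
    congr 2
    have h3 : TensorProduct.rid k W (y.toLinearMap.lTensor W (φ.rTensor c.D (coactMap c.e' σ v))) =
        φ (RedLR.ptAct V (toConv y) v) := by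
      rw [RedLR.ptAct_eq_act]
      show _ = φ (TensorProduct.rid k V (y.toLinearMap.lTensor V (coactMap c.e' σ v)))
      generalize coactMap c.e' σ v = t
      induction t using TensorProduct.induction_on with
      | zero => simp
      | add x y hx hy => simp only [map_add, hx, hy]
      | tmul a d => simp
    rw [h3, heq, ← LinearMap.lTensor_comp_apply]
    rfl
  induction x using TensorProduct.induction_on with
  | zero => simp
  | add x y hx hy => simp only [map_add, hx, hy]
  | tmul b v =>
    rw [show b ⊗ₜ[k] v = b • ((1 : B) ⊗ₜ[k] v) by simp [TensorProduct.smul_tmul'], map_smul, map_smul, map_smul, map_smul]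
    congr 1
    rw [c.comp, rho_pnt, LinearMap.baseChange_tmul, ofComod_pnt, AlgHom.comp_toLinearMap, LinearMap.lTensor_comp_apply,
      ← key v]
    generalize coactMap c.e' σ v = t
    induction t using TensorProduct.induction_on with
    | zero => simp
    | add x y hx hy => simp only [map_add, hx, hy]
    | tmul a d => simp [VecGrp.Wmap_tmul]

end GMods

end Groth.Agent.GModLib
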