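import Groth.Agent.GModLib.ObsMain
import Groth.Agent.Chev.SolvTorus

/-!
# Observability and invariant fractions
-/

set_option autoImplicit false
set_option linter.style.haveILetI false
set_option backward.isDefEq.respectTransparency false

universe u

open CategoryTheory CategoryTheory.Limits MonoidalCategory CartesianMonoidalCategory MonObj GrpObj AlgebraicGeometry
open TensorProduct WithConv

noncomputable section

namespace Groth.Agent.GModLib

variable {k : Type u} [Field k] [IsAlgClosed k]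

section Algebra

variable {C : Type u} [CommRing C] [HopfAlgebra k C] [Algebra.FiniteType k C] [_root_.IsReduced C] [IsDomain C]
variable {D : Type u} [CommRing D] [HopfAlgebra k D] [Algebra.FiniteType k D] [_root_.IsReduced D]

theorem rt_ne_zero {g : WithConv (C →ₐ[k] k)} {b : C} (hb : b ≠ 0) : rt g b ≠ 0 := fun h => hb (by
  rw [← rt_one_apply (k := k) b, ← inv_mul_cancel g, rt_mul_apply, h, map_zero])

/-- Invariant fractions are fractions of invariants, when stable ideals meet the invariants. -/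
theorem exists_frac {S : Subgroup (WithConv (C →ₐ[k] k))} (hS : HasInv S) {a b : C} (hb : b ≠ 0)
    (hab : ∀ h ∈ S, rt h a * b = a * rt h b) :
    ∃ a' b' : C, a' ∈ Inv S ∧ b' ∈ Inv S ∧ b' ≠ 0 ∧ a * b' = a' * b := by
  let I : Ideal C := Submodule.comap (LinearMap.toSpanSingleton C C a) (Ideal.span {b})
  have hmem : ∀ u, u ∈ I ↔ ∃ d, d * b = u * a := fun u => by
    show u * a ∈ Ideal.span {b} ↔ _
    exact Ideal.mem_span_singleton'
  obtain ⟨F, hF, hF0, m, hm⟩ := hS ⊥ I (by rw [minimalPrimes_eq_minimals]; exact ⟨Ideal.isPrime_bot, fun _ _ _ => bot_le⟩)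
    (fun h hh u hu => by
      obtain ⟨d, hd⟩ := (hmem u).1 hu
      refine (hmem _).2 ⟨rt h d, mul_right_cancel₀ (rt_ne_zero (g := h) hb) ?_⟩
      have h1 := congrArg (rt h) hd
      rw [map_mul, map_mul] at h1
      calc rt h d * b * rt h b = rt h d * rt h b * b := by ring
        _ = rt h u * (rt h a * b) := by rw [h1, _root_.mul_assoc]
        _ = rt h u * a * rt h b := by rw [hab h hh, _root_.mul_assoc])
    (fun hle => hb (by simpa using hle ((hmem b).2 ⟨a, mul_comm _ _⟩)))
  obtain ⟨d, hd⟩ := (hmem _).1 hm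
  have hF0' : F ≠ 0 := fun h => hF0 (h ▸ Ideal.zero_mem _)
  refine ⟨d, F ^ m, fun h hh => ?_, Subalgebra.pow_mem _ hF m, pow_ne_zero m hF0', by rw [mul_comm, hd]⟩
  refine mul_right_cancel₀ (rt_ne_zero (g := h) hb) (mul_right_cancel₀ hb ?_)
  have h1 := congrArg (rt h) hd
  rw [map_mul, map_mul, map_pow, hF h hh] at h1
  calc rt h d * rt h b * b = F ^ m * (rt h a * b) := by rw [h1, _root_.mul_assoc]
    _ = F ^ m * a * rt h b := by rw [hab h hh, _root_.mul_assoc]
    _ = d * rt h b * b := by rw [← hd]; ring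

/-- The fraction criterion for observability. -/
theorem obs_of_frac (π : C →ₐc[k] D) (hπ : Function.Surjective (π : C →ₐ[k] D))
    (hfrac : ∀ a b : C, b ≠ 0 → (∀ h ∈ SG π, rt h a * b = a * rt h b) →
      ∃ a' b' : C, a' ∈ Inv (SG π) ∧ b' ∈ Inv (SG π) ∧ b' ≠ 0 ∧ a * b' = a' * b) : Obs (SG π) := by
  obtain ⟨V, _, _, _, _, v, hv0, hstab⟩ := exists_stab_line π hπ
  obtain ⟨l0, hl0⟩ := (LinearMap.toSpanSingleton k V v).exists_leftInverse_of_injective
    (LinearMap.ker_eq_bot.2 (smul_left_injective k hv0))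
  have hl1 : l0 v = 1 := by simpa using LinearMap.congr_fun hl0 (1 : k)
  have hrt : ∀ h ∈ SG π, ∀ l : V →ₗ[k] k, rt h (cf l v) = l0 (RedLR.ptAct V h v) • cf l v := by
    intro h hh l
    obtain ⟨c, hc⟩ := Submodule.mem_span_singleton.1 ((hstab h).2 hh)
    rw [rt_cf, ← hc, map_smul, hl1, smul_eq_mul, _root_.mul_one]
    exact map_smul (cfL l) _ v
  intro g hg
  refine (hstab g).1 (Submodule.mem_span_singleton.2 ⟨l0 (RedLR.ptAct V g v), ?_⟩)
  refine (Module.Free.chooseBasis k V).ext_elem fun j => ?_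
  let l := (Module.Free.chooseBasis k V).coord j
  have hb0 : cf (C := C) l0 v ≠ 0 := cf_ne_zero (by rw [hl1]; exact one_ne_zero)
  obtain ⟨a', b', ha', hb', hb'0, he⟩ := hfrac (cf l v) (cf l0 v) hb0 (fun h hh => by
    rw [hrt h hh, hrt h hh, Algebra.smul_def, Algebra.smul_def]
    ring)
  have h1 := congrArg (rt g) he
  rw [map_mul, map_mul, hg _ ha', hg _ hb'] at h1
  have h2 : rt g (cf l v) * cf l0 v = cf l v * rt g (cf l0 v) := mul_right_cancel₀ hb'0 (by
    calc rt g (cf l v) * cf l0 v * b' = rt g (cf l v) * b' * cf l0 v := by ring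
      _ = (a' * cf l0 v) * rt g (cf l0 v) := by rw [h1]; ring
      _ = cf l v * rt g (cf l0 v) * b' := by rw [← he]; ring)
  have h3 := congrArg (1 : WithConv (C →ₐ[k] k)).ofConv h2
  rw [map_mul, map_mul, apply_rt, apply_rt, apply_cf, apply_cf, apply_cf, apply_cf, _root_.one_mul, act_one_apply,
    hl1, _root_.mul_one] at h3
  have h4 : l (l0 (RedLR.ptAct V g v) • v) = l (RedLR.ptAct V g v) := by
    rw [map_smul, smul_eq_mul, h3, mul_comm]
  exact h4

end Algebra

variable {G H : Over (Spec (CommRingCat.of k))} [GrpObj G] [GrpObj H] {i : H ⟶ G} [IsMonHom i] (c : Coords G H i)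

theorem Coords.frac_iff (a b : Γ(G.left, ⊤)) :
    (((G ◁ i) ≫ μ[G]).left.appTop a * (fst G H).left.appTop b = (fst G H).left.appTop a * ((G ◁ i) ≫ μ[G]).left.appTop b) ↔
      ∀ h ∈ SG c.π, rt h (fnC c.e a) * fnC c.e b = fnC c.e a * rt h (fnC c.e b) := by
  classical
  have hq : (G ◁ i) ≫ μ[G] = fst G H * (snd G H ≫ i) := by
    rw [Hom.mul_def]
    congr 1
  have hv : ∀ (B : Type u) [CommRing B] [Algebra k B] (w : VecGrp.pt k B ⟶ G ⊗ H) (φ : c.C →ₐ[k] B) (ψ : c.D →ₐ[k] B),
      w ≫ fst G H = pnt c.e φ → w ≫ snd G H = pnt c.e' ψ → ∀ f : Γ(G.left, ⊤),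
      AdjRep.val w ((fst G H).left.appTop f) = φ (fnC c.e f) ∧
      AdjRep.val w (((G ◁ i) ≫ μ[G]).left.appTop f) =
        Algebra.TensorProduct.lift φ ψ (fun _ _ => Commute.all _ _)
          ((c.π : c.C →ₐ[k] c.D).toLinearMap.lTensor c.C (CoalgebraStruct.comul (R := k) (fnC c.e f))) := by
    intro B _ _ w φ ψ h1 h2 f
    constructor
    · rw [← AdjRep.val_comp, h1, val_pnt]
    · rw [← AdjRep.val_comp, hq, MonObj.comp_mul, h1, ← Category.assoc, h2, c.comp, ← pnt_mul, val_pnt]
      show (toConv φ * toConv (ψ.comp (c.π : c.C →ₐ[k] c.D))) (fnC c.e f) = _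
      rw [AlgHom.convMul_apply]
      generalize CoalgebraStruct.comul (R := k) (fnC c.e f) = t
      induction t using TensorProduct.induction_on with
      | zero => simp
      | add x y hx hy => simp only [map_add, hx, hy]
      | tmul a d => simp
  constructor
  · rintro h _ ⟨ψ, rfl⟩
    refine ext_pt (k := k) fun x => ?_
    let w : VecGrp.pt k k ⟶ G ⊗ H := lift (pnt c.e x.ofConv) (pnt c.e' ψ.ofConv)
    have h1 := congrArg (AdjRep.val w) h
    rw [map_mul, map_mul, (hv k w _ _ (lift_fst _ _) (lift_snd _ _) a).1, (hv k w _ _ (lift_fst _ _) (lift_snd _ _) a).2,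
      (hv k w _ _ (lift_fst _ _) (lift_snd _ _) b).1, (hv k w _ _ (lift_fst _ _) (lift_snd _ _) b).2] at h1
    have h2 : ∀ f : Γ(G.left, ⊤), Algebra.TensorProduct.lift x.ofConv ψ.ofConv (fun _ _ => Commute.all _ _)
          ((c.π : c.C →ₐ[k] c.D).toLinearMap.lTensor c.C (CoalgebraStruct.comul (R := k) (fnC c.e f))) =
        x.ofConv (rt (resPt c.π ψ) (fnC c.e f)) := by
      intro f
      rw [apply_rt]
      show _ = (x * resPt c.π ψ) (fnC c.e f)
      rw [AlgHom.convMul_apply]
      generalize CoalgebraStruct.comul (R := k) (fnC c.e f) = t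
      induction t using TensorProduct.induction_on with
      | zero => simp
      | add x y hx hy => simp only [map_add, hx, hy]
      | tmul a d => simp; exact Or.inl rfl
    rw [h2, h2] at h1
    rw [map_mul, map_mul]
    exact h1
  · intro h
    let z : c.C → c.C ⊗[k] c.D := fun t =>
      (c.π : c.C →ₐ[k] c.D).toLinearMap.lTensor c.C (CoalgebraStruct.comul (R := k) t)
    have hz : z (fnC c.e a) * (fnC c.e b ⊗ₜ[k] (1 : c.D)) = (fnC c.e a ⊗ₜ[k] (1 : c.D)) * z (fnC c.e b) := by
      let B := Module.Free.chooseBasis k c.C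
      apply (TensorProduct.equivFinsuppOfBasisLeft B).injective
      ext j
      refine ext_points (k := k) fun ψ => ?_
      let E : c.C ⊗[k] c.D →ₐ[k] c.C :=
        Algebra.TensorProduct.lift (AlgHom.id k c.C) ((Algebra.ofId k c.C).comp ψ) (fun _ _ => Commute.all _ _)
      have h2 : ∀ t : c.C ⊗[k] c.D, ψ (TensorProduct.equivFinsuppOfBasisLeft B t j) = B.repr (E t) j := by
        intro t
        induction t using TensorProduct.induction_on with
        | zero => simp
        | add x y hx hy => simp only [map_add, Finsupp.add_apply, hx, hy]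
        | tmul a d =>
          rw [show E (a ⊗ₜ[k] d) = ψ d • a by simp [E, Algebra.smul_def, mul_comm, Algebra.ofId_apply]]
          simp [mul_comm]
      have hE1 : ∀ t : c.C, E (t ⊗ₜ[k] (1 : c.D)) = t := fun t => by simp [E]
      have hEz : ∀ t : c.C, E (z t) = rt (resPt c.π (toConv ψ)) t := by
        intro t
        rw [← act_eq_rt]
        show E ((c.π : c.C →ₐ[k] c.D).toLinearMap.lTensor c.C (CoalgebraStruct.comul (R := k) t)) =
          TensorProduct.rid k c.C ((ψ.comp (c.π : c.C →ₐ[k] c.D)).toLinearMap.lTensor c.C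
            (CoalgebraStruct.comul (R := k) t))
        generalize CoalgebraStruct.comul (R := k) t = s
        induction s using TensorProduct.induction_on with
        | zero => simp
        | add x y hx hy => simp only [map_add, hx, hy]
        | tmul a d =>
          rw [LinearMap.lTensor_tmul, show ∀ a d, E (a ⊗ₜ[k] d) = ψ d • a from fun a d => by
            simp [E, Algebra.smul_def, mul_comm, Algebra.ofId_apply]]
          simp
      rw [h2, h2, map_mul E, map_mul E, hE1, hE1, hEz, hEz, h _ ⟨toConv ψ, rfl⟩]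
    refine AdjRep.val_ext fun B _ _ w => ?_
    obtain ⟨φ, hφ⟩ := exists_eq_pnt c.e (w ≫ fst G H)
    obtain ⟨ψ, hψ⟩ := exists_eq_pnt c.e' (w ≫ snd G H)
    have h1 := hv B w φ ψ hφ.symm hψ.symm
    rw [map_mul, map_mul, (h1 a).1, (h1 a).2, (h1 b).1, (h1 b).2]
    have h3 := congrArg (Algebra.TensorProduct.lift φ ψ (fun _ _ => Commute.all _ _)) hz
    rw [map_mul, map_mul, Algebra.TensorProduct.lift_tmul, Algebra.TensorProduct.lift_tmul, map_one, _root_.mul_one,
      _root_.mul_one] at h3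
    exact h3

include c in
theorem Coords.isObservableIn_iff_frac [Smooth G.hom] [ConnectedSpace G.left] :
    AGF.IsObservableIn k i ↔
      ∀ a b : Γ(G.left, ⊤), b ≠ 0 →
        ((G ◁ i) ≫ μ[G]).left.appTop a * (fst G H).left.appTop b = (fst G H).left.appTop a * ((G ◁ i) ≫ μ[G]).left.appTop b →
        ∃ a' b' : Γ(G.left, ⊤), AGF.IsRTransInv i a' ∧ AGF.IsRTransInv i b' ∧ b' ≠ 0 ∧ a * b' = a' * b := by
  haveI : IsDomain c.C := Chev.Borel.isDomain_of_smooth_connected c.e
  have hbij := fnC_bijective c.e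
  constructor
  · intro hobs a b hb hab
    obtain ⟨a', b', ha', hb', hb'0, he⟩ := exists_frac (c.obs_iff.1 hobs).stabVec.hasInv
      (fun h => hb (hbij.1 (h.trans (map_zero _).symm))) ((c.frac_iff a b).1 hab)
    obtain ⟨a', rfl⟩ := hbij.2 a'
    obtain ⟨b', rfl⟩ := hbij.2 b'
    exact ⟨a', b', (c.rTransInv_iff_mem _).2 ha', (c.rTransInv_iff_mem _).2 hb', fun h => hb'0 (by rw [h, map_zero]),
      hbij.1 (by rw [map_mul, map_mul, he])⟩
  · intro hfrac
    refine c.obs_iff.2 (obs_of_frac c.π c.surj fun a b hb hab => ?_)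
    obtain ⟨a, rfl⟩ := hbij.2 a
    obtain ⟨b, rfl⟩ := hbij.2 b
    obtain ⟨a', b', ha', hb', hb'0, he⟩ := hfrac a b (fun h => hb (by rw [h, map_zero])) ((c.frac_iff a b).2 hab)
    exact ⟨_, _, (c.rTransInv_iff_mem _).1 ha', (c.rTransInv_iff_mem _).1 hb',
      fun h => hb'0 (hbij.1 (h.trans (map_zero _).symm)), by rw [← map_mul, ← map_mul, he]⟩

end Groth.Agent.GModLib
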