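import Groth.Agent.GModLib.ObsCrit
import Groth.Agent.GrpField.Range

/-!
# Observable subgroups: main consequences
-/

set_option autoImplicit false
set_option linter.style.haveILetI false
set_option backward.isDefEq.respectTransparency false

universe u

open CategoryTheory CategoryTheory.Limits MonoidalCategory CartesianMonoidalCategory MonObj GrpObj AlgebraicGeometry
open TensorProduct WithConv

noncomputable section

namespace Groth.Agent.GModLib

variable {k : Type u} [Field k] [IsAlgClosed k]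

section Groups

variable {G H : Over (Spec (CommRingCat.of k))} [GrpObj G] [GrpObj H] {i : H ⟶ G} [IsMonHom i]

/-- Representations of an observable subgroup extend. -/
theorem Coords.extendsAlong (c : Coords G H i) (hobs : AGF.IsObservableIn k i) {V : Type u} [AddCommGroup V] [Module k V]
    [Module.Finite k V] (σ : VecGrp.GMod H V) : σ.ExtendsAlong i := by
  letI cV : HopfRep.Comod k c.D V := toComod c.e' σ
  obtain ⟨W, _, _, _, _, φ, hinj, heq⟩ := exists_extension c.π c.surj (c.obs_iff.1 hobs).stabVec.hasInv V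
  exact c.extendsAlong_of_pointwise σ φ hinj heq

/-- A group-like function has a group-like inverse. -/
theorem exists_groupLike_inv {D : Type u} [CommRing D] [HopfAlgebra k D] [Algebra.FiniteType k D] [_root_.IsReduced D]
    {χ : D} (hχ : IsGroupLikeElem k χ) :
    ∃ y : D, IsGroupLikeElem k y ∧ ∀ ψ : WithConv (D →ₐ[k] k), ψ.ofConv χ * ψ.ofConv y = 1 := by
  have hmul : ∀ ψ : WithConv (D →ₐ[k] k),
      ψ.ofConv χ * ψ.ofConv (HopfAlgebra.antipode k (A := D) χ) = 1 := fun ψ => by
    rw [← map_mul, hχ.mul_antipode_cancel, map_one]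
  refine ⟨_, isGroupLike_of_mul (k := k) ?_ fun x y => ?_, hmul⟩
  · have h := hmul 1
    rwa [AlgHom.convOne_apply, hχ.counit_eq_one, map_one, _root_.one_mul] at h
  · have hxy : (x * y).ofConv χ = x.ofConv χ * y.ofConv χ := by
      show (x * y) χ = _
      rw [AlgHom.convMul_apply, hχ.comul_eq_tmul_self]
      simp
    have h := hmul (x * y)
    rw [hxy] at h
    have hne : x.ofConv χ * y.ofConv χ ≠ 0 := fun h0 => by rw [h0, zero_mul] at h; exact zero_ne_one h
    refine mul_left_cancel₀ hne (h.trans ?_)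
    rw [_root_.mul_mul_mul_comm, hmul x, hmul y, _root_.one_mul]

/-- The one dimensional comodule of a group-like function. -/
@[reducible]
def lineComod {D : Type u} [CommRing D] [HopfAlgebra k D] {y : D} (hy : IsGroupLikeElem k y) : HopfRep.Comod k D k where
  coact := (TensorProduct.mk k k D).flip y
  coassoc := LinearMap.ext fun r => by simp [hy.comul_eq_tmul_self]
  counit_comp := LinearMap.ext fun r => by simp [hy.counit_eq_one]

/-- If all representations extend then the subgroup is observable. -/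
theorem Coords.obs_of_extends (c : Coords G H i)
    (hext : ∀ (V : Type u) [AddCommGroup V] [Module k V] [Module.Finite k V] (σ : VecGrp.GMod H V), σ.ExtendsAlong i) :
    AGF.IsObservableIn k i := by
  refine c.obs_iff.2 (obs_of_criterion c.π c.surj fun χ hχ _ => ?_)
  obtain ⟨y, hy, hinv⟩ := exists_groupLike_inv (k := k) hχ
  letI := lineComod (k := k) hy
  obtain ⟨W, _, _, _, ρ, φ, hinj, heq⟩ := hext k (ofComod c.e' k)
  letI cW : HopfRep.Comod k c.C W := toComod c.e ρ
  have hw : φ 1 ≠ 0 := fun h => one_ne_zero (hinj (h.trans (map_zero φ).symm))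
  have hpw : ∀ ψ : WithConv (c.D →ₐ[k] k), RedLR.ptAct W (resPt c.π ψ) (φ 1) = ψ.ofConv y • φ 1 := by
    intro ψ
    have hlid : ∀ t : k ⊗[k] k, TensorProduct.lid k W (φ.baseChange k t) = φ (TensorProduct.lid k k t) := by
      intro t
      induction t using TensorProduct.induction_on with
      | zero => simp
      | add x y hx hy => simp only [map_add, hx, hy]
      | tmul a d => rw [LinearMap.baseChange_tmul, TensorProduct.lid_tmul, TensorProduct.lid_tmul, map_smul]
    have h := congrArg (TensorProduct.lid k W) (heq k (pnt c.e' ψ.ofConv) ((1 : k) ⊗ₜ[k] (1 : k)))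
    rw [hlid, lid_ofComod, LinearMap.baseChange_tmul, c.comp] at h
    refine ((ptAct_toComod c.e ρ (ψ.ofConv.comp (c.π : c.C →ₐ[k] c.D)) (φ 1)).trans h.symm).trans ?_
    rw [← map_smul, RedLR.ptAct_eq_act]
    congr 1
  obtain ⟨l, hl⟩ := Module.Projective.exists_dual_ne_zero k hw
  refine ⟨cf l (φ 1), cf_ne_zero hl, fun ψ => ?_⟩
  rw [rt_cf, hpw, show cf (C := c.C) l (ψ.ofConv y • φ 1) = ψ.ofConv y • cf (C := c.C) l (φ 1) from map_smul (cfL l) _ _,
    smul_smul, hinv, one_smul]

theorem extendsAlong_trans {K : Over (Spec (CommRingCat.of k))} [GrpObj K] {j : K ⟶ H} [IsMonHom j]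
    (hG : ∀ (V : Type u) [AddCommGroup V] [Module k V] [Module.Finite k V] (σ : VecGrp.GMod H V), σ.ExtendsAlong i)
    {V : Type u} [AddCommGroup V] [Module k V] {σ : VecGrp.GMod K V} (h : σ.ExtendsAlong j) :
    σ.ExtendsAlong (j ≫ i) := by
  obtain ⟨W, _, _, _, ρ, φ, hφ, heq⟩ := h
  obtain ⟨W', i1, i2, i3, ρ', φ', hφ', heq'⟩ := hG W ρ
  refine ⟨W', i1, i2, i3, ρ', φ' ∘ₗ φ, hφ'.comp hφ, fun B _ _ h x => ?_⟩
  rw [LinearMap.baseChange_comp, LinearMap.comp_apply, LinearMap.comp_apply, heq B h x, heq', Category.assoc]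

/-- An open subgroup scheme is closed. -/
theorem isClosedImmersion_of_isOpenImmersion [IsAffine G.left] [Smooth G.hom] [IsOpenImmersion i.left] :
    IsClosedImmersion i.left := by
  haveI : IsLocallyNoetherian G.left := LocallyOfFiniteType.isLocallyNoetherian G.hom
  haveI : Smooth H.hom := by rw [← Over.w i]; infer_instance
  haveI : CompactSpace G.left := inferInstance
  haveI : TopologicalSpace.NoetherianSpace G.left := by
    haveI : AlgebraicGeometry.IsNoetherian G.left := {}
    infer_instance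
  haveI : QuasiCompact i.left := inferInstance
  haveI : Nonempty (Spec (CommRingCat.of k)) := ⟨IsLocalRing.closedPoint k⟩
  exact IsClosedImmersion.of_isPreimmersion _ (GrpField.isClosed_range i)

/-- An open subgroup is cut out by an idempotent. -/
theorem Coords.exists_idem (c : Coords G H i) [IsOpenImmersion i.left] :
    ∃ ε : c.C, ε * ε = ε ∧ ∀ g, g.ofConv ε = 1 ↔ g ∈ SG c.π := by
  let π' : c.C →ₐ[k] c.D := c.π
  haveI : IsIso c.e'.hom.left := inferInstanceAs (IsIso ((Over.forget _).map c.e'.hom))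
  haveI : IsIso c.e.inv.left := inferInstanceAs (IsIso ((Over.forget _).map c.e.inv))
  have h := c.comp c.D (AlgHom.id k c.D)
  rw [AlgHom.id_comp] at h
  have h2 : Spec.map (CommRingCat.ofHom π'.toRingHom) = c.e'.hom.left ≫ i.left ≫ c.e.inv.left := by
    have h3 := congrArg (fun t => (t ≫ c.e.inv).left) h
    simp only [pnt, Category.assoc, c.e.hom_inv_id, Category.comp_id] at h3
    refine h3.symm.trans ?_
    show (Spec.map (CommRingCat.ofHom (AlgHom.id k c.D).toRingHom) ≫ c.e'.hom.left ≫ i.left ≫ c.e.inv.left) = _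
    rw [show CommRingCat.ofHom (AlgHom.id k c.D).toRingHom = 𝟙 _ from rfl, Spec.map_id, Category.id_comp]
  haveI : IsOpenImmersion (Spec.map (CommRingCat.ofHom π'.toRingHom)) := by rw [h2]; infer_instance
  have hflatS : Flat (Spec.map (CommRingCat.ofHom π'.toRingHom)) := inferInstance
  have hflat : π'.toRingHom.Flat := (HasRingHomProperty.Spec_iff (P := @Flat)).1 hflatS
  haveI : IsNoetherianRing c.C := Algebra.FiniteType.isNoetherianRing k c.C
  let I : Ideal c.C := RingHom.ker π'
  haveI : I.Pure := by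
    letI := π'.toRingHom.toAlgebra
    haveI : Module.Flat c.C c.D := hflat
    let e := Ideal.quotientKerAlgEquivOfSurjective (f := Algebra.ofId c.C c.D) c.surj
    exact Module.Flat.of_linearEquiv e.toLinearEquiv
  obtain ⟨e0, he0, hI⟩ := (Ideal.isIdempotentElem_iff_of_fg I (IsNoetherian.noetherian I)).1 I.isIdempotentElem_of_pure
  refine ⟨1 - e0, he0.one_sub, fun g => ?_⟩
  rw [map_sub, map_one, sub_eq_self]
  constructor
  · intro h0
    let e2 := Ideal.quotientKerAlgEquivOfSurjective c.surj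
    let L := Ideal.Quotient.liftₐ (RingHom.ker π') g.ofConv fun a ha => by
      have ha' : a ∈ I := ha
      rw [hI, Ideal.mem_span_singleton'] at ha'
      obtain ⟨r, rfl⟩ := ha'
      rw [map_mul, h0, mul_zero]
    refine ⟨toConv (L.comp e2.symm.toAlgHom), WithConv.ext (AlgHom.ext fun a => ?_)⟩
    show L (e2.symm (π' a)) = g.ofConv a
    rw [show π' a = e2 (Ideal.Quotient.mk _ a) from rfl, AlgEquiv.symm_apply_apply]
    rfl
  · rintro ⟨ψ, rfl⟩
    have h0 : π' e0 = 0 := (hI ▸ Ideal.mem_span_singleton_self e0 : e0 ∈ I)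
    show ψ.ofConv (π' e0) = 0
    rw [h0, map_zero]

/-- An open subgroup is observable. -/
theorem Coords.obs_open (c : Coords G H i) [IsOpenImmersion i.left] : AGF.IsObservableIn k i := by
  obtain ⟨ε, hε, hmem⟩ := c.exists_idem
  have h01 : ∀ g : WithConv (c.C →ₐ[k] k), g.ofConv ε = 0 ∨ g.ofConv ε = 1 := fun g => by
    have h : g.ofConv ε * g.ofConv ε = g.ofConv ε := by rw [← map_mul, hε]
    rcases eq_or_ne (g.ofConv ε) 0 with h0 | h0
    · exact Or.inl h0
    · exact Or.inr (mul_left_cancel₀ h0 (h.trans (_root_.mul_one _).symm))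
  refine c.obs_iff.2 fun g hg => (hmem g).1 ?_
  have hεinv : ε ∈ Inv (SG c.π) := fun h hh => ext_pt (k := k) fun x => by
    rw [apply_rt]
    have hiff : x * h ∈ SG c.π ↔ x ∈ SG c.π := Subgroup.mul_mem_cancel_right _ hh
    rcases h01 x with hx | hx <;> rcases h01 (x * h) with hxh | hxh <;> rw [hx, hxh]
    · exact absurd ((hmem x).2 (hiff.1 ((hmem _).1 hxh))) (by rw [hx]; exact zero_ne_one)
    · exact absurd ((hmem _).2 (hiff.2 ((hmem x).1 hx))) (by rw [hxh]; exact zero_ne_one)
  have h1 := congrArg (1 : WithConv (c.C →ₐ[k] k)).ofConv (hg ε hεinv)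
  rw [apply_rt, _root_.one_mul] at h1
  rw [h1]
  exact (hmem 1).2 (Subgroup.one_mem _)

/-- The rational points of a group as points of the coordinate ring of another one. -/
def ptsHom {C : Type u} [CommRing C] [HopfAlgebra k C] (e : (Spec (CommRingCat.of C)).asOver (Spec (CommRingCat.of k)) ≅ G)
    [IsMonHom e.hom] (f : H ⟶ G) [IsMonHom f] : (VecGrp.pt k k ⟶ H) →* WithConv (C →ₐ[k] k) :=
  (algOf e).comp
    ({ toFun := fun h => h ≫ f, map_one' := MonObj.one_comp f, map_mul' := fun x y => MonObj.mul_comp x y f } :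
      (VecGrp.pt k k ⟶ H) →* (VecGrp.pt k k ⟶ G))

omit [IsAlgClosed k] in
theorem algOf_apply {C : Type u} [CommRing C] [HopfAlgebra k C] (e : (Spec (CommRingCat.of C)).asOver (Spec (CommRingCat.of k)) ≅ G)
    [IsMonHom e.hom] (φ : WithConv (C →ₐ[k] k)) : algOf e (pnt e φ.ofConv) = φ :=
  WithConv.ext (algOf_pnt e _)

theorem Coords.range_ptsHom (c : Coords G H i) : (ptsHom c.e i).range = SG c.π := by
  ext g
  constructor
  · rintro ⟨h, rfl⟩
    exact (c.exists_lift_iff _).1 ⟨h, (pnt_algOf c.e _).symm⟩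
  · intro hg
    obtain ⟨h, hh⟩ := (c.exists_lift_iff g.ofConv).2 hg
    exact ⟨h, by show algOf c.e (h ≫ i) = g; rw [hh, algOf_apply]⟩

/-- Observability passes to supergroups in which the subgroup is open. -/
theorem obs_of_open_subgroup {K : Over (Spec (CommRingCat.of k))} [GrpObj K] {a : K ⟶ H} [IsMonHom a]
    [IsOpenImmersion a.left] (c : Coords G H i) (ca : Coords H K a)
    (hK : AGF.IsObservableIn k (a ≫ i)) : AGF.IsObservableIn k i := by
  classical
  obtain ⟨ε, hε, hmem⟩ := ca.exists_idem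
  let φH := ptsHom c.e i
  let φK := ptsHom c.e (a ≫ i)
  have hobs : Obs φK.range := by
    intro g hg
    obtain ⟨h, hh⟩ := hK (pnt c.e g.ofConv) fun f hf => by
      rw [rTransInv_pt_iff, act_eq_rt, toConv_ofConv]
      refine hg _ ?_
      rintro _ ⟨x, rfl⟩
      have h1 := (rTransInv_hom_iff c.e ca.e' (a ≫ i) f).1 hf x
      rw [← pnt_algOf c.e (x ≫ a ≫ i), rTransInv_pt_iff, act_eq_rt, toConv_ofConv] at h1
      exact h1
    exact ⟨h, by show algOf c.e (h ≫ a ≫ i) = g; rw [hh, algOf_apply]⟩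
  have hle : φK.range ≤ φH.range := by
    rintro _ ⟨x, rfl⟩
    exact ⟨x ≫ a, by show algOf c.e ((x ≫ a) ≫ i) = algOf c.e (x ≫ a ≫ i); rw [Category.assoc]⟩
  haveI : IsNoetherianRing ca.C := Algebra.FiniteType.isNoetherianRing k ca.C
  have hfinI : {u : ca.C | u * u = u}.Finite := by
    refine Set.Finite.of_finite_image (f := fun u => {p | p ∈ minimalPrimes ca.C ∧ u ∈ p})
      ((minimalPrimes.finite_of_isNoetherianRing ca.C).powerset.subset ?_) ?_
    · rintro _ ⟨u, -, rfl⟩ p hp
      exact hp.1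
    · intro u hu v hv hEq
      refine sub_eq_zero.1 (nilpotent_iff_mem_prime.2 fun P hP => ?_).eq_zero
      haveI := hP
      obtain ⟨p, hp, hle⟩ := Ideal.exists_minimalPrimes_le (I := (⊥ : Ideal ca.C)) (J := P) bot_le
      haveI := hp.1.1
      refine hle ?_
      have hiff : u ∈ p ↔ v ∈ p := ⟨fun h => ((Set.ext_iff.1 hEq p).1 ⟨hp, h⟩).2, fun h => ((Set.ext_iff.1 hEq p).2 ⟨hp, h⟩).2⟩
      by_cases h : u ∈ p
      · exact p.sub_mem h (hiff.1 h)
      · have h1 : ∀ w : ca.C, w * w = w → w ∉ p → 1 - w ∈ p := fun w hw hwp =>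
          (hp.1.1.mem_or_mem (show w * (1 - w) ∈ p by rw [mul_sub, _root_.mul_one, hw, sub_self]; exact p.zero_mem)).resolve_left hwp
        have h2 := p.sub_mem (h1 v hv fun hv' => h (hiff.2 hv')) (h1 u hu h)
        rwa [sub_sub_sub_cancel_left] at h2
  have hfin : ∀ F ∈ Inv φK.range, ((fun h => rt h F) '' (φH.range : Set (WithConv (c.C →ₐ[k] k)))).Finite := by
    intro F hF
    let G1 : WithConv (ca.C →ₐ[k] k) → c.C := fun h => rt (φH (pnt ca.e h.ofConv)) F
    let I1 : WithConv (ca.C →ₐ[k] k) → ca.C := fun h => lt h⁻¹ ε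
    have hfact : ∀ h h', I1 h = I1 h' → G1 h = G1 h' := by
      intro h h' hI
      have h1 := congrArg h.ofConv hI
      simp only [I1, apply_lt, inv_mul_cancel] at h1
      have h2 : (h'⁻¹ * h) ∈ SG ca.π := (hmem _).1 (h1 ▸ (hmem 1).2 (Subgroup.one_mem _))
      obtain ⟨x, hx⟩ := (ca.exists_lift_iff (h'⁻¹ * h).ofConv).2 h2
      show rt (φH (pnt ca.e h.ofConv)) F = rt (φH (pnt ca.e h'.ofConv)) F
      have h3 : pnt ca.e h.ofConv = pnt ca.e h'.ofConv * (x ≫ a) := by
        rw [hx, ← pnt_mul]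
        congr 1
        simp
      rw [h3, map_mul, rt_mul_apply]
      congr 1
      refine hF _ ⟨x, ?_⟩
      show algOf c.e (x ≫ a ≫ i) = algOf c.e ((x ≫ a) ≫ i)
      rw [Category.assoc]
    have hI1 : (Set.range I1).Finite := hfinI.subset (by
      rintro _ ⟨h, rfl⟩
      show lt h⁻¹ ε * lt h⁻¹ ε = lt h⁻¹ ε
      rw [← map_mul, hε])
    refine (hI1.image fun u => G1 (Function.invFun I1 u)).subset ?_
    rintro _ ⟨g, ⟨y, rfl⟩, rfl⟩
    refine ⟨I1 (algOf ca.e y), ⟨_, rfl⟩, ?_⟩
    show G1 (Function.invFun I1 (I1 (algOf ca.e y))) = _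
    rw [hfact _ _ (Function.invFun_eq ⟨_, rfl⟩)]
    show rt (φH (pnt ca.e (algOf ca.e y).ofConv)) F = rt (φH y) F
    rw [pnt_algOf]
  have hinv : HasInv (SG c.π) := by
    rw [← c.range_ptsHom]
    exact hobs.stabVec.hasInv.of_finite hle hfin
  refine c.obs_iff.2 (obs_of_criterion c.π c.surj fun χ hχ hocc => ?_)
  obtain ⟨f, hf0, hf⟩ := hocc
  let A : WithConv (c.C →ₐ[k] k) → k := fun g =>
    if hg : g ∈ SG c.π then (Classical.choose hg).ofConv χ else 0
  have hA : ∀ ψ, A (resPt c.π ψ) = ψ.ofConv χ := by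
    intro ψ
    have hmem : resPt c.π ψ ∈ SG c.π := ⟨ψ, rfl⟩
    simp only [A, dif_pos hmem]
    have hsp := Classical.choose_spec hmem
    congr 1
    refine congrArg _ (WithConv.ext (AlgHom.ext fun d => ?_))
    obtain ⟨d', rfl⟩ := c.surj d
    exact congr($(hsp).ofConv d')
  obtain ⟨g, hg0, hg⟩ := hinv.exists_inverse A hf0 (by rintro _ ⟨ψ, rfl⟩; rw [hA]; exact hf ψ)
  exact ⟨g, hg0, fun ψ => by rw [← hA]; exact hg _ ⟨ψ, rfl⟩⟩

end Groups

end Groth.Agent.GModLib
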