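import Groth.Agent.GModLib.ObsRadical
import Groth.Agent.GModLib.ObsSquare

/-!
# Observability and the radical
-/

set_option autoImplicit false
set_option linter.style.haveILetI false
set_option linter.unusedSectionVars false
set_option backward.isDefEq.respectTransparency false
set_option maxHeartbeats 1000000

universe u

open CategoryTheory CategoryTheory.Limits MonoidalCategory CartesianMonoidalCategory MonObj GrpObj AlgebraicGeometry
open TensorProduct WithConv
open Groth.Agent.Chev Groth.Agent.Chev.Borel Groth.Agent.Chev.BorelFixed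

noncomputable section

namespace Groth.Agent.GModLib

variable {k : Type u} [Field k] [IsAlgClosed k]

section Quot

variable {H R : Over (Spec (CommRingCat.of k))} [GrpObj H] [GrpObj R] [IsAffine H.left] [Smooth H.hom]
  [ConnectedSpace H.left] (r : R ⟶ H) [IsMonHom r] [IsClosedImmersion r.left] [Smooth R.hom] [ConnectedSpace R.left]

/-- A connected normal subgroup is observable. -/
theorem obs_normal (hn : AlgGrp.IsNormalHom r) : AGF.IsObservableIn k r := by
  obtain ⟨Q, _, q, hqm, hqf, hqs, hker, hsep, hQs, hQc, hQconn, hqp⟩ := exists_quotient_group' r hn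
  haveI := hqm; haveI := hqs; haveI := hQs; haveI := hQc; haveI := hsep
  haveI : IsReduced Q.left := SmoothRed.isReduced_of_smooth_scheme Q.hom
  haveI : IsAffine Q.left := Chev.isAffine_of_surjective q
  intro g hg
  have h1 : ((H ◁ g) ≫ μ[H]) ≫ q = fst H _ ≫ q := by
    refine Over.OverMorphism.ext (ext_of_isAffine ?_)
    ext f
    have hinv : AGF.IsRTransInv r (q.left.appTop f) := by
      have h2 : ((H ◁ r) ≫ μ[H]) ≫ q = fst H R ≫ q := by
        have h3 : (H ◁ r) ≫ μ[H] = fst H R * (snd H R ≫ r) := by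
          rw [Hom.mul_def]
          congr 1
        rw [h3, MonObj.mul_comp, Category.assoc, hker.w, ← Category.assoc, toUnit_unique (snd H R ≫ toUnit R) (toUnit _),
          ← Hom.one_def, _root_.mul_one]
      show ((H ◁ r) ≫ μ[H]).left.appTop _ = _
      rw [← GmPts.appTop_comp_apply, ← GmPts.appTop_comp_apply, ← Over.comp_left, ← Over.comp_left, h2]
    have h4 := hg _ hinv
    simp only [Over.comp_left, Scheme.Hom.comp_appTop, CommRingCat.comp_apply]
    exact h4
  have h5 := congrArg (fun t => lift (1 : VecGrp.pt k k ⟶ H) (𝟙 _) ≫ t) h1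
  simp only [← Category.assoc] at h5
  rw [lift_fst, lift_whiskerLeft, Category.id_comp] at h5
  rw [← Hom.mul_def, _root_.one_mul, MonObj.one_comp] at h5
  obtain ⟨l, hl, -⟩ := hker.exists_lift g (toUnit _) (h5.trans Hom.one_def)
  exact ⟨l, hl⟩

/-- The quotient by the radical has no characters. -/
theorem char_eq_one_of_max (hn : AlgGrp.IsNormalHom r) (hsol : Red.IsSolvableGrp R)
    (hmax : ∀ (P : Over (Spec (CommRingCat.of k))) [GrpObj P] (iP : P ⟶ H) [IsMonHom iP], IsClosedImmersion iP.left →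
      Smooth P.hom → ConnectedSpace P.left → AlgGrp.IsNormalHom iP → Red.IsSolvableGrp P → ∃ f : P ⟶ R, f ≫ r = iP)
    {Z : Over (Spec (CommRingCat.of k))} [GrpObj Z] [IsCommMonObj Z] (χ : H ⟶ Z) [IsMonHom χ] (hχ : r ≫ χ = 1) :
    χ = 1 := by
  obtain ⟨Q, _, q, hqm, hqf, hqs, hker, hsep, hQs, hQc, hQconn, hqp⟩ := exists_quotient_group' r hn
  haveI := hqm; haveI := hqf; haveI := hqs; haveI := hQs; haveI := hQc; haveI := hQconn; haveI := hqp; haveI := hsep
  haveI : IsReduced Q.left := SmoothRed.isReduced_of_smooth_scheme Q.hom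
  haveI : IsAffine Q.left := Chev.isAffine_of_surjective q
  haveI : QuasiCompact q.left := by
    haveI : IsAffineHom q.left := inferInstance
    infer_instance
  haveI : Mono r := GrpField.SchImg.mono_of_isClosedImmersion r
  have htriv : ∀ (N : Over (Spec (CommRingCat.of k))) [GrpObj N] (t : N ⟶ Q) [IsMonHom t], IsClosedImmersion t.left →
      Smooth N.hom → ConnectedSpace N.left → AlgGrp.IsNormalHom t → Group.IsSolvable (RP N) → Red.IsTrivialGrp N := by
    intro N _ t _ htc hNs hNc htn hNsol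
    haveI := htc; haveI := hNs; haveI := hNc; haveI := hNsol
    obtain ⟨P, _, iP, p, l', hPm, hPc, hPs, hPconn, hPn, hpm, hpf, hps, hlm, hpt, -, hlker⟩ :=
      exists_preimage_smooth r q hker t htn
    haveI := hPm; haveI := hPc; haveI := hPs; haveI := hPconn; haveI := hpm; haveI := hpf; haveI := hps; haveI := hlm
    haveI : IsAffine P.left := isAffine_of_isAffineHom iP.left
    haveI : IsAffine N.left := isAffine_of_isAffineHom t.left
    haveI : Group.IsSolvable (RP R) := isSolvable_rp hsol
    haveI := isSolvable_ext l' p hlker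
    obtain ⟨f, hf⟩ := hmax P iP hPc hPs hPconn hPn (isSolvableGrp_of_rp P)
    haveI : Mono t := GrpField.SchImg.mono_of_isClosedImmersion t
    have hp1 : p = 1 := by
      rw [← cancel_mono t, hpt, ← hf, Category.assoc, hker.w, MonObj.one_comp, ← Category.assoc,
        toUnit_unique (f ≫ toUnit R) (toUnit P), ← Hom.one_def]
    haveI : QuasiCompact p.left := by
      haveI : IsAffineHom p.left := inferInstance
      infer_instance
    haveI : LocallyOfFinitePresentation p.left := by
      haveI : IsLocallyNoetherian N.left := LocallyOfFiniteType.isLocallyNoetherian N.hom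
      haveI : LocallyOfFiniteType (p.left ≫ N.hom) := by rw [Over.w]; infer_instance
      haveI : LocallyOfFiniteType p.left := locallyOfFiniteType_of_comp p.left N.hom
      infer_instance
    haveI : Epi p := ⟨fun a b h => Over.OverMorphism.ext ((cancel_epi p.left).1 (congrArg CommaMorphism.left h))⟩
    refine isTrivialGrp_of_id_eq_one ?_
    rw [← cancel_epi p, Category.comp_id, MonObj.comp_one]
    exact hp1
  have hQss : Red.IsSemisimpleOver k Q := by
    refine ⟨⟨inferInstance, inferInstance, inferInstance, fun U _ i _ hic hUs hUc hUn hUt => ?_⟩,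
      fun T _ i _ hic hn' hT => ?_⟩
    · haveI := hic; haveI := hUs; haveI := hUc
      haveI : IsAffine U.left := isAffine_of_isAffineHom i.left
      exact htriv U i hic hUs hUc hUn (RedCent.isSolvable_of_noSubtorus hUt)
    · haveI := Chev.isCommMonObj_of_isTorus hT
      exact htriv T i hic (smooth_of_isTorus hT) (connectedSpace_of_isTorus hT) hn'
        (Group.isSolvable_of_comm fun a b => mul_comm a b)
  obtain ⟨d, hd⟩ := AdjRep.exists_desc r q hker χ hχ
  haveI : IsMonHom (q ≫ d) := by rw [hd]; infer_instance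
  haveI := isMonHom_desc q d
  rw [← hd, SSPerf.eq_one_of_comm hQss d, MonObj.comp_one]

end Quot

variable {G H R : Over (Spec (CommRingCat.of k))} [GrpObj G] [GrpObj H] [GrpObj R] [IsAffine G.left] [Smooth G.hom]
  [Smooth H.hom] [Smooth R.hom] [ConnectedSpace R.left] (i : H ⟶ G) [IsMonHom i] [IsClosedImmersion i.left]
  (r : R ⟶ H) [IsMonHom r] [IsClosedImmersion r.left]

/-- An observable group has observable radical. -/
theorem obs_radical_of_obs (hn : AlgGrp.IsNormalHom r) (hH : AGF.IsObservableIn k i) :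
    AGF.IsObservableIn k (r ≫ i) := by
  haveI : IsAffine H.left := isAffine_of_isAffineHom i.left
  obtain ⟨H₀, _, a, _, _, -, _, _⟩ := exists_open_connected H
  haveI : Mono a := Over.mono_of_mono_left a
  haveI : IsClosedImmersion a.left := isClosedImmersion_of_isOpenImmersion
  haveI : IsAffine H₀.left := isAffine_of_isAffineHom a.left
  obtain ⟨r₀, hr₀, hr₀m⟩ := UniRad.exists_factor_conn_hom a r
  haveI := hr₀m
  haveI : IsClosedImmersion r₀.left := by
    haveI : IsClosedImmersion (r₀.left ≫ a.left) := by rw [← Over.comp_left, hr₀]; infer_instance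
    exact IsClosedImmersion.of_comp r₀.left a.left
  obtain ⟨ca⟩ := exists_coords H H₀ a
  have h0 := obs_normal r₀ (UniRad.isNormalHom_of_comp r₀ a (by rw [hr₀]; exact hn))
  have h1 : AGF.IsObservableIn k r := hr₀ ▸ obs_comp a r₀ h0 ca.obs_open
  exact obs_comp i r h1 hH

/-- A group with observable radical is observable. -/
theorem obs_of_obs_radical (hn : AlgGrp.IsNormalHom r) (hsol : Red.IsSolvableGrp R)
    (hmax : ∀ (R' : Over (Spec (CommRingCat.of k))) [GrpObj R'] (r' : R' ⟶ H) [IsMonHom r'], IsClosedImmersion r'.left →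
      Smooth R'.hom → ConnectedSpace R'.left → AlgGrp.IsNormalHom r' → Red.IsSolvableGrp R' → ∃ f : R' ⟶ R, f ≫ r = r')
    (hR : AGF.IsObservableIn k (r ≫ i)) : AGF.IsObservableIn k i := by
  classical
  haveI : IsAffine H.left := isAffine_of_isAffineHom i.left
  obtain ⟨c⟩ := exists_coords G H i
  haveI : IsClosedImmersion (r ≫ i).left := by rw [Over.comp_left]; infer_instance
  obtain ⟨cR⟩ := exists_coords G R (r ≫ i)
  obtain ⟨H₀, _, a, _, _, -, _, _⟩ := exists_open_connected H
  haveI : Mono a := Over.mono_of_mono_left a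
  haveI : IsClosedImmersion a.left := isClosedImmersion_of_isOpenImmersion
  haveI : IsAffine H₀.left := isAffine_of_isAffineHom a.left
  obtain ⟨r₀, hr₀, hr₀m⟩ := UniRad.exists_factor_conn_hom a r
  haveI := hr₀m
  haveI : IsClosedImmersion r₀.left := by
    haveI : IsClosedImmersion (r₀.left ≫ a.left) := by rw [← Over.comp_left, hr₀]; infer_instance
    exact IsClosedImmersion.of_comp r₀.left a.left
  have hmax₀ : ∀ (P : Over (Spec (CommRingCat.of k))) [GrpObj P] (iP : P ⟶ H₀) [IsMonHom iP], IsClosedImmersion iP.left →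
      Smooth P.hom → ConnectedSpace P.left → AlgGrp.IsNormalHom iP → Red.IsSolvableGrp P → ∃ f : P ⟶ R, f ≫ r₀ = iP := by
    intro P _ iP _ h1 h2 h3 h4 h5
    obtain ⟨V, _, v, hvm, hvc, hvs, hvconn, hvn, hvsol, hV⟩ := exists_radical a
    haveI := hvm
    obtain ⟨f, hf⟩ := hV P iP h1 h2 h3 h4 h5
    obtain ⟨g, hg⟩ := hmax V v hvc hvs hvconn hvn hvsol
    exact ⟨f ≫ g, (cancel_mono a).1 (by rw [Category.assoc, Category.assoc, hr₀, hg, hf])⟩
  obtain ⟨ca⟩ := exists_coords H H₀ a
  let φH := ptsHom c.e i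
  let φR := ptsHom c.e (r ≫ i)
  have hobsR : Obs φR.range := by
    intro g hg
    obtain ⟨h, hh⟩ := hR (pnt c.e g.ofConv) fun f hf => by
      rw [rTransInv_pt_iff, act_eq_rt, toConv_ofConv]
      refine hg _ ?_
      rintro _ ⟨x, rfl⟩
      have h1 := (rTransInv_hom_iff c.e cR.e' (r ≫ i) f).1 hf x
      rw [← pnt_algOf c.e (x ≫ r ≫ i), rTransInv_pt_iff, act_eq_rt, toConv_ofConv] at h1
      exact h1
    exact ⟨h, by show algOf c.e (h ≫ r ≫ i) = g; rw [hh, algOf_apply]⟩
  refine c.obs_iff.2 (obs_of_criterion c.π c.surj fun x hx hocc => ?_)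
  obtain ⟨f, hf0, hf⟩ := hocc
  obtain ⟨χ, hχm, hval⟩ := exists_char c.e' hx
  let a' : WithConv (c.C →ₐ[k] k) → k := fun g =>
    if hg : ∃ z, φR z = g then VecGrp.chiVal χ (Classical.choose hg ≫ r) else 0
  have hRH : ∀ z : VecGrp.pt k k ⟶ R, φR z = φH (z ≫ r) := fun z => by
    show algOf c.e (z ≫ r ≫ i) = algOf c.e ((z ≫ r) ≫ i)
    rw [Category.assoc]
  have hφR : Function.Injective φR := fun z z' h => by
    haveI : Mono (r ≫ i) := GrpField.SchImg.mono_of_isClosedImmersion (r ≫ i)
    refine (cancel_mono (r ≫ i)).1 ?_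
    rw [← pnt_algOf c.e (z ≫ r ≫ i), ← pnt_algOf c.e (z' ≫ r ≫ i)]
    exact congrArg (fun t : WithConv (c.C →ₐ[k] k) => pnt c.e t.ofConv) h
  have ha' : ∀ z, a' (φR z) = VecGrp.chiVal χ (z ≫ r) := fun z => by
    have hex : ∃ z', φR z' = φR z := ⟨z, rfl⟩
    simp only [a', dif_pos hex]
    rw [hφR (Classical.choose_spec hex)]
  have hpt : ∀ ψ : WithConv (c.D →ₐ[k] k), φH (pnt c.e' ψ.ofConv) = resPt c.π ψ := fun ψ => by
    show algOf c.e (pnt c.e' ψ.ofConv ≫ i) = _
    rw [c.comp]
    exact WithConv.ext (algOf_pnt c.e _)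
  have hfR : ∀ z, rt (φR z) f = a' (φR z) • f := fun z => by
    obtain ⟨ψ, hψ⟩ := exists_eq_pnt c.e' (z ≫ r)
    have h1 : φR z = φH (z ≫ r) := hRH z
    rw [ha', h1, ← hψ, hval, hpt (toConv ψ)]
    exact hf (toConv ψ)
  obtain ⟨g, hg0, hg⟩ := hobsR.stabVec.hasInv.exists_inverse a' hf0 (by rintro _ ⟨z, rfl⟩; exact hfR z)
  -- the translates of `g` under the subgroup
  let E : Submodule k c.C := Submodule.span k (Set.range fun x : VecGrp.pt k k ⟶ H => rt (φH x) g)
  haveI : Module.Finite k E := by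
    obtain ⟨S, hS⟩ := TensorProduct.exists_finset (CoalgebraStruct.comul (R := k) g)
    refine Submodule.finiteDimensional_of_le (S₂ := Submodule.span k ((S.image Prod.fst : Finset c.C) : Set c.C)) ?_
    rw [Submodule.span_le]
    rintro _ ⟨x, rfl⟩
    show rt (φH x) g ∈ _
    rw [← toConv_ofConv (φH x), ← act_eq_rt]
    show TensorProduct.rid k c.C ((φH x).ofConv.toLinearMap.lTensor c.C (CoalgebraStruct.comul (R := k) g)) ∈ _
    rw [hS]
    simp only [map_sum, LinearMap.lTensor_tmul, TensorProduct.rid_tmul]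
    exact Submodule.sum_mem _ fun p hp => Submodule.smul_mem _ _
      (Submodule.subset_span (Finset.mem_coe.2 (Finset.mem_image_of_mem _ hp)))
  have hEst : ∀ x, ∀ w ∈ E, rt (φH x) w ∈ E := by
    intro x w hw
    induction hw using Submodule.span_induction with
    | mem y hy =>
      obtain ⟨x', rfl⟩ := hy
      exact Submodule.subset_span ⟨x * x', by show rt (φH (x * x')) g = _; rw [map_mul, rt_mul_apply]⟩
    | zero => rw [map_zero]; exact E.zero_mem
    | add u v _ _ hu hv => rw [map_add]; exact E.add_mem hu hv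
    | smul t u _ hu => rw [map_smul]; exact E.smul_mem t hu
  have hgE : g ∈ E := Submodule.subset_span ⟨1, by show rt (φH 1) g = g; rw [map_one, rt_one_apply]⟩
  have hchim : ∀ u v : VecGrp.pt k k ⟶ H, VecGrp.chiVal χ (u * v) = VecGrp.chiVal χ u * VecGrp.chiVal χ v := fun u v => by
    unfold VecGrp.chiVal
    rw [MonObj.mul_comp, GmPts.gmFn_mul, map_mul]
  have hchi1 : VecGrp.chiVal χ (1 : VecGrp.pt k k ⟶ H) = 1 := by
    unfold VecGrp.chiVal
    rw [MonObj.one_comp, GmPts.gmFn_one, map_one]
  have hchi0 : ∀ u : VecGrp.pt k k ⟶ H, VecGrp.chiVal χ u ≠ 0 := fun u h => one_ne_zero (α := k) (by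
    rw [← hchi1, ← inv_mul_cancel u, hchim, h, mul_zero])
  have hER : ∀ z, ∀ w ∈ E, VecGrp.chiVal χ (z ≫ r) • rt (φR z) w = w := by
    intro z w hw
    induction hw using Submodule.span_induction with
    | mem y hy =>
      obtain ⟨x, rfl⟩ := hy
      obtain ⟨z', hz'⟩ := hn _ x⁻¹ z
      rw [_root_.inv_inv] at hz'
      have h1 : φR z * φH x = φH x * φR z' := by
        rw [hRH, hRH, ← map_mul, ← map_mul, ← hz']
        congr 1
        group
      have h2 : VecGrp.chiVal χ (z ≫ r) = VecGrp.chiVal χ (z' ≫ r) := by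
        rw [← hz', hchim, hchim, mul_right_comm, ← hchim, inv_mul_cancel, hchi1, _root_.one_mul]
      show _ • rt (φR z) (rt (φH x) g) = rt (φH x) g
      rw [← rt_mul_apply, h1, rt_mul_apply, ← map_smul, h2, ← ha', hg _ ⟨z', rfl⟩]
    | zero => simp
    | add u v _ _ hu hv => rw [map_add, smul_add, hu, hv]
    | smul t u _ hu => rw [map_smul, smul_comm, hu]
  let m := Module.finrank k E
  let b := Module.finBasis k E
  have hm : 0 < m := Module.finrank_pos_iff_exists_ne_zero.2 ⟨⟨g, hgE⟩, fun h => hg0 (congrArg Subtype.val h)⟩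
  -- points separating the basis
  obtain ⟨p, hp⟩ : ∃ p : Fin m → WithConv (c.C →ₐ[k] k),
      (Matrix.of fun j l => (p j).ofConv (b l : c.C)).det ≠ 0 := by
    let ev : WithConv (c.C →ₐ[k] k) → Fin m → k := fun x l => x.ofConv (b l : c.C)
    have hspan : Submodule.span k (Set.range ev) = ⊤ := by
      by_contra h
      obtain ⟨L, hL0, hL⟩ := Submodule.exists_le_ker_of_lt_top _ (lt_top_iff_ne_top.2 h)
      have hsum : ∑ l, L (Pi.single l 1) • (b l : c.C) = 0 := ext_pt (k := k) fun x => by
        rw [map_zero, map_sum]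
        have h1 : L (ev x) = 0 := hL (Submodule.subset_span ⟨x, rfl⟩)
        rw [pi_eq_sum_univ' (ev x), map_sum] at h1
        simp only [map_smul, smul_eq_mul] at h1
        rw [← h1]
        exact Finset.sum_congr rfl fun l _ => by rw [map_smul, smul_eq_mul, mul_comm]
      have hzero : ∀ l, L (Pi.single l 1) = 0 := by
        have hli := b.linearIndependent.map' E.subtype (Submodule.ker_subtype E)
        exact Fintype.linearIndependent_iff.1 hli _ hsum
      refine hL0 (LinearMap.pi_ext' fun l => LinearMap.ext_ring ?_)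
      simpa using hzero l
    obtain ⟨s, hs, hspan', hli⟩ := exists_linearIndependent k (Set.range ev)
    rw [hspan] at hspan'
    let B := Module.Basis.mk hli (by rw [Subtype.range_coe]; exact hspan'.ge)
    haveI : Finite s := Module.Finite.finite_basis B
    haveI := Fintype.ofFinite s
    have hcard : Fintype.card s = m := by
      rw [← Module.finrank_eq_card_basis B, Module.finrank_fin_fun]
    let e := (Fintype.equivFinOfCardEq hcard).symm
    choose p hp using fun j : Fin m => hs (e j).2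
    refine ⟨p, fun hdet => ?_⟩
    have hli2 : LinearIndependent k (Matrix.of fun j l => (p j).ofConv (b l : c.C)).row := by
      have : (Matrix.of fun j l => (p j).ofConv (b l : c.C)).row = fun j => ((e j : s) : Fin m → k) := by
        funext j
        exact hp j
      rw [this]
      exact hli.comp e e.injective
    exact ((Matrix.isUnit_iff_isUnit_det _).1 (Matrix.linearIndependent_rows_iff_isUnit.1 hli2)).ne_zero hdet
  -- the action matrix on E
  choose L hL using fun j => LinearMap.exists_extend (b.coord j)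
  have hL' : ∀ j (w : E), L j (w : c.C) = b.repr w j := fun j w => LinearMap.congr_fun (hL j) w
  let M : Matrix (Fin m) (Fin m) c.D := Matrix.of fun j l => (c.π : c.C →ₐ[k] c.D) (cf (L j) (b l : c.C))
  have hM : ∀ ψ j l, (ψ : WithConv (c.D →ₐ[k] k)).ofConv (M j l) = L j (rt (resPt c.π ψ) (b l : c.C)) := fun ψ j l => by
    rw [← act_eq_rt, ← RedLR.ptAct_eq_act]
    exact apply_cf (L j) _ (resPt c.π ψ)
  have hdec : ∀ ψ l, rt (resPt c.π ψ) (b l : c.C) = ∑ j, (ψ : WithConv (c.D →ₐ[k] k)).ofConv (M j l) • (b j : c.C) := by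
    intro ψ l
    have hmem : rt (resPt c.π ψ) (b l : c.C) ∈ E := by
      rw [← hpt]
      exact hEst _ _ (b l).2
    have h1 := congrArg (Subtype.val : E → c.C) (b.sum_repr ⟨_, hmem⟩)
    simp only [Submodule.coe_sum, Submodule.coe_smul] at h1
    rw [← h1]
    exact Finset.sum_congr rfl fun j _ => by rw [hM, ← hL']
  have hMmul : ∀ u v : WithConv (c.D →ₐ[k] k), M.map (u * v).ofConv = M.map u.ofConv * M.map v.ofConv := by
    intro u v
    ext j l
    rw [Matrix.map_apply, hM, map_mul, rt_mul_apply, hdec v, map_sum, map_sum, Matrix.mul_apply]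
    refine Finset.sum_congr rfl fun n _ => ?_
    rw [map_smul, map_smul, Matrix.map_apply, Matrix.map_apply]
    simp only [hM, smul_eq_mul]
    exact mul_comm _ _
  have hM1 : M.map (1 : WithConv (c.D →ₐ[k] k)).ofConv = 1 := by
    ext j l
    rw [Matrix.map_apply, hM, map_one, rt_one_apply, hL', b.repr_self, Finsupp.single_apply, Matrix.one_apply]
    simp [eq_comm]
  have hdet : ∀ ψ : WithConv (c.D →ₐ[k] k), ψ.ofConv M.det = (M.map ψ.ofConv).det := fun ψ => AlgHom.map_det _ _
  have hgl : IsGroupLikeElem k M.det := isGroupLike_of_mul (k := k)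
    (by rw [hdet, hM1, Matrix.det_one]) (fun u v => by rw [hdet, hdet, hdet, hMmul, Matrix.det_mul])
  have hxm : IsGroupLikeElem k (x ^ m) := by
    refine isGroupLike_of_mul (k := k) ?_ fun u v => ?_
    · rw [map_pow, AlgHom.convOne_apply, hx.counit_eq_one, map_one, one_pow]
    · rw [map_pow, map_pow, map_pow, ← mul_pow]
      congr 1
      show (u * v) x = _
      rw [AlgHom.convMul_apply, hx.comul_eq_tmul_self]
      simp
  obtain ⟨cη, hηm, hηval⟩ := exists_char c.e' (hgl.mul hxm)
  have hηR : r ≫ cη = 1 := by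
    haveI : IsReduced R.left := SmoothRed.isReduced_of_smooth_scheme R.hom
    refine GmPts.gmFn_injective ?_
    show Red.gmFn (r ≫ cη) = Red.gmFn (1 : R ⟶ _)
    refine (fnC_bijective cR.e').1 (ext_points (k := k) fun φ => ?_)
    show φ (chiEl cR.e' (r ≫ cη)) = φ (chiEl cR.e' 1)
    rw [← chiVal_pnt, ← chiVal_pnt]
    have h1 : VecGrp.chiVal cη (pnt cR.e' φ ≫ r) = 1 := by
      obtain ⟨ψ, hψ⟩ := exists_eq_pnt c.e' (pnt cR.e' φ ≫ r)
      rw [← hψ, hηval, map_mul, map_pow, ← hval k ψ, hψ]
      have hscal : M.map ψ = (VecGrp.chiVal χ (pnt cR.e' φ ≫ r))⁻¹ • (1 : Matrix (Fin m) (Fin m) k) := by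
        ext j l
        have h2 : rt (resPt c.π (toConv ψ)) (b l : c.C) = (VecGrp.chiVal χ (pnt cR.e' φ ≫ r))⁻¹ • (b l : c.C) := by
          rw [← hpt (toConv ψ), show pnt c.e' (toConv ψ).ofConv = pnt cR.e' φ ≫ r from hψ]
          have h3 := hER (pnt cR.e' φ) _ (b l).2
          rw [hRH] at h3
          conv_rhs => rw [← h3, inv_smul_smul₀ (hchi0 _)]
        rw [Matrix.map_apply, show ψ (M j l) = L j (rt (resPt c.π (toConv ψ)) (b l : c.C)) from hM (toConv ψ) j l, h2,
          map_smul, hL', b.repr_self, Finsupp.single_apply, Matrix.smul_apply, Matrix.one_apply]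
        simp [eq_comm]
      rw [show ψ M.det = (M.map ψ).det from AlgHom.map_det ψ M, hscal, Matrix.det_smul, Matrix.det_one, _root_.mul_one,
        Fintype.card_fin, ← mul_pow, inv_mul_cancel₀ (hchi0 _), one_pow]
    unfold VecGrp.chiVal at h1 ⊢
    rw [MonObj.comp_one, GmPts.gmFn_one, map_one, ← Category.assoc]
    exact h1
  haveI := isCommMonObj_gm (k := k)
  have hη₀ : a ≫ cη = 1 := char_eq_one_of_max r₀ (UniRad.isNormalHom_of_comp r₀ a (by rw [hr₀]; exact hn)) hsol hmax₀
    (a ≫ cη) (by rw [← Category.assoc, hr₀, hηR])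
  obtain ⟨N, hN, hpow⟩ := exists_pow_chiVal_eq_one ca cη hη₀
  let F : c.C := (Matrix.of fun j l => lt (p j) (b l : c.C)).det
  have hFrt : ∀ ψ, rt (resPt c.π ψ) F = ψ.ofConv M.det • F := fun ψ => by
    rw [AlgHom.map_det, hdet, Algebra.smul_def, RingHom.map_det, mul_comm, ← Matrix.det_mul]
    congr 1
    ext j l
    show rt (resPt c.π ψ) (lt (p j) (b l : c.C)) = _
    rw [rt_lt_comm, hdec, map_sum, Matrix.mul_apply]
    refine Finset.sum_congr rfl fun n _ => ?_
    rw [map_smul, Algebra.smul_def, mul_comm]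
    rfl
  have hF1 : (1 : WithConv (c.C →ₐ[k] k)).ofConv F ≠ 0 := by
    rw [AlgHom.map_det]
    convert hp using 2
    ext j l
    show (1 : WithConv (c.C →ₐ[k] k)).ofConv (lt (p j) (b l : c.C)) = _
    rw [apply_lt, _root_.mul_one]
    rfl
  obtain ⟨y, hy⟩ : ∃ y : WithConv (c.C →ₐ[k] k), y.ofConv f ≠ 0 := by
    by_contra h
    push Not at h
    exact hf0 (ext_pt fun y => by rw [h y, map_zero])
  refine ⟨lt y f ^ (m * N - 1) * F ^ N, fun h => ?_, fun ψ => ?_⟩
  · have h1 := congrArg (1 : WithConv (c.C →ₐ[k] k)).ofConv h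
    rw [map_zero, map_mul, map_pow, map_pow, apply_lt, _root_.mul_one] at h1
    exact mul_ne_zero (pow_ne_zero _ hy) (pow_ne_zero _ hF1) h1
  · have h1 : (ψ.ofConv M.det * ψ.ofConv x ^ m) ^ N = 1 := by
      rw [← map_pow ψ.ofConv x m, ← map_mul, ← hηval k ψ.ofConv]
      exact hpow _
    have h2 : ψ.ofConv x * ((ψ.ofConv x) ^ (m * N - 1) * (ψ.ofConv M.det) ^ N) = 1 := by
      rw [← _root_.mul_assoc, ← pow_succ', show m * N - 1 + 1 = m * N from Nat.sub_add_cancel (Nat.mul_pos hm hN),
        pow_mul, ← mul_pow, mul_comm, h1]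
    rw [map_mul, map_pow, map_pow, rt_lt_comm, hf, hFrt, map_smul, smul_pow, smul_pow, smul_mul_smul_comm, smul_smul,
      h2, one_smul]

end Groth.Agent.GModLib
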