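import Groth.Agent.GModLib.ObsSquare
import Groth.Agent.GModLib.ObsChar
import Groth.Agent.LieKolchin.Trig
import Groth.Agent.Chev.BorelCent
import Groth.Agent.Chev.Normalise
import Groth.Agent.Chev.SolvTorus
import Groth.Agent.SmNeutral.Core

/-!
# Subgroups of solvable groups are observable
-/

set_option autoImplicit false
set_option linter.style.haveILetI false
set_option backward.isDefEq.respectTransparency false

universe u

open CategoryTheory CategoryTheory.Limits MonoidalCategory CartesianMonoidalCategory MonObj GrpObj AlgebraicGeometry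
open TensorProduct WithConv

noncomputable section

namespace Groth.Agent.GModLib

variable {k : Type u} [Field k] [IsAlgClosed k]

/-- The identity component as a connected open subgroup. -/
theorem exists_open_connected (G : Over (Spec (CommRingCat.of k))) [GrpObj G] [Smooth G.hom] :
    ∃ (G₀ : Over (Spec (CommRingCat.of k))) (_ : GrpObj G₀) (j : G₀ ⟶ G), IsMonHom j ∧ IsOpenImmersion j.left ∧
      Set.range j.left = connectedComponent (η[G].left (IsLocalRing.closedPoint k)) ∧
      Smooth G₀.hom ∧ ConnectedSpace G₀.left := by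
  obtain ⟨-, G₀, gi, j, hm, ho, hr, hs, -⟩ := SmNeutral.exists_neutralComponent G
  haveI : Subsingleton (Spec (CommRingCat.of k)) := inferInstanceAs (Subsingleton (PrimeSpectrum k))
  haveI : Subsingleton (𝟙_ (Over (Spec (CommRingCat.of k)))).left := inferInstanceAs (Subsingleton (Spec (CommRingCat.of k)))
  have hN : SGA3x.neutralSet G = connectedComponent (η[G].left (IsLocalRing.closedPoint k)) := by
    have h1 : ∀ p, connectedComponentIn (G.hom.base ⁻¹' {(𝟙_ (Over (Spec (CommRingCat.of k)))).hom.base p})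
        (η[G].left.base p) = connectedComponent (η[G].left.base p) := fun p => by
      rw [show G.hom.base ⁻¹' {(𝟙_ (Over (Spec (CommRingCat.of k)))).hom.base p} = Set.univ from
        Set.eq_univ_of_forall fun x => Subsingleton.elim (α := ↥(Spec (CommRingCat.of k))) _ _]
      exact connectedComponentIn_univ _
    refine Set.Subset.antisymm (Set.iUnion_subset fun p => ?_) ?_
    · rw [h1, Subsingleton.elim (α := ↥(𝟙_ (Over (Spec (CommRingCat.of k)))).left) p (IsLocalRing.closedPoint k)]
    · refine subset_trans ?_ (Set.subset_iUnion _ (IsLocalRing.closedPoint k))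
      rw [h1]
  refine ⟨G₀, gi, j, hm, ho, hr.trans hN, hs, ?_⟩
  have h2 : _root_.IsConnected (Set.range j.left) := by rw [hr, hN]; exact isConnected_connectedComponent
  haveI : ConnectedSpace (Set.range j.left) := isConnected_iff_connectedSpace.1 h2
  exact j.left.isOpenEmbedding.isEmbedding.toHomeomorph.symm.surjective.connectedSpace
    j.left.isOpenEmbedding.isEmbedding.toHomeomorph.symm.continuous

/-- Eigenvectors of a subgroup of a trigonalizable group. -/
theorem exists_groupLike_of_eigen {C : Type u} [CommRing C] [HopfAlgebra k C] [Algebra.FiniteType k C]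
    [_root_.IsReduced C] (hT : HopfRep.IsTrigonalizable k C) {V : Type u} [AddCommGroup V] [Module k V]
    [Module.Finite k V] [HopfRep.Comod k C V] {v : V} (hv : v ≠ 0) :
    ∃ θ : C, IsGroupLikeElem k θ ∧
      ∀ (h : WithConv (C →ₐ[k] k)) (a : k), RedLR.ptAct V h v = a • v → h.ofConv θ = a := by
  classical
  obtain ⟨F, hmono, hsub, hrank⟩ := Groth.Agent.S3268.result k C hT V
  have hst : ∀ (g : WithConv (C →ₐ[k] k)) i, ∀ w ∈ F i, RedLR.ptAct V g w ∈ F i := fun g i w hw => by
    obtain ⟨t, ht⟩ := hsub i w hw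
    rw [← toConv_ofConv g, RedLR.ptAct_eq_act]
    show Comod.cR _ (HopfRep.Comod.coact (k := k) (A := C) w) ∈ F i
    rw [← ht, Comod.cR_rTensor]
    exact (Comod.cR _ t).2
  have h0 : F 0 = ⊥ := Submodule.finrank_eq_zero.1 (hrank 0 (Nat.zero_le _))
  have htop : F (Module.finrank k V) = ⊤ := Submodule.eq_top_of_finrank_eq (hrank _ le_rfl)
  have hex : ∃ i, v ∈ F i := ⟨_, htop ▸ Submodule.mem_top⟩
  obtain ⟨i, hi⟩ : ∃ i, Nat.find hex = i + 1 := by
    refine Nat.exists_eq_succ_of_ne_zero fun h => hv ?_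
    have := Nat.find_spec hex
    rwa [h, h0, Submodule.mem_bot] at this
  have hvi : v ∈ F (i + 1) := hi ▸ Nat.find_spec hex
  have hvn : v ∉ F i := Nat.find_min hex (by omega)
  have hiN : i + 1 ≤ Module.finrank k V := hi ▸ Nat.find_le (htop ▸ Submodule.mem_top)
  obtain ⟨l, hl0, hlv⟩ : ∃ l : V →ₗ[k] k, (∀ w ∈ F i, l w = 0) ∧ l v = 1 := by
    obtain ⟨f, hf, hfF⟩ := Submodule.exists_dual_map_eq_bot_of_notMem hvn inferInstance
    refine ⟨(f v)⁻¹ • f, fun w hw => ?_, by simp [inv_mul_cancel₀ hf]⟩
    have : f w ∈ (F i).map f := ⟨w, hw, rfl⟩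
    rw [hfF, Submodule.mem_bot] at this
    simp [this]
  have hspan : F (i + 1) = F i ⊔ k ∙ v := by
    refine (Submodule.eq_of_le_of_finrank_le (sup_le (hmono (Nat.le_succ i))
      ((Submodule.span_singleton_le_iff_mem _ _).2 hvi)) ?_).symm
    rw [hrank _ hiN]
    have hlt : F i < F i ⊔ k ∙ v := lt_of_le_of_ne le_sup_left fun h =>
      hvn (h ▸ (le_sup_right (a := F i)) (Submodule.mem_span_singleton_self v))
    have h1 := Submodule.finrank_lt_finrank_of_lt hlt
    rw [hrank _ (by omega)] at h1
    omega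
  have hdec : ∀ g : WithConv (C →ₐ[k] k), RedLR.ptAct V g v - l (RedLR.ptAct V g v) • v ∈ F i := by
    intro g
    have h1 : RedLR.ptAct V g v ∈ F i ⊔ k ∙ v := hspan ▸ hst g _ v hvi
    obtain ⟨w, hw, z, hz, he⟩ := Submodule.mem_sup.1 h1
    obtain ⟨a, rfl⟩ := Submodule.mem_span_singleton.1 hz
    rw [← he, map_add, map_smul, hlv, hl0 w hw, zero_add, smul_eq_mul, _root_.mul_one, add_sub_cancel_right]
    exact hw
  refine ⟨cf l v, isGroupLike_of_mul (k := k) (by rw [apply_cf, act_one_apply, hlv]) (fun x y => ?_),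
    fun h a ha => by rw [apply_cf, ha, map_smul, hlv, smul_eq_mul, _root_.mul_one]⟩
  rw [apply_cf, apply_cf, apply_cf, act_mul_apply]
  have h2 := hl0 _ (hst x _ _ (hdec y))
  rw [map_sub, map_sub, sub_eq_zero, map_smul, map_smul, smul_eq_mul] at h2
  rw [h2, mul_comm]

variable {G H : Over (Spec (CommRingCat.of k))} [GrpObj G] [GrpObj H] {i : H ⟶ G} [IsMonHom i]

/-- Connected case. -/
theorem Coords.obs_of_solvable (c : Coords G H i) [Smooth G.hom] [ConnectedSpace G.left] (hs : Red.IsSolvableGrp G) :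
    AGF.IsObservableIn k i := by
  haveI : IsDomain c.C := Chev.Borel.isDomain_of_smooth_connected c.e
  haveI : Group.IsSolvable (WithConv (c.C →ₐ[k] k)) := by
    obtain ⟨n, hn⟩ := hs
    haveI : Group.IsSolvable (VecGrp.pt k k ⟶ G) := ⟨⟨n, hn _⟩⟩
    exact Group.isSolvable_of_surjective (f := algOf c.e) (pntEquiv c.e).symm.surjective
  have hT : HopfRep.IsTrigonalizable k c.C := LieKolchin.isTrigonalizable fun e he =>
    IsIdempotentElem.iff_eq_zero_or_one.1 he
  refine c.obs_iff.2 (obs_of_vector_criterion c.π c.surj fun χ hχ hocc => ?_)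
  obtain ⟨V, _, _, _, _, v, hv0, hv⟩ := hocc
  obtain ⟨θ, hθ, hθv⟩ := exists_groupLike_of_eigen hT hv0
  obtain ⟨y, hy, hinv⟩ := exists_groupLike_inv (k := k) hθ
  refine ⟨y, hy.isUnit.ne_zero, fun ψ => ext_pt (k := k) fun x => ?_⟩
  have hm : (x * resPt c.π ψ).ofConv y = x.ofConv y * (resPt c.π ψ).ofConv y := by
    show (x * resPt c.π ψ) y = _
    rw [AlgHom.convMul_apply, hy.comul_eq_tmul_self]
    simp
  rw [map_smul, apply_rt, hm, smul_eq_mul, ← hθv (resPt c.π ψ) _ (hv ψ), mul_left_comm, hinv, _root_.mul_one]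

/-- Every closed subgroup of a solvable group is observable. -/
theorem obs_of_isSolvableGrp (G : Over (Spec (CommRingCat.of k))) [GrpObj G] [IsAffine G.left] [Smooth G.hom]
    (H : Over (Spec (CommRingCat.of k))) [GrpObj H] [Smooth H.hom] (i : H ⟶ G) [IsMonHom i]
    [IsClosedImmersion i.left] (hs : Red.IsSolvableGrp G) : AGF.IsObservableIn k i := by
  obtain ⟨G₀, _, j, _, _, hjr, _, _⟩ := exists_open_connected G
  obtain ⟨K, _, a, _, _, har, _, _⟩ := exists_open_connected H
  haveI : Mono j.left := inferInstance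
  haveI : Mono j := (Over.forget _).mono_of_mono_map (inferInstanceAs (Mono j.left))
  have hsub : Set.range (a ≫ i).left ⊆ Set.range j.left := by
    rw [hjr]
    refine (isPreconnected_range (a ≫ i).left.continuous).subset_connectedComponent ⟨η[K].left (IsLocalRing.closedPoint k), ?_⟩
    show (η[K] ≫ a ≫ i).left (IsLocalRing.closedPoint k) = _
    rw [IsMonHom.one_hom]
  obtain ⟨b, hb⟩ := Chev.exists_lift_open (a ≫ i) j hsub
  haveI : IsMonHom b := MTSplit.isMonHom_of_comp_mono b j (a ≫ i) hb
  haveI : IsClosedImmersion j.left := isClosedImmersion_of_isOpenImmersion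
  haveI : IsAffine G₀.left := isAffine_of_isAffineHom j.left
  haveI : IsAffine H.left := isAffine_of_isAffineHom i.left
  haveI : IsClosedImmersion a.left := isClosedImmersion_of_isOpenImmersion
  haveI : IsClosedImmersion b.left := by
    haveI : IsClosedImmersion (b.left ≫ j.left) := by rw [← Over.comp_left, hb, Over.comp_left]; infer_instance
    exact IsClosedImmersion.of_comp b.left j.left
  refine (obs_iff_of_open i j a b hb).2 ?_
  obtain ⟨c⟩ := exists_coords G₀ K b
  exact c.obs_of_solvable (Chev.Borel.isSolvableGrp_of_mono j hs)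

end Groth.Agent.GModLib
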