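import Groth.Agent.GModLib.RadChar
import Groth.Agent.UniRad.NonConn
import Groth.Agent.Chev.Parabolic
import Groth.Agent.GrpField.RatClosure

/-!
# The radical of a group which need not be connected
-/

set_option autoImplicit false
set_option linter.style.haveILetI false
set_option linter.unusedSectionVars false
set_option backward.isDefEq.respectTransparency false
set_option maxHeartbeats 1000000

universe u

open CategoryTheory CategoryTheory.Limits MonoidalCategory CartesianMonoidalCategory MonObj GrpObj AlgebraicGeometry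
open Groth.Agent.Chev Groth.Agent.Chev.Borel Groth.Agent.Chev.BorelFixed
open Groth.Agent.SubGen (rpt map_rpt exists_rpt)

noncomputable section

namespace Groth.Agent.GModLib

variable {k : Type u} [Field k] [IsAlgClosed k]

/-- A normal connected solvable subgroup containing all normal connected solvable subgroups of the identity
component. -/
theorem exists_radical {H H₀ : Over (Spec (CommRingCat.of k))} [GrpObj H] [GrpObj H₀] [IsAffine H.left] [Smooth H.hom]
    [ConnectedSpace H₀.left] (j : H₀ ⟶ H) [IsMonHom j] [IsOpenImmersion j.left] :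
    ∃ (R : Over (Spec (CommRingCat.of k))) (_ : GrpObj R) (r : R ⟶ H), IsMonHom r ∧ IsClosedImmersion r.left ∧
      Smooth R.hom ∧ ConnectedSpace R.left ∧ AlgGrp.IsNormalHom r ∧ Red.IsSolvableGrp R ∧
      ∀ (P : Over (Spec (CommRingCat.of k))) [GrpObj P] (iP : P ⟶ H₀) [IsMonHom iP], IsClosedImmersion iP.left →
        Smooth P.hom → ConnectedSpace P.left → AlgGrp.IsNormalHom iP → Red.IsSolvableGrp P →
        ∃ f : P ⟶ R, f ≫ r = iP ≫ j := by
  haveI := RedOpen.isClosedImmersion_openSub j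
  haveI : IsAffine H₀.left := isAffine_of_isAffineHom j.left
  haveI : Smooth H₀.hom := by rw [← Over.w j]; infer_instance
  haveI : Mono j := Over.mono_of_mono_left j
  obtain ⟨B, _, iB, hB, -⟩ := exists_borel_proper H₀
  obtain ⟨hbm, hbc, hbs, hbconn, hbsol, -⟩ := id hB
  haveI := hbm; haveI := hbc; haveI := hbs; haveI := hbconn
  haveI : IsClosedImmersion (iB ≫ j).left := inferInstanceAs (IsClosedImmersion (iB.left ≫ j.left))
  let S : Subgroup (RP H) := ⨅ g : RP H, (haveI := isMonHom_conjBy g (iB ≫ j); rpHom (AGF.conjBy g (iB ≫ j))).range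
  have hS : ∀ p : RP H, p ∈ S ↔ ∀ g : RP H, ∃ r : RP B, g * (r ≫ iB ≫ j) * g⁻¹ = p := by
    intro p
    simp only [S, Subgroup.mem_iInf, MonoidHom.mem_range]
    refine forall_congr' fun g => exists_congr fun r => ?_
    show r ≫ AGF.conjBy g (iB ≫ j) = p ↔ _
    rw [comp_conjBy, toUnit_one, Category.id_comp]
  obtain ⟨C, _, i, him, hic, hCs, hr⟩ := GrpField.RatClosure.exists_subgroup_closure (G := H) S
  haveI := him; haveI := hic; haveI := hCs
  have hCS : ∀ q : RP C, q ≫ i ∈ S := fun q => (hS _).2 fun g => by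
    haveI := isClosedImmersion_conjBy g (iB ≫ j)
    obtain ⟨r, hr'⟩ := exists_rp_lift (AGF.conjBy g (iB ≫ j)) (q ≫ i) (by
      have hq : rpt (q ≫ i) ∈ Set.range i.left := ⟨rpt q, map_rpt _ _⟩
      rw [hr] at hq
      refine (closure_minimal ?_ (AGF.conjBy g (iB ≫ j)).left.isClosedEmbedding.isClosed_range) hq
      rintro _ ⟨p, hp, rfl⟩
      obtain ⟨r, rfl⟩ := (hS p).1 hp g
      exact ⟨rpt r, by rw [map_rpt, comp_conjBy, toUnit_one, Category.id_comp]; rfl⟩)
    exact ⟨r, by rw [← hr', comp_conjBy, toUnit_one, Category.id_comp]⟩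
  obtain ⟨V, _, jv, hjm, hjo, hjc, hVconn, -⟩ := RedOpen.exists_open_connected C
  haveI := hjm; haveI := hjo; haveI := hjc; haveI := hVconn
  let v : V ⟶ H := jv ≫ i
  haveI : IsMonHom v := by dsimp [v]; infer_instance
  haveI : IsClosedImmersion v.left := inferInstanceAs (IsClosedImmersion (jv.left ≫ i.left))
  haveI : Smooth V.hom := by rw [← Over.w jv]; infer_instance
  haveI : IsReduced V.left := SmoothRed.isReduced_of_smooth_scheme V.hom
  obtain ⟨t₀⟩ : Nonempty ↥(𝟙_ (Over (Spec (CommRingCat.of k)))).left := inferInstanceAs (Nonempty (PrimeSpectrum k))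
  have hfac : ∀ {X : Over (Spec (CommRingCat.of k))} [GrpObj X] [IsReduced X.left] [LocallyOfFiniteType X.hom]
      [ConnectedSpace X.left] (f : X ⟶ H) [IsMonHom f], (∀ z : RP X, z ≫ f ∈ S) → ∃ f' : X ⟶ V, f' ≫ v = f := by
    intro X _ _ _ _ f _ hf
    obtain ⟨g, hg⟩ := exists_lift_rp f i fun z => by
      rw [hr]
      exact subset_closure ⟨z ≫ f, hf z, rfl⟩
    haveI : Mono i := GrpField.SchImg.mono_of_isClosedImmersion i
    haveI : IsMonHom g := MTSplit.isMonHom_of_comp_mono g i f hg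
    obtain ⟨f', hf', -⟩ := UniRad.exists_factor_conn_hom jv g
    exact ⟨f', by rw [← Category.assoc, hf', hg]⟩
  have hVn : AlgGrp.IsNormalHom v := by
    haveI : Smooth (H ⊗ V).hom := by
      show Smooth (pullback.fst H.hom V.hom ≫ H.hom)
      infer_instance
    haveI : IsReduced (H ⊗ V).left := SmoothRed.isReduced_of_smooth_scheme (H ⊗ V).hom
    have hconj : ∀ g : RP H, ∃ f : V ⟶ V, f ≫ v = AGF.conjBy g v := fun g => by
      haveI := isMonHom_conjBy g v
      refine hfac _ fun z => (hS _).2 fun g' => ?_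
      obtain ⟨r, hr'⟩ := (hS _).1 (hCS (z ≫ jv)) (g⁻¹ * g')
      refine ⟨r, ?_⟩
      rw [comp_conjBy, toUnit_one, Category.id_comp, ← Category.assoc z jv i, ← hr']
      group
    let F : H ⊗ V ⟶ H := fst H V * (snd H V ≫ v) * (fst H V)⁻¹
    obtain ⟨m, hm⟩ := exists_lift_rp F v fun z => by
      obtain ⟨f, hf⟩ := hconj (z ≫ fst H V)
      refine ⟨rpt ((z ≫ snd H V) ≫ f), ?_⟩
      rw [map_rpt, Category.assoc, hf, comp_conjBy, toUnit_one, Category.id_comp]
      simp only [F, MonObj.comp_mul, GrpObj.comp_inv, ← Category.assoc]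
    intro X g z
    refine ⟨lift g z ≫ m, ?_⟩
    rw [Category.assoc, hm, MonObj.comp_mul, MonObj.comp_mul, GrpObj.comp_inv, CartesianMonoidalCategory.lift_snd_assoc,
      CartesianMonoidalCategory.lift_fst]
  have hVsol : Red.IsSolvableGrp V := by
    obtain ⟨l, hl⟩ := exists_lift_rp v (iB ≫ j) fun z => by
      obtain ⟨r, hr'⟩ := (hS _).1 (hCS (z ≫ jv)) 1
      refine ⟨rpt r, ?_⟩
      rw [map_rpt, ← Category.assoc z jv i, ← hr', _root_.one_mul, inv_one, _root_.mul_one]
    haveI : Mono (iB ≫ j) := GrpField.SchImg.mono_of_isClosedImmersion (iB ≫ j)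
    haveI : Mono v := GrpField.SchImg.mono_of_isClosedImmersion v
    haveI : IsMonHom l := MTSplit.isMonHom_of_comp_mono l (iB ≫ j) v hl
    haveI : Mono (l ≫ iB ≫ j) := by rw [hl]; infer_instance
    haveI : Mono l := mono_of_mono l (iB ≫ j)
    exact isSolvableGrp_of_mono l hbsol
  refine ⟨V, inferInstance, v, inferInstance, inferInstance, inferInstance, inferInstance, hVn, hVsol,
    fun P _ iP _ hPc hPs hPconn hPn hPsol => ?_⟩
  haveI := hPc; haveI := hPs; haveI := hPconn
  haveI : IsReduced P.left := SmoothRed.isReduced_of_smooth_scheme P.hom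
  haveI : IsAffine P.left := isAffine_of_isAffineHom iP.left
  haveI : Group.IsSolvable (RP P) := isSolvable_rp hPsol
  refine hfac (iP ≫ j) fun z => (hS _).2 fun g => ?_
  haveI := isMonHom_conjBy g⁻¹ (iP ≫ j)
  haveI := isMonHom_conjBy g j
  obtain ⟨u', hu', hu'm⟩ := UniRad.exists_factor_conn_hom j (AGF.conjBy g⁻¹ (iP ≫ j))
  obtain ⟨n, hn, -⟩ := UniRad.exists_factor_conn_hom j (AGF.conjBy g j)
  haveI := hu'm
  have hnorm : AlgGrp.IsNormalHom u' := by
    intro X h m
    obtain ⟨m', hm'⟩ := hPn X (h ≫ n) m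
    refine ⟨m', (cancel_mono j).1 ?_⟩
    have h1 : (h ≫ n) ≫ j = (toUnit X ≫ g) * (h ≫ j) * (toUnit X ≫ g)⁻¹ := by
      rw [Category.assoc, hn, comp_conjBy]
    have h2 := congrArg (fun e => e ≫ j) hm'
    simp only [MonObj.mul_comp, GrpObj.inv_comp, h1] at h2
    simp only [MonObj.mul_comp, GrpObj.inv_comp]
    rw [Category.assoc, Category.assoc, hu', comp_conjBy, comp_conjBy, GrpObj.comp_inv, _root_.inv_inv, ← Category.assoc m',
      ← h2, ← Category.assoc m]
    group
  obtain ⟨f, hf⟩ := RedCent.exists_le_borel_of_normal iB hB u' hnorm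
  refine ⟨z ≫ f, ?_⟩
  have h3 : (z ≫ f) ≫ iB ≫ j = g⁻¹ * (z ≫ iP ≫ j) * g := by
    rw [Category.assoc, reassoc_of% hf, hu', comp_conjBy, toUnit_one, Category.id_comp, _root_.inv_inv]
  rw [h3]
  group

/-- The identity component of a group with unipotent radical has no characters. -/
theorem char_eq_one_of_open {H H₀ : Over (Spec (CommRingCat.of k))} [GrpObj H] [GrpObj H₀] [IsAffine H.left] [Smooth H.hom]
    [ConnectedSpace H₀.left] (j : H₀ ⟶ H) [IsMonHom j] [IsOpenImmersion j.left]
    (hrad : ∀ (R : Over (Spec (CommRingCat.of k))) [GrpObj R] (r : R ⟶ H) [IsMonHom r], IsClosedImmersion r.left →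
      Smooth R.hom → ConnectedSpace R.left → AlgGrp.IsNormalHom r → Red.IsSolvableGrp R → Red.HasNoSubtorus k R)
    {Z : Over (Spec (CommRingCat.of k))} [GrpObj Z] [IsCommMonObj Z] (hZ : Red.IsTorus Z)
    (χ : H ⟶ Z) [IsMonHom χ] : j ≫ χ = 1 := by
  obtain ⟨R, _, r, hrm, hrc, hrs, hrconn, hrn, hrsol, hmax⟩ := exists_radical j
  haveI := hrm; haveI := hrc
  have hR := hrad R r hrc hrs hrconn hrn hrsol
  haveI := RedOpen.isClosedImmersion_openSub j
  haveI : IsAffine H₀.left := isAffine_of_isAffineHom j.left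
  haveI : Smooth H₀.hom := by rw [← Over.w j]; infer_instance
  refine char_eq_one_of_radical (fun P _ iP _ hPc hPs hPconn hPn hPsol => ?_) hZ (j ≫ χ)
  haveI := hPc
  obtain ⟨f, hf⟩ := hmax P iP hPc hPs hPconn hPn hPsol
  haveI : Mono r := GrpField.SchImg.mono_of_isClosedImmersion r
  haveI : Mono iP := GrpField.SchImg.mono_of_isClosedImmersion iP
  haveI : Mono j := Over.mono_of_mono_left j
  haveI : IsMonHom f := MTSplit.isMonHom_of_comp_mono f r (iP ≫ j) hf
  haveI : Mono (f ≫ r) := by rw [hf]; infer_instance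
  haveI : Mono f := mono_of_mono f r
  intro T _ t _ _ hT
  exact hR T (t ≫ f) hT

end Groth.Agent.GModLib
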