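import Groth.Agent.GModLib.ObsChar
import Groth.Agent.GModLib.Radical
import Groth.Agent.GModLib.ObsSolv

/-!
# Groups with unipotent radical are observable
-/

set_option autoImplicit false
set_option linter.style.haveILetI false
set_option backward.isDefEq.respectTransparency false
set_option maxHeartbeats 1000000

universe u

open CategoryTheory CategoryTheory.Limits MonoidalCategory CartesianMonoidalCategory MonObj GrpObj AlgebraicGeometry
open TensorProduct WithConv

noncomputable section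

namespace Groth.Agent.GModLib

variable {k : Type u} [Field k] [IsAlgClosed k]

/-- A character trivial on an open subgroup takes finitely many values, hence has finite order on points. -/
theorem exists_pow_chiVal_eq_one {H K : Over (Spec (CommRingCat.of k))} [GrpObj H] [GrpObj K] {a : K ⟶ H} [IsMonHom a]
    [IsOpenImmersion a.left] (ca : Coords H K a) (χ : H ⟶ Red.Gm (Spec (CommRingCat.of k))) [IsMonHom χ]
    (hχ : a ≫ χ = 1) : ∃ n : ℕ, 0 < n ∧ ∀ g : VecGrp.pt k k ⟶ H, VecGrp.chiVal χ g ^ n = 1 := by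
  classical
  obtain ⟨ε, hε, hmem⟩ := ca.exists_idem
  haveI : IsNoetherianRing ca.C := Algebra.FiniteType.isNoetherianRing k ca.C
  have hfinI : {u : ca.C | u * u = u}.Finite := by
    refine Set.Finite.of_finite_image (f := fun u => {p | p ∈ minimalPrimes ca.C ∧ u ∈ p})
      ((minimalPrimes.finite_of_isNoetherianRing ca.C).powerset.subset ?_) ?_
    · rintro _ ⟨u, -, rfl⟩ p hp
      exact hp.1
    · intro u hu v hv hEq
      refine sub_eq_zero.1 (nilpotent_iff_mem_prime.2 fun P hP => ?_).eq_zero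
      haveI := hP
      obtain ⟨p, hp, hle⟩ := Ideal.exists_minimalPrimes_le (I := (⊥ : Ideal ca.C)) (J := P) bot_le
      haveI := hp.1.1
      refine hle ?_
      have hiff : u ∈ p ↔ v ∈ p := ⟨fun h => ((Set.ext_iff.1 hEq p).1 ⟨hp, h⟩).2, fun h => ((Set.ext_iff.1 hEq p).2 ⟨hp, h⟩).2⟩
      by_cases h : u ∈ p
      · exact p.sub_mem h (hiff.1 h)
      · have h1 : ∀ w : ca.C, w * w = w → w ∉ p → 1 - w ∈ p := fun w hw hwp =>
          (hp.1.1.mem_or_mem (show w * (1 - w) ∈ p by rw [mul_sub, _root_.mul_one, hw, sub_self]; exact p.zero_mem)).resolve_left hwp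
        have h2 := p.sub_mem (h1 v hv fun hv' => h (hiff.2 hv')) (h1 u hu h)
        rwa [sub_sub_sub_cancel_left] at h2
  let V : WithConv (ca.C →ₐ[k] k) →* k :=
    { toFun := fun h => VecGrp.chiVal χ (pnt ca.e h.ofConv)
      map_one' := by
        rw [pnt_one]
        unfold VecGrp.chiVal
        rw [MonObj.one_comp, GmPts.gmFn_one, map_one]
      map_mul' := fun x y => by
        rw [show (x * y).ofConv = (toConv x.ofConv * toConv y.ofConv).ofConv from rfl, pnt_mul]
        unfold VecGrp.chiVal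
        rw [MonObj.mul_comp, GmPts.gmFn_mul, map_mul] }
  let I1 : WithConv (ca.C →ₐ[k] k) → ca.C := fun h => lt h⁻¹ ε
  have hfact : ∀ h h', I1 h = I1 h' → V h = V h' := by
    intro h h' hI
    have h1 := congrArg h.ofConv hI
    simp only [I1, apply_lt, inv_mul_cancel] at h1
    have h2 : (h'⁻¹ * h) ∈ SG ca.π := (hmem _).1 (h1 ▸ (hmem 1).2 (Subgroup.one_mem _))
    obtain ⟨x, hx⟩ := (ca.exists_lift_iff (h'⁻¹ * h).ofConv).2 h2
    have h3 : V (h'⁻¹ * h) = 1 := by
      show VecGrp.chiVal χ (pnt ca.e (h'⁻¹ * h).ofConv) = 1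
      rw [← hx]
      unfold VecGrp.chiVal
      rw [Category.assoc, hχ, MonObj.comp_one, GmPts.gmFn_one, map_one]
    calc V h = V h' * V (h'⁻¹ * h) := by rw [← map_mul, mul_inv_cancel_left]
      _ = V h' := by rw [h3, _root_.mul_one]
  have hI1 : (Set.range I1).Finite := hfinI.subset (by
    rintro _ ⟨h, rfl⟩
    show lt h⁻¹ ε * lt h⁻¹ ε = lt h⁻¹ ε
    rw [← map_mul, hε])
  have hV : (Set.range V).Finite := (hI1.image fun u => V (Function.invFun I1 u)).subset (by
    rintro _ ⟨h, rfl⟩
    exact ⟨I1 h, ⟨_, rfl⟩, hfact _ _ (Function.invFun_eq ⟨_, rfl⟩)⟩)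
  let U := V.toHomUnits
  haveI : Finite U.range := by
    haveI := hV.to_subtype
    refine Finite.of_injective (β := Set.range V) (fun u => ⟨((u : kˣ) : k), ?_⟩) ?_
    · obtain ⟨h, hh⟩ := u.2
      exact ⟨h, by rw [← hh]; rfl⟩
    · intro u v huv
      exact Subtype.ext (Units.ext (congrArg Subtype.val huv))
  refine ⟨Nat.card U.range, Nat.card_pos, fun g => ?_⟩
  have h1 : (⟨U (algOf ca.e g), _, rfl⟩ : U.range) ^ Nat.card U.range = 1 := pow_card_eq_one'
  have h2 := congrArg (fun u : U.range => ((u : kˣ) : k)) h1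
  simp only [SubmonoidClass.coe_pow, Units.val_pow_eq_pow_val, OneMemClass.coe_one, Units.val_one] at h2
  change (VecGrp.chiVal χ (pnt ca.e (algOf ca.e g).ofConv)) ^ _ = 1 at h2
  rwa [pnt_algOf] at h2

set_option backward.isDefEq.respectTransparency true in
theorem isCommMonObj_gm : IsCommMonObj (Red.Gm (Spec (CommRingCat.of k))) :=
  Chev.isCommMonObj_of_isTorus S15607.isTorus_Gm

set_option backward.isDefEq.respectTransparency true in
/-- Characters are trivial on the identity component. -/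
theorem gm_char_eq_one {H H₀ : Over (Spec (CommRingCat.of k))} [GrpObj H] [GrpObj H₀] [IsAffine H.left] [Smooth H.hom]
    [ConnectedSpace H₀.left] (j : H₀ ⟶ H) [IsMonHom j] [IsOpenImmersion j.left]
    (hrad : ∀ (R : Over (Spec (CommRingCat.of k))) [GrpObj R] (r : R ⟶ H) [IsMonHom r], IsClosedImmersion r.left →
      Smooth R.hom → ConnectedSpace R.left → AlgGrp.IsNormalHom r → Red.IsSolvableGrp R → Red.HasNoSubtorus k R)
    (χ : H ⟶ Red.Gm (Spec (CommRingCat.of k))) [IsMonHom χ] : j ≫ χ = 1 :=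
  haveI := isCommMonObj_gm (k := k)
  char_eq_one_of_open j hrad S15607.isTorus_Gm χ

/-- A subgroup with unipotent radical is observable. -/
theorem obs_of_radical {G H : Over (Spec (CommRingCat.of k))} [GrpObj G] [GrpObj H] [IsAffine G.left] [Smooth G.hom]
    [Smooth H.hom] (i : H ⟶ G) [IsMonHom i] [IsClosedImmersion i.left]
    (hrad : ∀ (R : Over (Spec (CommRingCat.of k))) [GrpObj R] (r : R ⟶ H) [IsMonHom r], IsClosedImmersion r.left →
      Smooth R.hom → ConnectedSpace R.left → AlgGrp.IsNormalHom r → Red.IsSolvableGrp R → Red.HasNoSubtorus k R) :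
    AGF.IsObservableIn k i := by
  haveI : IsAffine H.left := isAffine_of_isAffineHom i.left
  obtain ⟨H₀, _, a, _, _, -, _, _⟩ := exists_open_connected H
  obtain ⟨c⟩ := exists_coords G H i
  haveI : IsClosedImmersion a.left := isClosedImmersion_of_isOpenImmersion
  obtain ⟨ca⟩ := exists_coords H H₀ a
  refine c.obs_iff.2 (obs_of_criterion c.π c.surj fun x hx hocc => ?_)
  obtain ⟨χ, hχ, hval⟩ := exists_char c.e' hx
  obtain ⟨n, hn, hpow⟩ := exists_pow_chiVal_eq_one ca χ (gm_char_eq_one a hrad χ)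
  obtain ⟨f, hf0, hf⟩ := hocc
  refine ⟨f ^ (n - 1), fun h => hf0 (IsNilpotent.eq_zero ⟨n - 1, h⟩), fun ψ => ?_⟩
  have h1 : ψ.ofConv x ^ n = 1 := by
    rw [← hval k ψ.ofConv]
    exact hpow _
  rw [map_pow, hf, smul_pow, smul_smul, ← pow_succ', show n - 1 + 1 = n by omega, h1, one_smul]

end Groth.Agent.GModLib
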