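import Groth.Agent.GModLib.ObsMain
import Groth.Agent.GModLib.Alg

/-!
# Reductive subgroups are observable
-/

set_option autoImplicit false
set_option linter.style.haveILetI false
set_option linter.unusedSectionVars false
set_option backward.isDefEq.respectTransparency false

universe u

open CategoryTheory CategoryTheory.Limits MonoidalCategory CartesianMonoidalCategory MonObj GrpObj AlgebraicGeometry
open TensorProduct WithConv

noncomputable section

namespace Groth.Agent.GModLib

variable {k : Type u} [Field k]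

/-- The regular representation is by algebra maps. -/
theorem isMult_regular {G : Over (Spec (CommRingCat.of k))} [GrpObj G] {C : Type u} [CommRing C] [HopfAlgebra k C]
    (e : (Spec (CommRingCat.of C)).asOver (Spec (CommRingCat.of k)) ≅ G) [IsMonHom e.hom] :
    (ofComod e C).IsMult := by
  intro B _ _ g
  obtain ⟨φ, rfl⟩ := exists_eq_pnt e g
  let F : C →ₐ[k] B ⊗[k] C := (Algebra.TensorProduct.comm k C B).toAlgHom.comp
    ((Algebra.TensorProduct.map (AlgHom.id k C) φ).comp (Bialgebra.comulAlgHom k C))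
  have hF : ∀ v : C, (ofComod e C).ρ B (pnt e φ) ((1 : B) ⊗ₜ[k] v) = F v := fun v => by
    rw [ofComod_pnt]
    show TensorProduct.comm k C B (φ.toLinearMap.lTensor C (CoalgebraStruct.comul (R := k) v)) =
      Algebra.TensorProduct.comm k C B (Algebra.TensorProduct.map (AlgHom.id k C) φ (CoalgebraStruct.comul (R := k) v))
    generalize CoalgebraStruct.comul (R := k) v = t
    induction t using TensorProduct.induction_on with
    | zero => simp
    | add x y hx hy => simp only [map_add, hx, hy]
    | tmul a d => simp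
  have hb : ∀ (b : B) (v : C), (ofComod e C).ρ B (pnt e φ) (b ⊗ₜ[k] v) = b • F v := fun b v => by
    rw [show b ⊗ₜ[k] v = b • ((1 : B) ⊗ₜ[k] v) by simp [TensorProduct.smul_tmul'], map_smul, hF]
  refine ⟨fun x y => ?_, ?_⟩
  · induction x using TensorProduct.induction_on with
    | zero => simp
    | add x x' hx hx' => rw [add_mul, map_add, map_add, hx, hx', add_mul]
    | tmul b u =>
      induction y using TensorProduct.induction_on with
      | zero => simp
      | add y y' hy hy' => rw [mul_add, map_add, map_add, hy, hy', mul_add]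
      | tmul b' v =>
        rw [Algebra.TensorProduct.tmul_mul_tmul, hb, hb, hb, map_mul, smul_mul_smul_comm]
  · rw [Algebra.TensorProduct.one_def, hF, map_one]
    rfl

variable [IsAlgClosed k]
variable {G H : Over (Spec (CommRingCat.of k))} [GrpObj G] [GrpObj H] {i : H ⟶ G} [IsMonHom i]

/-- A subspace stable under the rational points is stable. -/
theorem Coords.isStable_of_points (c : Coords G H i) (W : Submodule k c.C)
    (hW : ∀ ψ, ∀ x ∈ W, rt (resPt c.π ψ) x ∈ W) :
    (res (ofComod c.e c.C) i).IsStable (𝟙 H) W := by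
  classical
  intro B _ _ h x hx
  obtain ⟨φ, rfl⟩ := exists_eq_pnt c.e' h
  rw [Category.comp_id]
  show (ofComod c.e c.C).ρ B (pnt c.e' φ ≫ i) ((1 : B) ⊗ₜ[k] x) ∈ _
  rw [c.comp, ofComod_pnt, AlgHom.comp_toLinearMap, LinearMap.lTensor_comp_apply]
  obtain ⟨s, hs⟩ : (c.π : c.C →ₐ[k] c.D).toLinearMap.lTensor c.C (CoalgebraStruct.comul (R := k) x) ∈
      LinearMap.range (W.subtype.rTensor c.D) := by
    refine LinearMap.exact_iff.1 (rTensor_exact c.D (LinearMap.exact_subtype_mkQ W) W.mkQ_surjective) ▸ ?_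
    rw [LinearMap.mem_ker]
    let b := Module.Free.chooseBasis k (c.C ⧸ W)
    apply (TensorProduct.equivFinsuppOfBasisLeft b).injective
    ext j
    refine ext_points (k := k) fun y => ?_
    have h2 : ∀ t : c.C ⊗[k] c.D, y (TensorProduct.equivFinsuppOfBasisLeft b (W.mkQ.rTensor c.D t) j) =
        b.repr (W.mkQ (TensorProduct.rid k c.C (y.toLinearMap.lTensor c.C t))) j := by
      intro t
      induction t using TensorProduct.induction_on with
      | zero => simp
      | add x y hx hy => simp only [map_add, Finsupp.add_apply, hx, hy]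
      | tmul a d => simp [mul_comm]
    rw [h2, ← LinearMap.lTensor_comp_apply, ← AlgHom.comp_toLinearMap]
    have h3 : TensorProduct.rid k c.C ((y.comp (c.π : c.C →ₐ[k] c.D)).toLinearMap.lTensor c.C
        (CoalgebraStruct.comul (R := k) x)) = rt (resPt c.π (toConv y)) x := act_eq_rt _ x
    rw [h3, Submodule.mkQ_apply, (Submodule.Quotient.mk_eq_zero W).2 (hW _ x hx)]
    simp
  rw [show HopfRep.Comod.coact (k := k) (A := c.C) (V := c.C) x = CoalgebraStruct.comul (R := k) x from rfl, ← hs]
  clear hs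
  induction s using TensorProduct.induction_on with
  | zero => simp
  | add a b ha hb => simp only [map_add]; exact add_mem ha hb
  | tmul w d => simpa using Submodule.tmul_mem_baseChange_of_mem (φ d) w.2

/-- Subgroups with reductive identity component are observable. -/
theorem Coords.obs_of_separates (c : Coords G H i) (hH : VecGrp.IsReductiveGrp k H)
    (thm : AGF.ReductiveQuotSeparates k) : AGF.IsObservableIn k i := by
  refine c.obs_iff.2 fun g hg => ?_
  by_contra hgS
  let π : c.C →ₐ[k] c.D := c.π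
  let I1 : Ideal c.C := RingHom.ker π
  let I2 : Ideal c.C := I1.comap (lt g)
  have h1r : I1.IsRadical := fun x hx => by
    obtain ⟨n, hn⟩ := hx
    exact IsNilpotent.eq_zero (⟨n, by rw [← map_pow]; exact hn⟩ : IsNilpotent (π x))
  have hst1 : ∀ ψ, ∀ x ∈ I1, rt (resPt c.π ψ) x ∈ I1 := fun ψ x hx => by
    refine RingHom.mem_ker.2 (ext_points (k := k) fun y => ?_)
    have h1 := apply_rt (resPt c.π (toConv y)) (resPt c.π ψ) x
    rw [← map_mul] at h1
    rw [map_zero]
    exact h1.trans (show (toConv y * ψ).ofConv (π x) = 0 by rw [RingHom.mem_ker.1 hx, map_zero])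
  have hst2 : ∀ ψ, ∀ x ∈ I2, rt (resPt c.π ψ) x ∈ I2 := fun ψ x hx => by
    show lt g (rt (resPt c.π ψ) x) ∈ I1
    rw [← rt_lt_comm]
    exact hst1 ψ _ hx
  have hsup : I1 ⊔ I2 = ⊤ := by
    by_contra hne
    obtain ⟨M, hM, hle⟩ := Ideal.exists_le_maximal _ hne
    haveI := hM
    obtain ⟨χ, hχ⟩ : ∃ χ : c.C →ₐ[k] k, M ≤ RingHom.ker χ := by
      by_contra h
      push Not at h
      exact hM.ne_top ((Ideal.eq_top_iff_one _).2 (GLinChar.mem_of_forall_point k c.C fun φ hφ => absurd hφ (h φ)))
    have hin : ∀ χ : WithConv (c.C →ₐ[k] k), (∀ x ∈ I1, χ.ofConv x = 0) → χ ∈ SG c.π := fun χ h => by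
      let e2 := Ideal.quotientKerAlgEquivOfSurjective c.surj
      let L := Ideal.Quotient.liftₐ (RingHom.ker π) χ.ofConv fun a ha => h a ha
      refine ⟨toConv (L.comp e2.symm.toAlgHom), WithConv.ext (AlgHom.ext fun a => ?_)⟩
      show L (e2.symm (π a)) = χ.ofConv a
      rw [show π a = e2 (Ideal.Quotient.mk _ a) from rfl, AlgEquiv.symm_apply_apply]
      rfl
    have hχ1 : toConv χ ∈ SG c.π := hin _ fun x hx => hχ (hle (Ideal.mem_sup_left hx))
    have hχ2 : g⁻¹ * toConv χ ∈ SG c.π := hin _ fun x hx => by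
      have hmem : lt g⁻¹ x ∈ I2 := by
        show lt g (lt g⁻¹ x) ∈ I1
        rwa [lt_mul_apply, inv_mul_cancel, lt_one_apply]
      have := hχ (hle (Ideal.mem_sup_right hmem))
      rw [RingHom.mem_ker] at this
      rw [← apply_lt]
      exact this
    refine hgS ?_
    simpa [_root_.mul_assoc] using (SG c.π).mul_mem hχ1 ((SG c.π).inv_mem hχ2)
  have hres := isMult_res (ofComod c.e c.C) (isMult_regular c.e) i
  have h := thm H hH c.C (res (ofComod c.e c.C) i) hres inferInstance I1 I2 h1r (h1r.comap (lt g))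
    (c.isStable_of_points _ hst1) (c.isStable_of_points _ hst2) hsup
  obtain ⟨a, ha, b, hb, hab⟩ := Submodule.mem_sup.1 ((Ideal.eq_top_iff_one _).1 h)
  have hinv : (a : c.C) ∈ Inv (SG c.π) := by
    rintro _ ⟨ψ, rfl⟩
    have h1 := a.2 k (pnt c.e' ψ.ofConv)
    rw [Category.comp_id] at h1
    change (ofComod c.e c.C).ρ k (pnt c.e' ψ.ofConv ≫ i) _ = _ at h1
    rw [c.comp] at h1
    have h2 := congrArg (TensorProduct.lid k c.C) h1
    rw [lid_ofComod, RedLR.ptAct_eq_act, act_eq_rt, TensorProduct.lid_tmul, one_smul] at h2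
    exact h2
  have ha1 : (1 : WithConv (c.C →ₐ[k] k)).ofConv (a : c.C) = 0 := by
    rw [← map_one (resPt c.π)]
    show (1 : WithConv (c.D →ₐ[k] k)).ofConv (π (a : c.C)) = 0
    rw [show π (a : c.C) = 0 from RingHom.mem_ker.1 ha, map_zero]
  have hb1 : g.ofConv (b : c.C) = 0 := by
    have : lt g (b : c.C) ∈ I1 := hb
    rw [← _root_.mul_one g, ← apply_lt]
    rw [← map_one (resPt c.π)]
    show (1 : WithConv (c.D →ₐ[k] k)).ofConv (π (lt g (b : c.C))) = 0
    rw [RingHom.mem_ker.1 this, map_zero]
  have hga : g.ofConv (a : c.C) = 0 := by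
    have h1 := congrArg (1 : WithConv (c.C →ₐ[k] k)).ofConv (hg _ hinv)
    rwa [apply_rt, _root_.one_mul, ha1] at h1
  have h2 := congrArg (fun t => g.ofConv (Subtype.val t)) hab
  simp only [AddMemClass.coe_add, map_add, hga, hb1, add_zero, OneMemClass.coe_one, map_one] at h2
  exact zero_ne_one h2

end Groth.Agent.GModLib
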