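import Groth.Agent.GModLib.Alg
import Groth.Agent.AdjRep.Basic
import Groth.Prelude.Def_GmPts

/-!
# Comodules as group modules; characters from group-like elements
-/

set_option autoImplicit false
set_option linter.style.haveILetI false
set_option backward.isDefEq.respectTransparency false

universe u

open CategoryTheory CategoryTheory.Limits MonoidalCategory CartesianMonoidalCategory MonObj GrpObj AlgebraicGeometry
open TensorProduct WithConv

noncomputable section

namespace Groth.Agent.GModLib

variable {k : Type u} [Field k] {C : Type u} [CommRing C] [HopfAlgebra k C]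
variable {G : Over (Spec (CommRingCat.of k))} [GrpObj G]
variable (e : (Spec (CommRingCat.of C)).asOver (Spec (CommRingCat.of k)) ≅ G) [IsMonHom e.hom]

theorem pnt_injective {B : Type u} [CommRing B] [Algebra k B] :
    Function.Injective fun φ : C →ₐ[k] B => pnt e φ := fun φ ψ h => by
  have := congrArg (· ≫ e.inv) h
  simp only [pnt, Category.assoc, e.hom_inv_id, Category.comp_id] at this
  exact congrArg WithConv.ofConv ((Spec.mapMulEquiv (S := C)).injective this)

/-- Points and algebra maps. -/
def pntEquiv {B : Type u} [CommRing B] [Algebra k B] : WithConv (C →ₐ[k] B) ≃* (VecGrp.pt k B ⟶ G) :=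
  MulEquiv.ofBijective
    ({ toFun := fun φ => pnt e φ.ofConv
       map_one' := pnt_one e
       map_mul' := fun φ ψ => pnt_mul e φ.ofConv ψ.ofConv } : WithConv (C →ₐ[k] B) →* (VecGrp.pt k B ⟶ G))
    ⟨fun φ ψ h => WithConv.ext (pnt_injective e h), fun g => by
      obtain ⟨φ, hφ⟩ := exists_eq_pnt e g
      exact ⟨toConv φ, hφ⟩⟩

/-- The algebra map of a point, multiplicatively. -/
def algOf {B : Type u} [CommRing B] [Algebra k B] : (VecGrp.pt k B ⟶ G) →* WithConv (C →ₐ[k] B) :=
  (pntEquiv e).symm.toMonoidHom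

theorem pnt_algOf {B : Type u} [CommRing B] [Algebra k B] (g : VecGrp.pt k B ⟶ G) :
    pnt e (algOf e g).ofConv = g :=
  (pntEquiv e).apply_symm_apply g

theorem algOf_pnt {B : Type u} [CommRing B] [Algebra k B] (φ : C →ₐ[k] B) : (algOf e (pnt e φ)).ofConv = φ :=
  pnt_injective e (pnt_algOf e _)

section OfComod

variable (V : Type u) [AddCommGroup V] [Module k V] [HopfRep.Comod k C V]

/-- The action of an algebra map on the base change of a comodule. -/
def actB {B : Type u} [CommRing B] [Algebra k B] (φ : C →ₐ[k] B) : Module.End B (B ⊗[k] V) :=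
  LinearMap.liftBaseChange B ((TensorProduct.comm k V B).toLinearMap ∘ₗ φ.toLinearMap.lTensor V ∘ₗ
    HopfRep.Comod.coact (k := k) (A := C))

theorem actB_one_tmul {B : Type u} [CommRing B] [Algebra k B] (φ : C →ₐ[k] B) (v : V) :
    actB V φ ((1 : B) ⊗ₜ[k] v) =
      TensorProduct.comm k V B (φ.toLinearMap.lTensor V (HopfRep.Comod.coact (k := k) (A := C) v)) := by
  simp [actB]

theorem actB_one {B : Type u} [CommRing B] [Algebra k B] : actB V (1 : WithConv (C →ₐ[k] B)).ofConv = 1 := by
  refine TensorProduct.AlgebraTensorModule.ext fun b v => ?_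
  suffices h : actB V (1 : WithConv (C →ₐ[k] B)).ofConv ((1 : B) ⊗ₜ[k] v) = (1 : B) ⊗ₜ[k] v by
    rw [show b ⊗ₜ[k] v = b • ((1 : B) ⊗ₜ[k] v) by simp [TensorProduct.smul_tmul'], map_smul, h]
    rfl
  rw [actB_one_tmul]
  have h1 : ∀ t : V ⊗[k] C, TensorProduct.comm k V B ((1 : WithConv (C →ₐ[k] B)).ofConv.toLinearMap.lTensor V t) =
      (Algebra.linearMap k B).rTensor V (TensorProduct.comm k V k ((CoalgebraStruct.counit (R := k) (A := C)).lTensor V t)) := by
    intro t
    induction t using TensorProduct.induction_on with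
    | zero => simp
    | add x y hx hy => simp only [map_add, hx, hy]
    | tmul m c => simp [AlgHom.convOne_def, Algebra.ofId_apply]
  rw [h1, ← LinearMap.comp_apply ((CoalgebraStruct.counit (R := k) (A := C)).lTensor V), HopfRep.Comod.counit_comp]
  simp

theorem actB_mul {B : Type u} [CommRing B] [Algebra k B] (φ ψ : WithConv (C →ₐ[k] B)) :
    actB V (φ * ψ).ofConv = actB V φ.ofConv * actB V ψ.ofConv := by
  refine TensorProduct.AlgebraTensorModule.ext fun b v => ?_
  suffices h : actB V (φ * ψ).ofConv ((1 : B) ⊗ₜ[k] v) = actB V φ.ofConv (actB V ψ.ofConv ((1 : B) ⊗ₜ[k] v)) by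
    rw [show b ⊗ₜ[k] v = b • ((1 : B) ⊗ₜ[k] v) by simp [TensorProduct.smul_tmul'], map_smul, h, map_smul]
    rw [Module.End.mul_apply]
  rw [actB_one_tmul, actB_one_tmul]
  let Φ : C ⊗[k] C →ₗ[k] B := LinearMap.mul' k B ∘ₗ TensorProduct.map φ.ofConv.toLinearMap ψ.ofConv.toLinearMap
  have h1 : ∀ t : V ⊗[k] C, TensorProduct.comm k V B ((φ * ψ).ofConv.toLinearMap.lTensor V t) =
      TensorProduct.comm k V B (Φ.lTensor V ((CoalgebraStruct.comul (R := k) (A := C)).lTensor V t)) := by
    intro t
    induction t using TensorProduct.induction_on with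
    | zero => simp
    | add x y hx hy => simp only [map_add, hx, hy]
    | tmul m c =>
      simp only [LinearMap.lTensor_tmul, TensorProduct.comm_tmul]
      congr 1
  have h2 : ∀ t : V ⊗[k] C, actB V φ.ofConv (TensorProduct.comm k V B (ψ.ofConv.toLinearMap.lTensor V t)) =
      TensorProduct.comm k V B (Φ.lTensor V
        (TensorProduct.assoc k V C C ((HopfRep.Comod.coact (k := k) (A := C)).rTensor C t))) := by
    intro t
    induction t using TensorProduct.induction_on with
    | zero => simp
    | add x y hx hy => simp only [map_add, hx, hy]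
    | tmul m c =>
      rw [LinearMap.lTensor_tmul, TensorProduct.comm_tmul,
        show (ψ.ofConv.toLinearMap c) ⊗ₜ[k] m = (ψ.ofConv c) • ((1 : B) ⊗ₜ[k] m) by simp [TensorProduct.smul_tmul'],
        map_smul, actB_one_tmul, LinearMap.rTensor_tmul]
      generalize HopfRep.Comod.coact (k := k) (A := C) m = s
      induction s using TensorProduct.induction_on with
      | zero => simp
      | add x y hx hy => simp only [map_add, smul_add, TensorProduct.add_tmul, hx, hy]
      | tmul m' c' => simp [Φ, TensorProduct.smul_tmul', mul_comm]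
  rw [h1, h2]
  exact congrArg _ (congrArg _ (LinearMap.congr_fun (HopfRep.Comod.coassoc (k := k) (A := C) (V := V)) v).symm)

/-- A comodule as a group module. -/
def ofComod : VecGrp.GMod G V where
  ρ B _ _ :=
    (LinearMap.GeneralLinearGroup.generalLinearEquiv B (B ⊗[k] V)).toMonoidHom.comp
      (MonoidHom.toHomUnits
        ((({ toFun := fun φ => actB V φ.ofConv, map_one' := actB_one V, map_mul' := actB_mul V } :
          WithConv (C →ₐ[k] B) →* Module.End B (B ⊗[k] V))).comp (algOf e)))
  naturality {B B'} _ _ _ _ φ g x := by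
    show VecGrp.Wmap φ (actB V (algOf e g).ofConv x) = actB V (algOf e (VecGrp.ptMap φ ≫ g)).ofConv (VecGrp.Wmap φ x)
    have h : (algOf e (VecGrp.ptMap φ ≫ g)).ofConv = φ.comp (algOf e g).ofConv := by
      conv_lhs => rw [← pnt_algOf e g, ptMap_pnt]
      exact algOf_pnt e _
    rw [h]
    induction x using TensorProduct.induction_on with
    | zero => simp
    | add x y hx hy => simp only [map_add, hx, hy]
    | tmul b v =>
      rw [VecGrp.Wmap_tmul, show b ⊗ₜ[k] v = b • ((1 : B) ⊗ₜ[k] v) by simp [TensorProduct.smul_tmul'],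
        show φ b ⊗ₜ[k] v = φ b • ((1 : B') ⊗ₜ[k] v) by simp [TensorProduct.smul_tmul'],
        LinearMap.map_smul, LinearMap.map_smul, VecGrp.Wmap_smul, actB_one_tmul, actB_one_tmul]
      congr 1
      generalize HopfRep.Comod.coact (k := k) (A := C) v = t
      induction t using TensorProduct.induction_on with
      | zero => simp
      | add x y hx hy => simp only [map_add, hx, hy]
      | tmul m c => simp [VecGrp.Wmap_tmul]

theorem ofComod_pnt {B : Type u} [CommRing B] [Algebra k B] (φ : C →ₐ[k] B) (v : V) :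
    (ofComod e V).ρ B (pnt e φ) ((1 : B) ⊗ₜ[k] v) =
      TensorProduct.comm k V B (φ.toLinearMap.lTensor V (HopfRep.Comod.coact (k := k) (A := C) v)) := by
  show actB V (algOf e (pnt e φ)).ofConv ((1 : B) ⊗ₜ[k] v) = _
  rw [algOf_pnt, actB_one_tmul]

end OfComod

include e in
/-- Without non-trivial characters the only group-like element is one. -/
theorem eq_one_of_no_char (hχ : ∀ χ : G ⟶ Red.Gm (Spec (CommRingCat.of k)), IsMonHom χ → χ = 1)
    {x : C} (hx : IsGroupLikeElem k x) : x = 1 := by
  have hu : IsUnit x := by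
    refine IsUnit.of_mul_eq_one (HopfAlgebra.antipode k (A := C) x) ?_
    have h := LinearMap.congr_fun (HopfAlgebra.mul_antipode_lTensor_comul (R := k) (A := C)) x
    simpa [hx.comul_eq_tmul_self, hx.counit_eq_one] using h
  let w : (Γ(((Spec (CommRingCat.of C)).asOver (Spec (CommRingCat.of k))).left, ⊤))ˣ :=
    (hu.map (Scheme.ΓSpecIso (CommRingCat.of C)).inv.hom).unit
  let χ : G ⟶ Red.Gm (Spec (CommRingCat.of k)) := e.inv ≫ GmPts.ptOfUnit w
  have hval : ∀ (B : Type u) [CommRing B] [Algebra k B] (φ : C →ₐ[k] B),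
      Red.gmFn (pnt e φ ≫ χ) = (Scheme.ΓSpecIso (CommRingCat.of B)).inv (φ x) := by
    intro B _ _ φ
    have h1 : pnt e φ ≫ χ = Spec.mapMulEquiv (toConv φ) ≫ GmPts.ptOfUnit w := by simp [χ, pnt]
    rw [h1]
    refine (GmPts.gmFn_comp _ _).trans ?_
    rw [GmPts.gmFn_ptOfUnit, IsUnit.unit_spec]
    exact (congr($(Scheme.ΓSpecIso_inv_naturality (CommRingCat.ofHom φ.toRingHom)) x)).symm
  have hmul : ∀ (B : Type u) [CommRing B] [Algebra k B] (g h : VecGrp.pt k B ⟶ G), (g * h) ≫ χ = (g ≫ χ) * (h ≫ χ) := by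
    intro B _ _ g h
    obtain ⟨φ, rfl⟩ := exists_eq_pnt e g
    obtain ⟨ψ, rfl⟩ := exists_eq_pnt e h
    apply GmPts.gmFn_injective
    show Red.gmFn _ = Red.gmFn _
    rw [← pnt_mul, hval, GmPts.gmFn_mul, hval, hval]
    refine Eq.trans ?_ (map_mul (Scheme.ΓSpecIso (CommRingCat.of B)).inv.hom (φ x) (ψ x))
    congr 1
    show (toConv φ * toConv ψ) x = φ x * ψ x
    rw [AlgHom.convMul_apply, hx.comul_eq_tmul_self]
    simp
  have hone : ∀ (B : Type u) [CommRing B] [Algebra k B], (1 : VecGrp.pt k B ⟶ G) ≫ χ = 1 := by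
    intro B _ _
    apply GmPts.gmFn_injective
    show Red.gmFn _ = Red.gmFn _
    rw [← pnt_one e, hval, GmPts.gmFn_one, AlgHom.convOne_def]
    simp [hx.counit_eq_one]
  haveI : IsMonHom χ := by
    refine ⟨?_, ?_⟩
    · refine AdjRep.pts_ext fun B _ _ b => ?_
      have h := hone B
      rw [Hom.one_def, Hom.one_def, Category.assoc] at h
      rw [Subsingleton.elim b (toUnit _)]
      exact h
    · refine AdjRep.pts_ext fun B _ _ b => ?_
      have h := hmul B (b ≫ fst G G) (b ≫ snd G G)
      rw [Hom.mul_def, Hom.mul_def, Category.assoc] at h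
      rw [← comp_lift, lift_fst_snd, Category.comp_id] at h
      have h9 : b ≫ (χ ⊗ₘ χ) = lift ((b ≫ fst G G) ≫ χ) ((b ≫ snd G G) ≫ χ) := by
        apply hom_ext <;> simp
      rw [h, ← Category.assoc b, h9]
  have h := hval C (AlgHom.id k C)
  rw [hχ χ inferInstance, MonObj.comp_one, GmPts.gmFn_one, AlgHom.id_apply] at h
  have h' := congrArg (Scheme.ΓSpecIso (CommRingCat.of C)).hom h
  simpa using h'.symm

end Groth.Agent.GModLib
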