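import Groth.Agent.Chev.BorelConst
import Groth.Agent.AffHull.LinAct
import Groth.Prelude.Def_W4bk4grossh111Obs

/-!
# Invariant functions and proper quotients
-/

set_option autoImplicit false
set_option linter.style.haveILetI false
set_option backward.isDefEq.respectTransparency false

universe u

open CategoryTheory CategoryTheory.Limits MonoidalCategory CartesianMonoidalCategory MonObj GrpObj AlgebraicGeometry
open Groth.Agent.Chev Groth.Agent.Chev.Borel Groth.Agent.Chev.BorelFixed

noncomputable section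

namespace Groth.Agent.GModLib

variable {k : Type u} [Field k] [IsAlgClosed k]

/-- A morphism to an affine scheme invariant under a subgroup with proper irreducible quotient is constant. -/
theorem const_of_invariant {G B X Y : Over (Spec (CommRingCat.of k))} [GrpObj G] [GrpObj B]
    [Smooth G.hom] (iB : B ⟶ G) [Smooth B.hom] (a : AlgGrp.Action G X)
    (o : RP X) (hX : AGF.IsQuotient iB X a o) [IsProper X.hom] [IrreducibleSpace X.left] [IsAffine Y.left]
    [LocallyOfFiniteType Y.hom] (u : G ⟶ Y) (hu : ∀ (g : RP G) (b : RP B), (g * (b ≫ iB)) ≫ u = g ≫ u) :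
    u = toUnit G ≫ (1 : RP G) ≫ u := by
  haveI := hX.1; haveI := hX.2.1; haveI := hX.2.2.1
  haveI : IsReduced G.left := SmoothRed.isReduced_of_smooth_scheme G.hom
  haveI : LocallyOfFiniteType G.hom := inferInstance
  haveI : Smooth (G ⊗ B).hom := by
    show Smooth (pullback.fst G.hom B.hom ≫ G.hom)
    infer_instance
  haveI : IsReduced (G ⊗ B).left := SmoothRed.isReduced_of_smooth_scheme (G ⊗ B).hom
  let π := a.orbitMap o
  haveI : Flat π.left := hX.2.1
  haveI : Surjective π.left := hX.2.2.1
  haveI : IsReduced X.left := FlatMor.isReduced_of_flat_surjective π.left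
  haveI : IsIntegral X.left := isIntegral_of_irreducibleSpace_of_isReduced _
  haveI : LocallyOfFinitePresentation π.left := by
    haveI : IsLocallyNoetherian X.left := LocallyOfFiniteType.isLocallyNoetherian X.hom
    haveI : LocallyOfFiniteType (π.left ≫ X.hom) := by rw [Over.w]; infer_instance
    haveI : LocallyOfFiniteType π.left := locallyOfFiniteType_of_comp π.left X.hom
    infer_instance
  haveI : IsSeparated Y.hom := inferInstance
  have hinv : ((G ◁ iB) ≫ μ[G]) ≫ u = fst G B ≫ u := by
    refine hom_ext_rp fun z => ?_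
    have h1 : (G ◁ iB) ≫ μ[G] = fst G B * (snd G B ≫ iB) := by
      rw [Hom.mul_def]
      congr 1
      try (apply CartesianMonoidalCategory.hom_ext <;> simp)
    rw [h1, ← Category.assoc, MonObj.comp_mul, ← Category.assoc z (snd G B), hu, Category.assoc]
  obtain ⟨d, hd⟩ := AVQuot.exists_desc π u fun {V} s t hst => by
    obtain ⟨z, hz1, hz2⟩ := hX.2.2.2.exists_lift _ _ hst
    have h4 := congrArg (fun m => z ≫ m) hinv
    simp only [← Category.assoc] at h4
    rw [← Category.assoc] at hz2
    rw [hz1, hz2] at h4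
    exact h4.symm
  have h2 : d = toUnit X ≫ (o ≫ d) := eq_of_point_eq o d _ (by
    rw [← Category.assoc o, toUnit_unique (o ≫ toUnit X) (𝟙 _), Category.id_comp])
  rw [← hd]
  conv_lhs => rw [h2]
  conv_rhs => rw [h2]
  simp only [← Category.assoc]
  rw [toUnit_unique (π ≫ toUnit X) (toUnit G), toUnit_unique (((toUnit G ≫ (1 : RP G)) ≫ π) ≫ toUnit X) (toUnit G)]

/-- Functions invariant under a subgroup are invariant under an overgroup with proper irreducible quotient. -/
theorem rTransInv_eq_of_proper {G H₂ H₁ X : Over (Spec (CommRingCat.of k))} [GrpObj G] [IsAffine G.left] [Smooth G.hom]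
    [GrpObj H₂] [Smooth H₂.hom] (i₂ : H₂ ⟶ G) [IsMonHom i₂] [GrpObj H₁] [Smooth H₁.hom]
    (i₁ : H₁ ⟶ H₂) [IsMonHom i₁] (a : AlgGrp.Action H₂ X) (o : RP X) (hX : AGF.IsQuotient i₁ X a o)
    [IsProper X.hom] [IrreducibleSpace X.left] :
    AGF.rTransInv (i₁ ≫ i₂) = AGF.rTransInv i₂ := by
  ext f
  rw [AGF.mem_rTransInv_iff, AGF.mem_rTransInv_iff]
  let F : G ⟶ AffHull.affSpace k 1 := AffHull.mkPt fun _ => f
  have hcrd : ∀ {T : Over (Spec (CommRingCat.of k))} (y : T ⟶ G), AffHull.crd (y ≫ F) = fun _ => y.left.appTop f :=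
    fun y => by rw [AffHull.crd_comp]; funext j; rw [AffHull.crd_mkPt]
  have hmul : ∀ {T : Over (Spec (CommRingCat.of k))} (i : T ⟶ G) (z : RP (G ⊗ T)),
      z ≫ (G ◁ i) ≫ μ[G] = (z ≫ fst G T) * ((z ≫ snd G T) ≫ i) := by
    intro T i z
    have hq : (G ◁ i) ≫ μ[G] = fst G T * (snd G T ≫ i) := by
      rw [Hom.mul_def]
      congr 1
    rw [hq, MonObj.comp_mul, Category.assoc]
  have hiff : ∀ {T : Over (Spec (CommRingCat.of k))} (i : T ⟶ G), AGF.IsRTransInv i f ↔
      ((G ◁ i) ≫ μ[G]) ≫ F = fst G T ≫ F := fun i =>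
    ⟨fun h => AffHull.crd_injective (by rw [hcrd, hcrd]; exact funext fun _ => h),
     fun h => congrFun ((hcrd _).symm.trans ((congrArg AffHull.crd h).trans (hcrd _))) (0 : Fin 1)⟩
  rw [hiff, hiff]
  constructor
  · intro h
    haveI : Smooth (G ⊗ H₂).hom := by
      show Smooth (pullback.fst G.hom H₂.hom ≫ G.hom)
      infer_instance
    haveI : IsReduced (G ⊗ H₂).left := by
      exact SmoothRed.isReduced_of_smooth_scheme (G ⊗ H₂).hom
    haveI : LocallyOfFiniteType (AffHull.affSpace k 1).hom :=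
      inferInstanceAs (LocallyOfFiniteType (AffineSpace (ULift.{u} (Fin 1)) (Spec (CommRingCat.of k)) ↘ Spec (CommRingCat.of k)))
    haveI : IsSeparated (AffHull.affSpace k 1).hom :=
      inferInstanceAs (IsSeparated (AffineSpace (ULift.{u} (Fin 1)) (Spec (CommRingCat.of k)) ↘ Spec (CommRingCat.of k)))
    haveI : IsAffine (AffHull.affSpace k 1).left :=
      inferInstanceAs (IsAffine (AffineSpace (ULift.{u} (Fin 1)) (Spec (CommRingCat.of k))))
    refine hom_ext_rp fun z => ?_
    rw [← Category.assoc z, hmul, ← Category.assoc z]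
    set x : RP G := z ≫ fst G H₂
    set w : RP H₂ := z ≫ snd G H₂
    have hinv : ∀ (y : RP G) (b : RP H₁), (y * (b ≫ i₁ ≫ i₂)) ≫ F = y ≫ F := fun y b => by
      have h1 := congrArg (fun t => lift y b ≫ t) h
      simp only [← Category.assoc] at h1
      rw [Category.assoc (lift y b) _ μ[G], hmul, lift_fst, lift_snd] at h1
      exact h1
    have hu0 : ∀ g : RP H₂, g ≫ (((toUnit H₂ ≫ x) * i₂) ≫ F) = (x * (g ≫ i₂)) ≫ F := fun g => by
      rw [← Category.assoc, MonObj.comp_mul, ← Category.assoc g, toUnit_unique (g ≫ toUnit H₂) (𝟙 _), Category.id_comp]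
    have hc := const_of_invariant i₁ a o hX (((toUnit H₂ ≫ x) * i₂) ≫ F) fun g b => by
      rw [hu0, hu0, MonObj.mul_comp g (b ≫ i₁) i₂, Category.assoc b, ← _root_.mul_assoc, hinv]
    have h2 := congrArg (fun t => w ≫ t) hc
    simp only [hu0] at h2
    rw [← Category.assoc w, toUnit_unique (w ≫ toUnit H₂) (𝟙 _), Category.id_comp, MonObj.one_comp i₂,
      _root_.mul_one] at h2
    exact h2
  · intro h
    have h1 := congrArg (fun t => (G ◁ i₁) ≫ t) h
    simp only [← Category.assoc] at h1
    rw [← whiskerLeft_comp, whiskerLeft_fst] at h1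
    exact h1

end Groth.Agent.GModLib
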