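import Groth.Agent.GModLib.OfComod
import Groth.Agent.MTBridge.Hom
import Groth.Agent.Chev.CommSubgroup
import Groth.Prelude.Def_W4bk4grossh111Obs

/-!
# Translation invariant functions seen on rational points
-/

set_option autoImplicit false
set_option linter.style.haveILetI false
set_option backward.isDefEq.respectTransparency false

universe u

open CategoryTheory CategoryTheory.Limits MonoidalCategory CartesianMonoidalCategory MonObj GrpObj AlgebraicGeometry
open TensorProduct WithConv

noncomputable section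

namespace Groth.Agent.GModLib

variable {k : Type u} [Field k] {C : Type u} [CommRing C] [HopfAlgebra k C]
variable {G : Over (Spec (CommRingCat.of k))} [GrpObj G]
variable (e : (Spec (CommRingCat.of C)).asOver (Spec (CommRingCat.of k)) ≅ G) [IsMonHom e.hom]

/-- A global function as an element of the algebra. -/
def fnC : Γ(G.left, ⊤) →+* C := (e.hom.left.appTop ≫ (Scheme.ΓSpecIso (CommRingCat.of C)).hom).hom

omit [GrpObj G] [IsMonHom e.hom] in
theorem fnC_bijective : Function.Bijective (fnC e) := by
  haveI : IsIso e.hom.left := inferInstanceAs (IsIso ((Over.forget _).map e.hom))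
  exact ConcreteCategory.bijective_of_isIso (e.hom.left.appTop ≫ (Scheme.ΓSpecIso (CommRingCat.of C)).hom)

omit [IsMonHom e.hom] in
theorem val_pnt {B : Type u} [CommRing B] [Algebra k B] (φ : C →ₐ[k] B) (f : Γ(G.left, ⊤)) :
    AdjRep.val (pnt e φ) f = φ (fnC e f) :=
  (congr($(Scheme.ΓSpecIso_naturality (CommRingCat.ofHom φ.toRingHom)) (e.hom.left.appTop f)) : _)

omit [IsMonHom e.hom] in
theorem rTransInv_iff {T : Over (Spec (CommRingCat.of k))} (g : T ⟶ G) (f : Γ(G.left, ⊤)) :
    AGF.IsRTransInv g f ↔ ∀ (B : Type u) [CommRing B] [Algebra k B] (x : VecGrp.pt k B ⟶ G)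
      (t : VecGrp.pt k B ⟶ T), AdjRep.val (x * (t ≫ g)) f = AdjRep.val x f := by
  have hq : (G ◁ g) ≫ μ[G] = fst G T * (snd G T ≫ g) := by
    rw [Hom.mul_def]
    congr 1
  constructor
  · intro h B _ _ x t
    have h1 := congrArg (AdjRep.val (lift x t)) h
    rw [← AdjRep.val_comp, ← AdjRep.val_comp, hq, MonObj.comp_mul, lift_fst, ← Category.assoc, lift_snd] at h1
    exact h1
  · intro h
    refine AdjRep.val_ext fun B _ _ b => ?_
    rw [← AdjRep.val_comp, ← AdjRep.val_comp, hq, MonObj.comp_mul]
    rw [← Category.assoc b (snd G T) g]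
    exact h B (b ≫ fst G T) (b ≫ snd G T)

theorem pt_k_ext {B : Type u} [CommRing B] [Algebra k B] (t t' : VecGrp.pt k B ⟶ VecGrp.pt k k) : t = t' := by
  refine Over.OverMorphism.ext ?_
  have e1 : Spec.map (CommRingCat.ofHom (algebraMap k k)) = 𝟙 (Spec (CommRingCat.of k)) := by
    rw [Algebra.algebraMap_self, CommRingCat.ofHom_id, Spec.map_id]
  have h1 : t.left ≫ Spec.map (CommRingCat.ofHom (algebraMap k k)) = _ := Over.w t
  have h2 : t'.left ≫ Spec.map (CommRingCat.ofHom (algebraMap k k)) = _ := Over.w t'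
  rw [e1] at h1 h2
  exact (Category.comp_id _).symm.trans (h1.trans (h2.symm.trans (Category.comp_id _)))

theorem apply_act {B : Type u} [CommRing B] [Algebra k B] (φ : C →ₐ[k] B) (ψ : C →ₐ[k] k) (c : C) :
    φ (HopfRep.Comod.act k C C ψ c) = (toConv φ * toConv ((Algebra.ofId k B).comp ψ)) c := by
  rw [AlgHom.convMul_apply]
  show φ (TensorProduct.rid k C (ψ.toLinearMap.lTensor C (CoalgebraStruct.comul (R := k) c))) = _
  generalize CoalgebraStruct.comul (R := k) c = t
  induction t using TensorProduct.induction_on with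
  | zero => simp
  | add x y hx hy => simp only [map_add, hx, hy]
  | tmul a b => simp [Algebra.ofId_apply, Algebra.smul_def, mul_comm]

/-- Invariance under a rational point. -/
theorem rTransInv_pt_iff (ψ : C →ₐ[k] k) (f : Γ(G.left, ⊤)) :
    AGF.IsRTransInv (pnt e ψ) f ↔ HopfRep.Comod.act k C C ψ (fnC e f) = fnC e f := by
  rw [rTransInv_iff]
  have key : ∀ (B : Type u) [CommRing B] [Algebra k B] (φ : C →ₐ[k] B) (t : VecGrp.pt k B ⟶ VecGrp.pt k k),
      AdjRep.val (pnt e φ * (t ≫ pnt e ψ)) f = φ (HopfRep.Comod.act k C C ψ (fnC e f)) := by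
    intro B _ _ φ t
    rw [pt_k_ext t (VecGrp.ptMap (Algebra.ofId k B)), ptMap_pnt, ← pnt_mul, val_pnt, apply_act]
  constructor
  · intro h
    have h1 := h C (pnt e (AlgHom.id k C)) (VecGrp.ptMap (Algebra.ofId k C))
    rw [key, val_pnt] at h1
    exact h1
  · intro h B _ _ x t
    obtain ⟨φ, rfl⟩ := exists_eq_pnt e x
    rw [key, h, val_pnt]

/-- Regular functions are determined by rational points. -/
theorem ext_points [IsAlgClosed k] [Algebra.FiniteType k C] [_root_.IsReduced C] {a b : C}
    (h : ∀ φ : C →ₐ[k] k, φ a = φ b) : a = b :=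
  sub_eq_zero.1 (nilpotent_iff_mem_prime.2 fun p hp =>
    haveI := hp; GLinChar.mem_of_forall_point k C fun φ _ => by rw [map_sub, h φ, sub_self]).eq_zero

include e in
/-- Invariance under a smooth subgroup is invariance under its rational points. -/
theorem rTransInv_hom_iff [IsAlgClosed k] {D : Type u} [CommRing D] [HopfAlgebra k D] [Algebra.FiniteType k D]
    [_root_.IsReduced D] {H : Over (Spec (CommRingCat.of k))} [GrpObj H]
    (e' : (Spec (CommRingCat.of D)).asOver (Spec (CommRingCat.of k)) ≅ H) [IsMonHom e'.hom]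
    (i : H ⟶ G) [IsMonHom i] (f : Γ(G.left, ⊤)) :
    AGF.IsRTransInv i f ↔ ∀ h : VecGrp.pt k k ⟶ H, AGF.IsRTransInv (h ≫ i) f := by
  classical
  constructor
  · intro hf h
    rw [rTransInv_iff] at hf ⊢
    intro B _ _ x t
    rw [← Category.assoc]
    exact hf B x (t ≫ h)
  · intro hf
    let u : VecGrp.pt k D ⟶ G := pnt e' (AlgHom.id k D) ≫ i
    obtain ⟨π, hπ⟩ := exists_eq_pnt e u
    have hcomp : ∀ (B : Type u) [CommRing B] [Algebra k B] (ψ : D →ₐ[k] B),
        pnt e' ψ ≫ i = pnt e (ψ.comp π) := by
      intro B _ _ ψ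
      rw [← ptMap_pnt, hπ, ← Category.assoc, ptMap_pnt, AlgHom.comp_id]
    let z : C ⊗[k] D := π.toLinearMap.lTensor C (CoalgebraStruct.comul (R := k) (fnC e f))
    have hz : z = fnC e f ⊗ₜ[k] (1 : D) := by
      let b := Module.Free.chooseBasis k C
      apply (TensorProduct.equivFinsuppOfBasisLeft b).injective
      ext i'
      refine ext_points (k := k) fun ψ => ?_
      have h1 := hf (pnt e' ψ)
      rw [hcomp, rTransInv_pt_iff] at h1
      have h2 : ∀ t : C ⊗[k] D, ψ (TensorProduct.equivFinsuppOfBasisLeft b t i') =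
          b.repr (TensorProduct.rid k C (ψ.toLinearMap.lTensor C t)) i' := by
        intro t
        induction t using TensorProduct.induction_on with
        | zero => simp
        | add x y hx hy => simp only [map_add, Finsupp.add_apply, hx, hy]
        | tmul a d => simp [mul_comm]
      rw [h2, h2]
      have h3 : TensorProduct.rid k C (ψ.toLinearMap.lTensor C z) = HopfRep.Comod.act k C C (ψ.comp π) (fnC e f) := by
        simp only [z, ← LinearMap.lTensor_comp_apply]
        rfl
      rw [h3, h1]
      simp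
    rw [rTransInv_iff]
    intro B _ _ x t
    obtain ⟨φ, rfl⟩ := exists_eq_pnt e x
    obtain ⟨ψ, rfl⟩ := exists_eq_pnt e' t
    rw [hcomp, ← pnt_mul, val_pnt, val_pnt]
    show (toConv φ * toConv (ψ.comp π)) (fnC e f) = _
    have h4 : (toConv φ * toConv (ψ.comp π)) (fnC e f) = Algebra.TensorProduct.lift φ ψ (fun _ _ => Commute.all _ _) z := by
      rw [AlgHom.convMul_apply]
      simp only [z]
      generalize CoalgebraStruct.comul (R := k) (fnC e f) = t
      induction t using TensorProduct.induction_on with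
      | zero => simp
      | add x y hx hy => simp only [map_add, hx, hy]
      | tmul a d => simp
    rw [h4, hz, Algebra.TensorProduct.lift_tmul, map_one, _root_.mul_one]

omit [GrpObj G] [IsMonHom e.hom] in
include e in
/-- Smooth affine groups have reduced coordinate rings. -/
theorem isReduced_of_smooth [IsAlgClosed k] [Smooth G.hom] : _root_.IsReduced C := by
  haveI : IsIso e.hom.left := inferInstanceAs (IsIso ((Over.forget _).map e.hom))
  haveI : IsReduced G.left := Chev.isReduced_of_smooth G
  haveI : IsReduced (Spec (CommRingCat.of C)) := isReduced_of_isOpenImmersion e.hom.left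
  exact affine_isReduced_iff (CommRingCat.of C) |>.1 inferInstance

end Groth.Agent.GModLib
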