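import Groth.Agent.RedQuotAff.Main
import Groth.Agent.GModLib.ObsMain
import Groth.Agent.WeilAff.UnipAlg
import Groth.Agent.Chev.ProjRep

/-!
The transfer principle: finite generation of `k[G]^H` gives finite generation of `A^H`.
-/

set_option autoImplicit false
set_option backward.isDefEq.respectTransparency false
set_option maxHeartbeats 1000000
set_option synthInstance.maxHeartbeats 200000
set_option linter.unusedSectionVars false
set_option linter.style.haveILetI false

universe u

open CategoryTheory MonoidalCategory CartesianMonoidalCategory MonObj GrpObj AlgebraicGeometry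
open TensorProduct WithConv

noncomputable section

namespace Groth.Agent.GModLib

variable {k : Type u} [Field k]

/-- a comodule with multiplicative coaction gives a multiplicative action -/
theorem isMult_ofComod_of_algHom {G : Over (Spec (CommRingCat.of k))} [GrpObj G] {C : Type u} [CommRing C]
    [HopfAlgebra k C] (e : (Spec (CommRingCat.of C)).asOver (Spec (CommRingCat.of k)) ≅ G) [IsMonHom e.hom]
    {R : Type u} [CommRing R] [Algebra k R] [HopfRep.Comod k C R] (δ : R →ₐ[k] R ⊗[k] C)
    (hδ : ∀ r, HopfRep.Comod.coact (k := k) (A := C) r = δ r) : (ofComod e R).IsMult := by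
  intro B _ _ g
  obtain ⟨φ, rfl⟩ := exists_eq_pnt e g
  let F : R →ₐ[k] B ⊗[k] R := (Algebra.TensorProduct.comm k R B).toAlgHom.comp
    ((Algebra.TensorProduct.map (AlgHom.id k R) φ).comp δ)
  have hF : ∀ v : R, (ofComod e R).ρ B (pnt e φ) ((1 : B) ⊗ₜ[k] v) = F v := fun v => by
    rw [ofComod_pnt, hδ]
    show TensorProduct.comm k R B (φ.toLinearMap.lTensor R (δ v)) =
      Algebra.TensorProduct.comm k R B (Algebra.TensorProduct.map (AlgHom.id k R) φ (δ v))
    generalize δ v = t
    induction t using TensorProduct.induction_on with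
    | zero => simp
    | add x y hx hy => simp only [map_add, hx, hy]
    | tmul a d => simp
  have hb : ∀ (b : B) (v : R), (ofComod e R).ρ B (pnt e φ) (b ⊗ₜ[k] v) = b • F v := fun b v => by
    rw [show b ⊗ₜ[k] v = b • ((1 : B) ⊗ₜ[k] v) by simp [TensorProduct.smul_tmul'], map_smul, hF]
  refine ⟨fun x y => ?_, ?_⟩
  · induction x using TensorProduct.induction_on with
    | zero => simp
    | add x x' hx hx' => rw [add_mul, map_add, map_add, hx, hx', add_mul]
    | tmul b u =>
      induction y using TensorProduct.induction_on with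
      | zero => simp
      | add y y' hy hy' => rw [mul_add, map_add, map_add, hy, hy', mul_add]
      | tmul b' v =>
        rw [Algebra.TensorProduct.tmul_mul_tmul, hb, hb, hb, map_mul, smul_mul_smul_comm]
  · rw [Algebra.TensorProduct.one_def, hF, map_one]
    rfl

variable [IsAlgClosed k]
variable {G H : Over (Spec (CommRingCat.of k))} [GrpObj G] [GrpObj H] {i : H ⟶ G} [IsMonHom i]
  (c : Coords G H i)

include c in
/-- **the transfer principle** -/
theorem finiteType_fixedSubalgebra (hG : VecGrp.IsReductiveGrp k G) (thmA : VecGrp.ReductiveInvariantsFG k)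
    (hfg : ∃ s : Finset c.C, (↑s : Set c.C) ⊆ Inv (SG c.π) ∧ Inv (SG c.π) ≤ Algebra.adjoin k (↑s : Set c.C))
    (A : Type u) [CommRing A] [Algebra k A] [Algebra.FiniteType k A] (ρ : VecGrp.GMod G A) (hρ : ρ.IsMult) :
    Algebra.FiniteType k ↥(ρ.fixedSubalgebra hρ i) := by
  classical
  obtain ⟨s, hs, hle⟩ := hfg
  -- the coaction
  have hδ1 : coactMap c.e ρ 1 = 1 := by
    show TensorProduct.comm k c.C A (ρ.ρ c.C (pnt c.e (AlgHom.id k c.C)) ((1 : c.C) ⊗ₜ[k] (1 : A))) = _
    rw [← Algebra.TensorProduct.one_def, (hρ c.C _).2]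
    rfl
  have hδm : ∀ a b, coactMap c.e ρ (a * b) = coactMap c.e ρ a * coactMap c.e ρ b := by
    intro a b
    show Algebra.TensorProduct.comm k c.C A (ρ.ρ c.C (pnt c.e (AlgHom.id k c.C)) ((1 : c.C) ⊗ₜ[k] (a * b))) =
      Algebra.TensorProduct.comm k c.C A (ρ.ρ c.C (pnt c.e (AlgHom.id k c.C)) ((1 : c.C) ⊗ₜ[k] a)) *
        Algebra.TensorProduct.comm k c.C A (ρ.ρ c.C (pnt c.e (AlgHom.id k c.C)) ((1 : c.C) ⊗ₜ[k] b))
    rw [← map_mul, ← (hρ c.C _).1, Algebra.TensorProduct.tmul_mul_tmul, _root_.one_mul]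
  let δ : A →ₐ[k] A ⊗[k] c.C := AlgHom.ofLinearMap (coactMap c.e ρ) hδ1 hδm
  let ev (φ : WithConv (c.C →ₐ[k] k)) : A ⊗[k] c.C →ₐ[k] A :=
    Algebra.TensorProduct.lift (AlgHom.id k A) ((Algebra.ofId k A).comp φ.ofConv) fun _ _ => Commute.all _ _
  have hev : ∀ φ a (f : c.C), ev φ (a ⊗ₜ[k] f) = φ.ofConv f • a := fun φ a f => by
    simp [ev, Algebra.ofId_apply, Algebra.smul_def, mul_comm]
  let b := Module.Free.chooseBasis k A
  have hcoef : ∀ (φ : WithConv (c.C →ₐ[k] k)) (y : A ⊗[k] c.C) j,
      φ.ofConv (TensorProduct.equivFinsuppOfBasisLeft b y j) = b.repr (ev φ y) j := by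
    intro φ y j
    induction y using TensorProduct.induction_on with
    | zero => simp
    | add x y hx hy => simp only [map_add, Finsupp.add_apply, hx, hy]
    | tmul a f => simp [hev, mul_comm]
  have hext : ∀ x y : A ⊗[k] c.C, (∀ φ, ev φ x = ev φ y) → x = y := fun x y h => by
    apply (TensorProduct.equivFinsuppOfBasisLeft b).injective
    ext j
    exact ext_pt fun φ => by rw [hcoef, hcoef, h]
  letI cA : HopfRep.Comod k c.C A := toComod c.e ρ
  let σ (φ : WithConv (c.C →ₐ[k] k)) : A →ₐ[k] A := (ev φ).comp δ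
  have hσ : ∀ φ a, σ φ a = RedLR.ptAct A φ a := by
    intro φ a
    conv_rhs => rw [← toConv_ofConv φ, RedLR.ptAct_eq_act]
    show ev φ (coactMap c.e ρ a) = TensorProduct.rid k A (φ.ofConv.toLinearMap.lTensor A (coactMap c.e ρ a))
    generalize coactMap c.e ρ a = t
    induction t using TensorProduct.induction_on with
    | zero => simp
    | add x y hx hy => simp only [map_add, hx, hy]
    | tmul a f => simp [hev]
  have hσm : ∀ φ ψ a, σ (φ * ψ) a = σ φ (σ ψ a) := fun φ ψ a => by rw [hσ, hσ, hσ, act_mul_apply]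
  have hσ1 : ∀ a, σ 1 a = a := fun a => by rw [hσ, act_one_apply]
  -- the twist
  let Θ : A ⊗[k] c.C →ₐ[k] A ⊗[k] c.C :=
    Algebra.TensorProduct.lift δ Algebra.TensorProduct.includeRight fun _ _ => Commute.all _ _
  let Θ' : A ⊗[k] c.C →ₐ[k] A ⊗[k] c.C :=
    Algebra.TensorProduct.lift ((Algebra.TensorProduct.map (AlgHom.id k A) (HopfAlgebra.antipodeAlgHom k c.C)).comp δ)
      Algebra.TensorProduct.includeRight fun _ _ => Commute.all _ _
  have hΘ : ∀ φ x, ev φ (Θ x) = σ φ (ev φ x) := by
    intro φ x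
    induction x using TensorProduct.induction_on with
    | zero => simp
    | add x y hx hy => simp only [map_add, hx, hy]
    | tmul a f =>
      simp only [Θ, Algebra.TensorProduct.lift_tmul, map_mul, Algebra.TensorProduct.includeRight_apply, hev, map_smul]
      show σ φ a * _ = _
      simp [mul_comm]
  have hΘ' : ∀ φ x, ev φ (Θ' x) = σ φ⁻¹ (ev φ x) := by
    intro φ x
    induction x using TensorProduct.induction_on with
    | zero => simp
    | add x y hx hy => simp only [map_add, hx, hy]
    | tmul a f =>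
      simp only [Θ', Algebra.TensorProduct.lift_tmul, map_mul, Algebra.TensorProduct.includeRight_apply, hev, map_smul,
        AlgHom.comp_apply]
      have h : ∀ t : A ⊗[k] c.C, ev φ (Algebra.TensorProduct.map (AlgHom.id k A) (HopfAlgebra.antipodeAlgHom k c.C) t) =
          ev φ⁻¹ t := by
        intro t
        induction t using TensorProduct.induction_on with
        | zero => simp
        | add x y hx hy => simp only [map_add, hx, hy]
        | tmul a f => simp [hev, WeilAff.Unip.inv_apply]
      rw [h]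
      show σ φ⁻¹ a * _ = _
      simp [mul_comm]
  -- the equivariant functions
  let R : Subalgebra k (A ⊗[k] c.C) :=
    { carrier := {y | ∀ ψ ∈ SG c.π, ∀ φ, ev (ψ * φ) y = σ ψ (ev φ y)}
      mul_mem' := fun {x y} hx hy ψ hψ φ => by rw [map_mul, map_mul, map_mul, hx ψ hψ φ, hy ψ hψ φ]
      add_mem' := fun {x y} hx hy ψ hψ φ => by rw [map_add, map_add, map_add, hx ψ hψ φ, hy ψ hψ φ]
      algebraMap_mem' := fun r ψ _ φ => by rw [AlgHom.commutes, AlgHom.commutes, AlgHom.commutes] }
  have hinvol : ∀ f : c.C, HopfAlgebra.antipodeAlgHom k c.C (HopfAlgebra.antipodeAlgHom k c.C f) = f := fun f =>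
    ext_pt fun (φ : WithConv (c.C →ₐ[k] k)) => by
      rw [← WeilAff.Unip.inv_apply, ← WeilAff.Unip.inv_apply, _root_.inv_inv]
  have hΘR : ∀ x, (∀ ψ ∈ SG c.π, ∀ φ, ev (ψ * φ) x = ev φ x) → Θ x ∈ R := fun x hx ψ hψ φ => by
    rw [hΘ, hΘ, hσm, hx ψ hψ φ]
  -- it is finitely generated
  obtain ⟨sA, hsA⟩ := (inferInstance : Algebra.FiniteType k A).out
  let gens : Finset (A ⊗[k] c.C) :=
    sA.image (fun a => Θ (a ⊗ₜ[k] (1 : c.C))) ∪
      s.image (fun f => Θ ((1 : A) ⊗ₜ[k] HopfAlgebra.antipodeAlgHom k c.C f))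
  have hgens : (↑gens : Set (A ⊗[k] c.C)) ⊆ R := by
    simp only [gens, Finset.coe_union, Finset.coe_image, Set.union_subset_iff]
    refine ⟨?_, ?_⟩
    · rintro _ ⟨a, -, rfl⟩
      exact hΘR _ fun ψ _ φ => by simp [hev]
    · rintro _ ⟨f, hf, rfl⟩
      refine hΘR _ fun ψ hψ φ => ?_
      rw [hev, hev]
      congr 1
      rw [← WeilAff.Unip.inv_apply, ← WeilAff.Unip.inv_apply, _root_.mul_inv_rev, ← apply_rt,
        hs hf _ ((SG c.π).inv_mem hψ)]
  have hRle : R ≤ Algebra.adjoin k (↑gens : Set (A ⊗[k] c.C)) := by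
    intro y hy
    have hx : ∀ ψ ∈ SG c.π, ∀ φ, ev (ψ * φ) (Θ' y) = ev φ (Θ' y) := fun ψ hψ φ => by
      rw [hΘ', hΘ', hy ψ hψ φ, ← hσm, _root_.mul_inv_rev, _root_.mul_assoc, inv_mul_cancel, _root_.mul_one]
    have hy' : Θ (Θ' y) = y := hext _ _ fun φ => by rw [hΘ, hΘ', ← hσm, mul_inv_cancel, hσ1]
    rw [← hy', ← (TensorProduct.equivFinsuppOfBasisLeft b).symm_apply_apply (Θ' y),
      TensorProduct.equivFinsuppOfBasisLeft_symm_apply, map_finsuppSum]
    refine Subalgebra.sum_mem _ fun j _ => ?_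
    show Θ (b j ⊗ₜ[k] TensorProduct.equivFinsuppOfBasisLeft b (Θ' y) j) ∈ _
    rw [show b j ⊗ₜ[k] TensorProduct.equivFinsuppOfBasisLeft b (Θ' y) j =
      (b j ⊗ₜ[k] (1 : c.C)) * ((1 : A) ⊗ₜ[k] TensorProduct.equivFinsuppOfBasisLeft b (Θ' y) j) by simp, map_mul]
    refine Subalgebra.mul_mem _ ?_ ?_
    · have h1 : b j ∈ Algebra.adjoin k (↑sA : Set A) := by rw [hsA]; exact Algebra.mem_top
      have h2 : Algebra.adjoin k (↑sA : Set A) ≤
          (Algebra.adjoin k (↑gens : Set (A ⊗[k] c.C))).comap (Θ.comp Algebra.TensorProduct.includeLeft) :=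
        Algebra.adjoin_le fun a ha => Algebra.subset_adjoin
          (Finset.mem_coe.2 (Finset.mem_union_left _ (Finset.mem_image_of_mem _ ha)))
      exact h2 h1
    · let f := TensorProduct.equivFinsuppOfBasisLeft b (Θ' y) j
      have hf : HopfAlgebra.antipodeAlgHom k c.C f ∈ Inv (SG c.π) := fun h hh => ext_pt fun x => by
        rw [apply_rt, ← WeilAff.Unip.inv_apply, ← WeilAff.Unip.inv_apply, _root_.mul_inv_rev, hcoef, hcoef,
          hx _ ((SG c.π).inv_mem hh)]
      have h2 : Algebra.adjoin k (↑s : Set c.C) ≤ (Algebra.adjoin k (↑gens : Set (A ⊗[k] c.C))).comap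
          ((Θ.comp Algebra.TensorProduct.includeRight).comp (HopfAlgebra.antipodeAlgHom k c.C)) :=
        Algebra.adjoin_le fun a ha => Algebra.subset_adjoin
          (Finset.mem_coe.2 (Finset.mem_union_right _ (Finset.mem_image_of_mem _ ha)))
      have h3 := h2 (hle hf)
      rw [Subalgebra.mem_comap, AlgHom.comp_apply, AlgHom.comp_apply, hinvol] at h3
      exact h3
  haveI : Algebra.FiniteType k R :=
    (Subalgebra.fg_iff_finiteType _).1 ⟨gens, le_antisymm (Algebra.adjoin_le hgens) hRle⟩
  -- the action on it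
  letI cN : HopfRep.Comod k c.C (A ⊗[k] c.C) := freeComod A
  have hact : ∀ (φ : c.C →ₐ[k] k) y φ', ev φ' (HopfRep.Comod.act k c.C (A ⊗[k] c.C) φ y) = ev (φ' * toConv φ) y := by
    intro φ y φ'
    rw [act_freeComod]
    induction y using TensorProduct.induction_on with
    | zero => simp
    | add x y hx hy => simp only [map_add, hx, hy]
    | tmul a f => rw [LinearMap.lTensor_tmul, hev, hev, act_eq_rt, apply_rt]
  have hW : HopfRep.IsSubcomod (k := k) (A := c.C) (Subalgebra.toSubmodule R) :=
    Chev.ProjRep.isSubcomod_of_forall_act _ fun φ y hy ψ hψ φ' => by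
      rw [hact, hact, _root_.mul_assoc, hy ψ hψ]
  letI cR : HopfRep.Comod k c.C R := ComodSub.Comod.restr cN (Subalgebra.toSubmodule R) hW
  let δN : A ⊗[k] c.C →ₐ[k] (A ⊗[k] c.C) ⊗[k] c.C :=
    (Algebra.TensorProduct.assoc k k k A c.C c.C).symm.toAlgHom.comp
      (Algebra.TensorProduct.map (AlgHom.id k A) (Bialgebra.comulAlgHom k c.C))
  have hδN : ∀ y, cN.coact y = δN y := by
    intro y
    induction y using TensorProduct.induction_on with
    | zero => simp
    | add x y hx hy => simp only [map_add, hx, hy]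
    | tmul a f =>
      show (TensorProduct.assoc k A c.C c.C).symm (a ⊗ₜ[k] CoalgebraStruct.comul (R := k) f) =
        (Algebra.TensorProduct.assoc k k k A c.C c.C).symm (a ⊗ₜ[k] CoalgebraStruct.comul (R := k) f)
      generalize CoalgebraStruct.comul (R := k) f = t
      induction t using TensorProduct.induction_on with
      | zero => simp
      | add x y hx hy => simp only [TensorProduct.tmul_add, map_add, hx, hy]
      | tmul p q => simp
  have hsub : ∀ r : R, (R.val.toLinearMap.rTensor c.C) (cR.coact r) = δN r := fun r => by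
    rw [← hδN]
    have h := LinearMap.congr_fun (ComodSub.isComodHom_subtype cN (Subalgebra.toSubmodule R) hW) r
    simp only [LinearMap.comp_apply] at h
    exact h.symm
  let I : R ⊗[k] c.C →ₐ[k] (A ⊗[k] c.C) ⊗[k] c.C := Algebra.TensorProduct.map R.val (AlgHom.id k c.C)
  have hI : ∀ t, I t = R.val.toLinearMap.rTensor c.C t := fun t => by
    induction t using TensorProduct.induction_on with
    | zero => simp
    | add x y hx hy => simp only [map_add, hx, hy]
    | tmul p q => simp [I]
  have hIi : Function.Injective I := fun x y h => by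
    rw [hI, hI] at h
    exact Module.Flat.rTensor_preserves_injective_linearMap (M := c.C) R.val.toLinearMap Subtype.val_injective h
  let δR : R →ₐ[k] R ⊗[k] c.C := AlgHom.ofLinearMap cR.coact
    (hIi ((hI _).trans ((hsub 1).trans ((map_one δN).trans (map_one I).symm))))
    (fun x y => hIi (by
      refine Eq.trans ?_ (map_mul I (cR.coact x) (cR.coact y)).symm
      rw [hI (cR.coact (x * y)), hI (cR.coact x), hI (cR.coact y), hsub, hsub, hsub]
      exact map_mul δN _ _))
  have hmult : (ofComod c.e R).IsMult := isMult_ofComod_of_algHom c.e δR fun _ => rfl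
  obtain ⟨t, ht, hadj⟩ := thmA G hG R (ofComod c.e R) hmult inferInstance
  -- the invariants
  let π : R →ₐ[k] A := (ev 1).comp R.val
  have hfix : ∀ r : R, r ∈ (ofComod c.e R).fixedUnder (𝟙 G) → ∀ φ : WithConv (c.C →ₐ[k] k),
      ev φ (r : A ⊗[k] c.C) = π r := by
    intro r hr φ
    have h1 := congrArg (TensorProduct.lid k R) (hr k (pnt c.e φ.ofConv))
    rw [Category.comp_id, lid_ofComod, RedLR.ptAct_eq_act, TensorProduct.lid_tmul, one_smul] at h1
    have h2 : HopfRep.Comod.act k c.C (A ⊗[k] c.C) φ.ofConv (r : A ⊗[k] c.C) = r := by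
      conv_rhs => rw [← h1]
      show TensorProduct.rid k _ (φ.ofConv.toLinearMap.lTensor _ (cN.coact r.1)) =
        R.val.toLinearMap (TensorProduct.rid k _ (φ.ofConv.toLinearMap.lTensor _ (cR.coact r)))
      rw [hδN, ← hsub]
      generalize cR.coact r = t
      induction t using TensorProduct.induction_on with
      | zero => simp
      | add x y hx hy => simp only [map_add, hx, hy]
      | tmul p q => simp
    show _ = ev 1 (r : A ⊗[k] c.C)
    conv_rhs => rw [← h2, hact, toConv_ofConv, _root_.one_mul]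
  refine (Subalgebra.fg_iff_finiteType _).1 ⟨t.image π, le_antisymm ?_ ?_⟩
  · rw [Algebra.adjoin_le_iff, Finset.coe_image]
    rintro _ ⟨r, hr, rfl⟩
    have hpt : ∀ ψ ∈ SG c.π, σ ψ (π r) = π r := fun ψ hψ => by
      rw [← hfix r (ht hr) 1, ← r.2 ψ hψ 1, hfix r (ht hr), hfix r (ht hr)]
    intro B _ _ h
    obtain ⟨ψ, rfl⟩ := exists_eq_pnt c.e' h
    rw [c.comp, rho_pnt]
    have hcoinv : (c.π : c.C →ₐ[k] c.D).toLinearMap.lTensor A (coactMap c.e ρ (π r)) = π r ⊗ₜ[k] (1 : c.D) := by
      apply (TensorProduct.equivFinsuppOfBasisLeft b).injective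
      ext j
      refine ext_pt fun (χ : WithConv (c.D →ₐ[k] k)) => ?_
      have key : ∀ u : A ⊗[k] c.C, χ.ofConv (TensorProduct.equivFinsuppOfBasisLeft b
          ((c.π : c.C →ₐ[k] c.D).toLinearMap.lTensor A u) j) = b.repr (ev (resPt c.π χ) u) j := by
        intro u
        induction u using TensorProduct.induction_on with
        | zero => simp
        | add x y hx hy => simp only [map_add, Finsupp.add_apply, hx, hy]
        | tmul a f => simp [hev, mul_comm, resPt]
      rw [key, show ev (resPt c.π χ) (coactMap c.e ρ (π r)) = σ (resPt c.π χ) (π r) from rfl, hpt _ ⟨χ, rfl⟩]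
      simp
    have hw : ∀ u : A ⊗[k] c.C, VecGrp.Wmap (ψ.comp (c.π : c.C →ₐ[k] c.D)) ((TensorProduct.comm k c.C A).symm u) =
        VecGrp.Wmap ψ ((TensorProduct.comm k c.D A).symm ((c.π : c.C →ₐ[k] c.D).toLinearMap.lTensor A u)) := by
      intro u
      induction u using TensorProduct.induction_on with
      | zero => simp
      | add x y hx hy => simp only [map_add, hx, hy]
      | tmul a f => simp [VecGrp.Wmap_tmul]
    rw [hw, hcoinv]
    simp [VecGrp.Wmap_tmul]
  · intro a ha
    have hmem : a ⊗ₜ[k] (1 : c.C) ∈ R := fun ψ hψ φ => by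
      obtain ⟨χ, rfl⟩ := hψ
      rw [hev, hev]
      simp only [map_one, one_smul]
      rw [hσ]
      have h1 := congrArg (TensorProduct.lid k A) (ha k (pnt c.e' χ.ofConv))
      rw [c.comp, rho_pnt, TensorProduct.lid_tmul, one_smul] at h1
      refine h1.symm.trans ?_
      rw [show RedLR.ptAct A (resPt c.π χ) a = σ (resPt c.π χ) a from (hσ _ _).symm]
      show _ = ev _ (coactMap c.e ρ a)
      generalize coactMap c.e ρ a = u
      induction u using TensorProduct.induction_on with
      | zero => simp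
      | add x y hx hy => simp only [map_add, hx, hy]
      | tmul p q => simp [hev, VecGrp.Wmap_tmul, resPt]
    have hfx : (⟨_, hmem⟩ : R) ∈ (ofComod c.e R).fixedUnder (𝟙 G) := by
      intro B _ _ h
      obtain ⟨φ, rfl⟩ := exists_eq_pnt c.e h
      rw [Category.comp_id, ofComod_pnt]
      have h3 : cR.coact ⟨_, hmem⟩ = (⟨_, hmem⟩ : R) ⊗ₜ[k] (1 : c.C) := hIi (by
        rw [hI, hsub]
        show (Algebra.TensorProduct.assoc k k k A c.C c.C).symm (a ⊗ₜ[k] CoalgebraStruct.comul (R := k) (1 : c.C)) = _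
        rw [Bialgebra.comul_one, Algebra.TensorProduct.one_def]
        simp [I])
      rw [show HopfRep.Comod.coact (k := k) (A := c.C) (⟨_, hmem⟩ : R) = _ from h3]
      simp
    have h4 := hadj hfx
    have h5 : Algebra.adjoin k (↑t : Set R) ≤ (Algebra.adjoin k (↑(t.image π) : Set A)).comap π :=
      Algebra.adjoin_le fun x hx => Algebra.subset_adjoin (Finset.mem_coe.2 (Finset.mem_image_of_mem _ hx))
    have h6 := h5 h4
    rw [Subalgebra.mem_comap] at h6
    simpa [π, hev] using h6

end Groth.Agent.GModLib
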