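import Groth.Agent.GModLib.Transfer
import Groth.Agent.GModLib.GrossTrans

/-!
The transfer principle on groups.
-/

set_option autoImplicit false
set_option backward.isDefEq.respectTransparency false
set_option maxHeartbeats 1000000
set_option synthInstance.maxHeartbeats 200000
set_option linter.unusedSectionVars false
set_option linter.style.haveILetI false

universe u

open CategoryTheory MonoidalCategory CartesianMonoidalCategory MonObj GrpObj AlgebraicGeometry
open TensorProduct WithConv

noncomputable section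

namespace Groth.Agent.GModLib

variable {k : Type u} [Field k] [IsAlgClosed k]
variable {G H : Over (Spec (CommRingCat.of k))} [GrpObj G] [GrpObj H] {i : H ⟶ G} [IsMonHom i]

theorem Coords.fnC_const (c : Coords G H i) (x : k) :
    fnC c.e (G.hom.appTop ((Scheme.ΓSpecIso (CommRingCat.of k)).inv x)) = algebraMap k c.C x := by
  have h2 : c.e.hom.left ≫ G.hom = Spec.map (CommRingCat.ofHom (algebraMap k c.C)) := Over.w c.e.hom
  show (Scheme.ΓSpecIso (CommRingCat.of c.C)).hom (c.e.hom.left.appTop (G.hom.appTop _)) = _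
  rw [← GmPts.appTop_comp_apply, h2]
  refine (congr($(Scheme.ΓSpecIso_naturality (CommRingCat.ofHom (algebraMap k c.C))) _)).trans ?_
  exact congrArg (algebraMap k c.C) congr($((Scheme.ΓSpecIso (CommRingCat.of k)).inv_hom_id) x)

/-- finite generation read on the algebra -/
theorem Coords.subringFGOver_iff (c : Coords G H i) :
    AGF.SubringFGOver k G (AGF.rTransInv i) ↔
      ∃ s : Finset c.C, (↑s : Set c.C) ⊆ Inv (SG c.π) ∧ Inv (SG c.π) ≤ Algebra.adjoin k (↑s : Set c.C) := by
  classical
  have hbij := fnC_bijective c.e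
  constructor
  · rintro ⟨s, hs, hle⟩
    refine ⟨s.image (fnC c.e), ?_, fun a ha => ?_⟩
    · rw [Finset.coe_image]
      rintro _ ⟨f, hf, rfl⟩
      exact (c.rTransInv_iff_mem f).1 (hs hf)
    · obtain ⟨f, rfl⟩ := hbij.2 a
      refine (Subring.closure_le
        (t := (Algebra.adjoin k (↑(s.image (fnC c.e)) : Set c.C)).toSubring.comap (fnC c.e))).2 ?_
        (hle ((c.rTransInv_iff_mem f).2 ha))
      rintro x (⟨r, rfl⟩ | hx)
      · show fnC c.e _ ∈ Algebra.adjoin k _
        rw [c.fnC_const]
        exact Subalgebra.algebraMap_mem _ _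
      · exact Algebra.subset_adjoin (Finset.mem_coe.2 (Finset.mem_image_of_mem _ hx))
  · rintro ⟨s, hs, hs'⟩
    choose pre hpre using hbij.2
    refine ⟨s.image pre, ?_, fun f hf => ?_⟩
    · rw [Finset.coe_image]
      rintro _ ⟨a, ha, rfl⟩
      refine (c.rTransInv_iff_mem _).2 ?_
      rw [hpre]
      exact hs ha
    · have h1 : fnC c.e f ∈ Algebra.adjoin k (↑s : Set c.C) := hs' ((c.rTransInv_iff_mem f).1 hf)
      let T : Subring Γ(G.left, ⊤) := Subring.closure
        (Set.range (fun c : k => G.hom.appTop ((Scheme.ΓSpecIso (CommRingCat.of k)).inv c)) ∪ ↑(s.image pre))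
      have h3 : (Algebra.adjoin k (↑s : Set c.C)).toSubring ≤ T.map (fnC c.e) := by
        rw [Algebra.adjoin_eq_ring_closure, Subring.closure_le]
        rintro _ (⟨x, rfl⟩ | hx)
        · exact ⟨_, Subring.subset_closure (Or.inl ⟨x, rfl⟩), c.fnC_const x⟩
        · exact ⟨_, Subring.subset_closure (Or.inr (Finset.mem_coe.2 (Finset.mem_image_of_mem pre hx))), hpre _⟩
      obtain ⟨f', hf', hff'⟩ := h3 h1
      rw [← hbij.1 hff']
      exact hf'

/-- **transfer for groups** -/
theorem subringFGOver_iff_forall (c : Coords G H i) (hG : VecGrp.IsReductiveGrp k G)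
    (thmA : VecGrp.ReductiveInvariantsFG k) :
    AGF.SubringFGOver k G (AGF.rTransInv i) ↔ ∀ (A : Type u) [CommRing A] [Algebra k A] [Algebra.FiniteType k A]
      (ρ : VecGrp.GMod G A) (hρ : ρ.IsMult), Algebra.FiniteType k ↥(ρ.fixedSubalgebra hρ i) := by
  rw [c.subringFGOver_iff]
  refine ⟨fun h A _ _ _ ρ hρ => finiteType_fixedSubalgebra c hG thmA h A ρ hρ, fun h => ?_⟩
  have hm := isMult_res (ofComod c.e c.C) (isMult_regular c.e) i
  have he : (ofComod c.e c.C).fixedSubalgebra (isMult_regular c.e) i = Inv (SG c.π) := by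
    rw [← RedQuotAff.fixedSubalgebra_eq c hm]
    refine SetLike.ext fun a => forall_congr' fun B => forall_congr' fun _ => forall_congr' fun _ => forall_congr' fun q => ?_
    show _ ↔ (ofComod c.e c.C).ρ B ((q ≫ 𝟙 H) ≫ i) _ = _
    rw [Category.comp_id]
  obtain ⟨s, hs⟩ := (Subalgebra.fg_iff_finiteType _).2 (h c.C (ofComod c.e c.C) (isMult_regular c.e))
  rw [he] at hs
  exact ⟨s, hs ▸ Algebra.subset_adjoin, hs.ge⟩

end Groth.Agent.GModLib
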