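import Groth.Agent.RedLR.Unip
import Groth.Agent.Comod.Transfer
import Groth.Agent.GLinChar.Units
import Groth.Prelude.Def_ComodSub
import Groth.Prelude.Def_VecGrp
import Groth.Prelude.Def_W4bk4grossh1223Act

/-!
# Group modules over an affine group as comodules; fixed vectors of unipotent groups
-/

set_option autoImplicit false
set_option linter.style.haveILetI false
set_option backward.isDefEq.respectTransparency false

universe u

open CategoryTheory CategoryTheory.Limits MonoidalCategory CartesianMonoidalCategory MonObj GrpObj AlgebraicGeometry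
open TensorProduct WithConv

noncomputable section

namespace Groth.Agent.GModLib

variable {k : Type u} [Field k] {C : Type u} [CommRing C] [HopfAlgebra k C]
variable {G : Over (Spec (CommRingCat.of k))} [GrpObj G]
variable (e : (Spec (CommRingCat.of C)).asOver (Spec (CommRingCat.of k)) ≅ G)

/-- The point of an algebra map. -/
def pnt {B : Type u} [CommRing B] [Algebra k B] (φ : C →ₐ[k] B) : VecGrp.pt k B ⟶ G :=
  Spec.mapMulEquiv (toConv φ) ≫ e.hom

theorem ptMap_pnt {B B' : Type u} [CommRing B] [Algebra k B] [CommRing B'] [Algebra k B']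
    (φ : C →ₐ[k] B) (ψ : B →ₐ[k] B') : VecGrp.ptMap ψ ≫ pnt e φ = pnt e (ψ.comp φ) := by
  refine Over.OverMorphism.ext ?_
  show Spec.map (CommRingCat.ofHom ψ.toRingHom) ≫ Spec.map (CommRingCat.ofHom φ.toRingHom) ≫ e.hom.left =
    Spec.map (CommRingCat.ofHom (ψ.comp φ).toRingHom) ≫ e.hom.left
  rw [← Spec.map_comp_assoc]
  rfl

theorem exists_eq_pnt {B : Type u} [CommRing B] [Algebra k B] (g : VecGrp.pt k B ⟶ G) :
    ∃ φ : C →ₐ[k] B, pnt e φ = g := by
  let g' : (Spec (CommRingCat.of B)).asOver (Spec (CommRingCat.of k)) ⟶ G := g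
  refine ⟨((Spec.mapMulEquiv (S := C)).symm (g' ≫ e.inv)).ofConv, ?_⟩
  show Spec.mapMulEquiv ((Spec.mapMulEquiv (S := C)).symm (g' ≫ e.inv)) ≫ e.hom = g'
  rw [MulEquiv.apply_symm_apply, Category.assoc, e.inv_hom_id, Category.comp_id]

variable [IsMonHom e.hom]

theorem pnt_mul {B : Type u} [CommRing B] [Algebra k B] (φ ψ : C →ₐ[k] B) :
    pnt e (toConv φ * toConv ψ).ofConv = pnt e φ * pnt e ψ := by
  show Spec.mapMulEquiv (toConv φ * toConv ψ) ≫ e.hom = _
  rw [map_mul, MonObj.mul_comp]
  rfl

theorem pnt_one {B : Type u} [CommRing B] [Algebra k B] :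
    pnt e (1 : WithConv (C →ₐ[k] B)).ofConv = 1 := by
  show Spec.mapMulEquiv (1 : WithConv (C →ₐ[k] B)) ≫ e.hom = _
  rw [map_one, MonObj.one_comp]

variable {M : Type u} [AddCommGroup M] [Module k M] (ρ : VecGrp.GMod G M)

/-- The coaction of a group module. -/
def coactMap : M →ₗ[k] M ⊗[k] C :=
  (TensorProduct.comm k C M).toLinearMap ∘ₗ
    ((ρ.ρ C (pnt e (AlgHom.id k C))).toLinearMap.restrictScalars k) ∘ₗ TensorProduct.mk k C M 1

theorem rho_one_tmul (v : M) :
    ρ.ρ C (pnt e (AlgHom.id k C)) ((1 : C) ⊗ₜ[k] v) = (TensorProduct.comm k C M).symm (coactMap e ρ v) := by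
  simp [coactMap]

theorem rho_pnt {B : Type u} [CommRing B] [Algebra k B] (φ : C →ₐ[k] B) (v : M) :
    ρ.ρ B (pnt e φ) ((1 : B) ⊗ₜ[k] v) = VecGrp.Wmap φ ((TensorProduct.comm k C M).symm (coactMap e ρ v)) := by
  rw [← rho_one_tmul, ρ.naturality, ptMap_pnt, VecGrp.Wmap_tmul, map_one, AlgHom.comp_id]

theorem rho_smul_tmul {B : Type u} [CommRing B] [Algebra k B] (φ : C →ₐ[k] B) (b : B) (v : M) :
    ρ.ρ B (pnt e φ) (b ⊗ₜ[k] v) = b • VecGrp.Wmap φ ((TensorProduct.comm k C M).symm (coactMap e ρ v)) := by
  rw [← rho_pnt, ← map_smul, TensorProduct.smul_tmul', smul_eq_mul, _root_.mul_one]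

theorem comul_eq : toConv (Algebra.TensorProduct.includeLeft : C →ₐ[k] C ⊗[k] C) *
    toConv (Algebra.TensorProduct.includeRight : C →ₐ[k] C ⊗[k] C) = toConv (Bialgebra.comulAlgHom k C) := by
  apply WithConv.ext
  apply AlgHom.ext
  intro c
  show (toConv (Algebra.TensorProduct.includeLeft : C →ₐ[k] C ⊗[k] C) *
    toConv (Algebra.TensorProduct.includeRight : C →ₐ[k] C ⊗[k] C)) c = _
  rw [AlgHom.convMul_apply]
  show _ = CoalgebraStruct.comul (R := k) c
  generalize CoalgebraStruct.comul (R := k) c = t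
  induction t using TensorProduct.induction_on with
  | zero => simp
  | tmul a b => simp
  | add x y hx hy => simp only [map_add, hx, hy]

/-- The comodule of a group module. -/
@[reducible]
def toComod : HopfRep.Comod k C M where
  coact := coactMap e ρ
  coassoc := by
    apply LinearMap.ext
    intro v
    have key : ρ.ρ (C ⊗[k] C) (pnt e (Bialgebra.comulAlgHom k C)) ((1 : C ⊗[k] C) ⊗ₜ[k] v) =
        ρ.ρ (C ⊗[k] C) (pnt e Algebra.TensorProduct.includeLeft)
          (ρ.ρ (C ⊗[k] C) (pnt e Algebra.TensorProduct.includeRight) ((1 : C ⊗[k] C) ⊗ₜ[k] v)) := by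
      rw [← LinearEquiv.mul_apply, ← map_mul, ← pnt_mul, comul_eq]
    rw [rho_pnt, rho_pnt] at key
    have h1 : ∀ t : M ⊗[k] C, ρ.ρ (C ⊗[k] C) (pnt e Algebra.TensorProduct.includeLeft)
        (VecGrp.Wmap Algebra.TensorProduct.includeRight ((TensorProduct.comm k C M).symm t)) =
        (TensorProduct.comm k (C ⊗[k] C) M).symm
          (TensorProduct.assoc k M C C ((coactMap e ρ).rTensor C t)) := by
      intro t
      induction t using TensorProduct.induction_on with
      | zero => simp
      | add x y hx hy => simp only [map_add, hx, hy]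
      | tmul m c =>
        rw [TensorProduct.comm_symm_tmul, VecGrp.Wmap_tmul, rho_smul_tmul, LinearMap.rTensor_tmul]
        generalize coactMap e ρ m = s
        induction s using TensorProduct.induction_on with
        | zero => simp
        | add x y hx hy => simp only [map_add, smul_add, TensorProduct.add_tmul, hx, hy]
        | tmul m' c' =>
          simp [VecGrp.Wmap_tmul, TensorProduct.smul_tmul', Algebra.TensorProduct.tmul_mul_tmul]
    have h2 : ∀ t : M ⊗[k] C, VecGrp.Wmap (Bialgebra.comulAlgHom k C) ((TensorProduct.comm k C M).symm t) =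
        (TensorProduct.comm k (C ⊗[k] C) M).symm ((CoalgebraStruct.comul (R := k) (A := C)).lTensor M t) := by
      intro t
      induction t using TensorProduct.induction_on with
      | zero => simp
      | add x y hx hy => simp only [map_add, hx, hy]
      | tmul m c => simp [VecGrp.Wmap_tmul]
    rw [h1, h2] at key
    exact ((TensorProduct.comm k (C ⊗[k] C) M).symm.injective key).symm
  counit_comp := by
    apply LinearMap.ext
    intro v
    have key : ρ.ρ k (pnt e (Bialgebra.counitAlgHom k C)) ((1 : k) ⊗ₜ[k] v) = (1 : k) ⊗ₜ[k] v := by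
      have h : (toConv (Bialgebra.counitAlgHom k C) : WithConv (C →ₐ[k] k)) = 1 := by
        rw [AlgHom.convOne_def]
        congr 1
      rw [show Bialgebra.counitAlgHom k C = (1 : WithConv (C →ₐ[k] k)).ofConv from congrArg WithConv.ofConv h,
        pnt_one, map_one]
      rfl
    rw [rho_pnt] at key
    have h2 : ∀ t : M ⊗[k] C, VecGrp.Wmap (Bialgebra.counitAlgHom k C) ((TensorProduct.comm k C M).symm t) =
        (TensorProduct.comm k k M).symm ((CoalgebraStruct.counit (R := k) (A := C)).lTensor M t) := by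
      intro t
      induction t using TensorProduct.induction_on with
      | zero => simp
      | add x y hx hy => simp only [map_add, hx, hy]
      | tmul m c => simp [VecGrp.Wmap_tmul]
    rw [h2] at key
    refine (TensorProduct.comm k k M).symm.injective (key.trans ?_)
    simp

theorem mem_fixedUnder_of_coact {v : M} (hv : coactMap e ρ v = v ⊗ₜ[k] (1 : C)) : v ∈ ρ.fixedUnder (𝟙 G) := by
  intro B _ _ h
  obtain ⟨φ, rfl⟩ := exists_eq_pnt e h
  rw [Category.comp_id, rho_pnt, hv, TensorProduct.comm_symm_tmul, VecGrp.Wmap_tmul, map_one]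

/-- Restriction of a group module along a homomorphism. -/
def res {H : Over (Spec (CommRingCat.of k))} [GrpObj H] (i : H ⟶ G) [IsMonHom i] : VecGrp.GMod H M where
  ρ B _ _ :=
    { toFun := fun h => ρ.ρ B (h ≫ i)
      map_one' := by rw [MonObj.one_comp, map_one]
      map_mul' := fun a b => by rw [MonObj.mul_comp, map_mul] }
  naturality φ g x := by
    show VecGrp.Wmap φ (ρ.ρ _ (g ≫ i) x) = ρ.ρ _ ((VecGrp.ptMap φ ≫ g) ≫ i) (VecGrp.Wmap φ x)
    rw [Category.assoc]
    exact ρ.naturality φ (g ≫ i) x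

/-- A smooth connected affine group without subtori fixes a nonzero vector of any nonzero stable subspace. -/
theorem exists_fixed_ne_zero [IsAlgClosed k] {H : Over (Spec (CommRingCat.of k))} [GrpObj H] [IsAffine H.left]
    [Smooth H.hom] [ConnectedSpace H.left] (hH : Red.HasNoSubtorus k H)
    {M : Type u} [AddCommGroup M] [Module k M] (ρ : VecGrp.GMod H M)
    {N : Type u} [AddCommGroup N] [Module k N] (f : M →ₗ[k] N)
    (hf : ∀ (h : VecGrp.pt k k ⟶ H) (x : M), f x = 0 → f.lTensor k (ρ.ρ k h ((1 : k) ⊗ₜ[k] x)) = 0)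
    (hne : ∃ x : M, x ≠ 0 ∧ f x = 0) : ∃ w : M, w ≠ 0 ∧ f w = 0 ∧ w ∈ ρ.fixedUnder (𝟙 H) := by
  classical
  obtain ⟨C, _, e, he⟩ := FinHopf.exists_hopf (R := CommRingCat.of k) H
  haveI := he
  haveI : IsIso e.hom.left := inferInstanceAs (IsIso ((Over.forget _).map e.hom))
  haveI : Algebra.FiniteType k C := by
    have h0 : LocallyOfFiniteType (e.hom.left ≫ H.hom) := inferInstance
    rw [Over.w e.hom] at h0
    exact RingHom.finiteType_algebraMap.1 ((HasRingHomProperty.Spec_iff (P := @LocallyOfFiniteType)).1 h0)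
  haveI : IsDomain C := Chev.Borel.isDomain_of_smooth_connected e
  have hU : HopfRep.IsUnipotent k C := RedLR.isUnipotent_of_hasNoSubtorus e hH
  letI cM : HopfRep.Comod k C M := toComod e ρ
  have hW : HopfRep.IsSubcomod (k := k) (A := C) (LinearMap.ker f) := by
    intro x hx
    have hex : Function.Exact ((LinearMap.ker f).subtype.rTensor C) (f.rangeRestrict.rTensor C) :=
      rTensor_exact C (fun y => by
        rw [← LinearMap.mem_ker, LinearMap.ker_rangeRestrict]
        exact ⟨fun h => ⟨⟨y, h⟩, rfl⟩, by rintro ⟨z, rfl⟩; exact z.2⟩) f.surjective_rangeRestrict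
    refine (hex _).1 ?_
    have hinj : Function.Injective ((LinearMap.range f).subtype.rTensor C) :=
      Module.Flat.rTensor_preserves_injective_linearMap _ Subtype.val_injective
    apply hinj
    rw [map_zero, ← LinearMap.rTensor_comp_apply]
    show f.rTensor C (coactMap e ρ x) = 0
    let b := Module.Free.chooseBasis k N
    apply (TensorProduct.equivFinsuppOfBasisLeft b).injective
    rw [map_zero]
    ext i
    rw [Finsupp.zero_apply]
    refine (nilpotent_iff_mem_prime.2 fun p hp =>
      haveI := hp; GLinChar.mem_of_forall_point k C fun φ _ => ?_).eq_zero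
    have h := hf (pnt e φ) x hx
    rw [rho_pnt] at h
    have key : ∀ t : M ⊗[k] C, φ (TensorProduct.equivFinsuppOfBasisLeft b (f.rTensor C t) i) =
        b.repr (TensorProduct.lid k N (f.lTensor k (VecGrp.Wmap φ ((TensorProduct.comm k C M).symm t)))) i := by
      intro t
      induction t using TensorProduct.induction_on with
      | zero => simp
      | add x y hx hy => simp only [map_add, Finsupp.add_apply, hx, hy]
      | tmul m c => simp [VecGrp.Wmap_tmul, mul_comm]
    rw [key, h, map_zero, map_zero, Finsupp.zero_apply]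
  obtain ⟨x, hx0, hx⟩ := hne
  obtain ⟨S, hS, hfin⟩ := Comod.exists_finite_subcomod_finset (K := k) (C := C) ({x} : Finset M)
  let U := Comod.subEquiv k C M ⟨LinearMap.ker f, hW⟩
  let V : Submodule k M := Comod.ofDSub (S ⊓ U)
  have hV : HopfRep.IsSubcomod (k := k) (A := C) V := Comod.isSubcomod_ofDSub _
  haveI := hfin
  haveI : Module.Finite k V := Submodule.finiteDimensional_of_le
    (show V ≤ Comod.ofDSub S by simp only [V, Comod.ofDSub_inf]; exact inf_le_left)
  have hxV : x ∈ V := ⟨hS x (Finset.mem_singleton_self x), hx⟩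
  haveI : Nontrivial V := ⟨⟨⟨x, hxV⟩, 0, fun h => hx0 congr($(h).1)⟩⟩
  letI cV : HopfRep.Comod k C V := ComodSub.Comod.restr cM V hV
  obtain ⟨w, hw, hw0⟩ := (Submodule.ne_bot_iff _).1 (hU V inferInstance inferInstance)
  refine ⟨w.1, fun h => hw0 (Subtype.ext h), w.2.2, mem_fixedUnder_of_coact e ρ ?_⟩
  have h3 := LinearMap.congr_fun (ComodSub.isComodHom_subtype cM V hV) w
  simp only [LinearMap.comp_apply] at h3
  rw [show cV.coact w = w ⊗ₜ[k] (1 : C) from hw] at h3
  exact h3.trans (by simp)

end Groth.Agent.GModLib
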